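import Cfsg.Agent.Lib.FusionBasics.Normal

/-!
Subgroups normal in a weakly normal subsystem: the join of their images is normal.
-/

set_option autoImplicit false
set_option linter.style.haveILetI false

namespace CfsgLib.FusionModels

open Cfsg Cfsg.FusionSystem CfsgLib.Alperin CfsgLib.FusionSub CfsgLib.FusionBasics

variable {Ω : Type*} [Group Ω] {S T : Subgroup Ω} [Finite S] {p : ℕ} [Fact p.Prime]

omit [Fact p.Prime] in
theorem isNormal_sup {F : FusionSystem S} {A B : Subgroup Ω} (hA : F.IsNormal A)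
    (hB : F.IsNormal B) : F.IsNormal (A ⊔ B) := by
  have hAS := hA.1
  have hBS := hB.1
  haveI := finite_of_le (sup_le hAS hBS)
  refine ⟨sup_le hAS hBS, fun P φ hφ => ?_⟩
  obtain ⟨φ₁, hφ₁, hx₁, hA₁⟩ := hA.2 P φ hφ
  obtain ⟨φ₂, hφ₂, hx₂, hB₂⟩ := hB.2 (P ⊔ A) φ₁ hφ₁
  have hle : P ⊔ (A ⊔ B) ≤ (P ⊔ A) ⊔ B := by rw [sup_assoc]
  set ψ := φ₂.comp (Subgroup.inclusion hle) with hψd
  have hψ : ψ ∈ F.Hom (P ⊔ (A ⊔ B)) := restrict_mem hφ₂ hle
  refine ⟨ψ, hψ, fun x => ?_, ?_⟩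
  · rw [← hx₁ x, ← hx₂ (Subgroup.inclusion le_sup_left x)]
    rfl
  · refine le_antisymm ?_ ?_
    · have h : A ⊔ B ≤ ((A ⊔ B).comap ψ).map (P ⊔ (A ⊔ B)).subtype := by
        refine sup_le (fun a ha => ⟨⟨a, Subgroup.mem_sup_right (Subgroup.mem_sup_left ha)⟩, ?_, rfl⟩)
          fun b hb => ⟨⟨b, Subgroup.mem_sup_right (Subgroup.mem_sup_right hb)⟩, ?_, rfl⟩
        · refine Subgroup.mem_sup_left ?_
          have h1 := hx₂ ⟨a, Subgroup.mem_sup_right ha⟩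
          show φ₂ _ ∈ A
          rw [show (Subgroup.inclusion hle ⟨a, Subgroup.mem_sup_right (Subgroup.mem_sup_left ha)⟩) =
            Subgroup.inclusion le_sup_left (⟨a, Subgroup.mem_sup_right ha⟩ : ↥(P ⊔ A)) from rfl, h1]
          exact hA₁.le ⟨_, Subgroup.mem_subgroupOf.mpr ha, rfl⟩
        · refine Subgroup.mem_sup_right ?_
          exact hB₂.le ⟨⟨b, Subgroup.mem_sup_right hb⟩, Subgroup.mem_subgroupOf.mpr hb, rfl⟩
      rintro _ ⟨z, hz, rfl⟩
      obtain ⟨w, hw, hwz⟩ := h (Subgroup.mem_subgroupOf.mp hz)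
      obtain rfl : w = z := Subtype.ext hwz
      exact hw
    · refine sup_le (fun a ha => ?_) fun b hb => ?_
      · obtain ⟨z, hz, rfl⟩ := hA₁.ge ha
        refine ⟨⟨z, Subgroup.mem_sup_right (Subgroup.mem_sup_left hz)⟩,
          Subgroup.mem_subgroupOf.mpr (Subgroup.mem_sup_left hz), ?_⟩
        exact hx₂ z
      · obtain ⟨z, hz, rfl⟩ := hB₂.ge hb
        exact ⟨⟨z, Subgroup.mem_sup_right (Subgroup.mem_sup_right hz)⟩,
          Subgroup.mem_subgroupOf.mpr (Subgroup.mem_sup_right hz), rfl⟩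

omit [Fact p.Prime] in
theorem isNormal_bot (F : FusionSystem S) : F.IsNormal ⊥ := by
  refine ⟨bot_le, fun P φ hφ => ⟨_, restrict_mem hφ (sup_le le_rfl bot_le), fun x => rfl, ?_⟩⟩
  rw [Subgroup.bot_subgroupOf, Subgroup.map_bot]

omit [Fact p.Prime] in
theorem isNormal_sSup {F : FusionSystem S} (s : Finset (Subgroup Ω))
    (h : ∀ A ∈ s, F.IsNormal A) : F.IsNormal (s.sup id) :=
  Finset.sup_induction (isNormal_bot F) (fun _ ha _ hb => isNormal_sup ha hb) h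

/-- The image of a subgroup of `T` under an automorphism of `T`. -/
def autImage (R : Subgroup Ω) (α : MulAut T) : Subgroup Ω :=
  (R.subgroupOf T).map (T.subtype.comp α.toMonoidHom)

omit [Finite S] in
theorem apply_mem_autImage {R : Subgroup Ω} (α : MulAut T) {x : Ω} (hx : x ∈ T) (hxR : x ∈ R) :
    ((α ⟨x, hx⟩ : T) : Ω) ∈ autImage R α :=
  ⟨⟨x, hx⟩, Subgroup.mem_subgroupOf.mpr hxR, rfl⟩

omit [Finite S] in
theorem autImage_le (R : Subgroup Ω) (α : MulAut T) : autImage R α ≤ T := by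
  rintro _ ⟨x, -, rfl⟩
  exact (α x).2

/-- Invariance moves subgroups normal in the subsystem to such subgroups. -/
theorem isNormal_autImage {F : FusionSystem S} {E : FusionSystem T} (hE : E.IsInvariantIn F)
    {R : Subgroup Ω} (hR : E.IsNormal R) {α : MulAut T} (hα : α ∈ F.autGroup T) :
    E.IsNormal (autImage R α) := by
  obtain ⟨-, hT, hinv, -⟩ := hE
  haveI := finite_of_le hT.1
  refine ⟨autImage_le R α, fun P φ hφ => ?_⟩
  have hPT : P ≤ T := dom_le hφ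
  have hφT : ∀ x : P, φ x ∈ T := apply_mem hφ
  set P₀ := autImage P α⁻¹ with hP₀
  obtain ⟨φ₀, hφ₀, hx₀⟩ := hinv P hPT φ hφ α⁻¹ (Subgroup.inv_mem _ hα)
  obtain ⟨ψ₀, hψ₀, hψx, hψR⟩ := hR.2 _ φ₀ hφ₀
  have hP₀R : P₀ ⊔ R ≤ T := sup_le (autImage_le _ _) hR.1
  obtain ⟨χ, hχ, hχx⟩ := hinv _ hP₀R ψ₀ hψ₀ α hα
  have hle : P ⊔ autImage R α ≤ autImage (P₀ ⊔ R) α := by
    refine sup_le (fun x hx => ?_) (Subgroup.map_mono fun x hx => ?_)
    · have h1 : ((α⁻¹ ⟨x, hPT hx⟩ : T) : Ω) ∈ P₀ ⊔ R :=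
        Subgroup.mem_sup_left (apply_mem_autImage α⁻¹ (hPT hx) hx)
      have h2 := apply_mem_autImage α (α⁻¹ ⟨x, hPT hx⟩).2 h1
      simpa using h2
    · exact Subgroup.mem_sup_right hx
  refine ⟨χ.comp (Subgroup.inclusion hle), restrict_mem hχ hle, fun x => ?_, ?_⟩
  · set u := α⁻¹ ⟨(x : Ω), hPT x.2⟩ with hu
    have hu0 : (u : Ω) ∈ P₀ := apply_mem_autImage α⁻¹ (hPT x.2) x.2
    have h1 := hx₀ x (hφT x) hu0
    have h2 : ψ₀ ⟨u, Subgroup.mem_sup_left hu0⟩ = ((α⁻¹ ⟨φ x, hφT x⟩ : T) : Ω) :=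
      (hψx ⟨u, hu0⟩).trans h1
    have hux : ((α ⟨u, u.2⟩ : T) : Ω) = (x : Ω) := by simp [hu]
    have h3 := hχx ⟨u, Subgroup.mem_sup_left hu0⟩ (apply_mem hψ₀ _)
      (apply_mem_autImage α u.2 (Subgroup.mem_sup_left hu0))
    have h5 : ((α ⟨ψ₀ ⟨u, Subgroup.mem_sup_left hu0⟩, apply_mem hψ₀ _⟩ : T) : Ω) = φ x := by
      rw [show α ⟨ψ₀ ⟨u, Subgroup.mem_sup_left hu0⟩, apply_mem hψ₀ _⟩ =
        α (α⁻¹ ⟨φ x, hφT x⟩) from congrArg α (Subtype.ext h2), MulAut.apply_inv_self]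
    refine Eq.trans ?_ (h3.trans h5)
    exact congrArg χ (Subtype.ext hux.symm)
  · refine le_antisymm ?_ ?_
    · rintro _ ⟨⟨z, hz'⟩, hz, rfl⟩
      obtain ⟨⟨w, hwT⟩, hw, hwz⟩ := Subgroup.mem_subgroupOf.mp hz
      subst hwz
      have hw' : w ∈ P₀ ⊔ R := Subgroup.mem_sup_right hw
      have h3 := hχx ⟨w, hw'⟩ (apply_mem hψ₀ _) (hle hz')
      refine Eq.mpr (congrArg (· ∈ autImage R α) (show _ = _ from h3)) ?_
      exact apply_mem_autImage α _ (hψR.le ⟨⟨w, hw'⟩, hw, rfl⟩)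
    · rintro _ ⟨⟨w, hwT⟩, hw, rfl⟩
      obtain ⟨z, hz, hzw⟩ := hψR.ge (Subgroup.mem_subgroupOf.mp hw)
      have hz' : (z : Ω) ∈ R := hz
      have hzm := apply_mem_autImage α (hR.1 hz') hz'
      refine ⟨⟨_, Subgroup.mem_sup_right hzm⟩, hzm, ?_⟩
      refine (hχx z (apply_mem hψ₀ _) (hle (Subgroup.mem_sup_right hzm))).trans ?_
      exact congrArg (fun v : T => ((α v : T) : Ω)) (Subtype.ext hzw)

/-- A subgroup normal in the subsystem and invariant under `Aut_F(T)` is strongly closed in `F`. -/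
theorem stronglyClosed_of_invariant {F : FusionSystem S} {E : FusionSystem T}
    (hE : E.IsInvariantIn F) {U : Subgroup Ω} (hU : E.IsNormal U)
    (hUinv : ∀ α ∈ F.autGroup T, ∀ x : T, (x : Ω) ∈ U → ((α x : T) : Ω) ∈ U) :
    F.StronglyClosed U := by
  obtain ⟨-, hT, -, hfr⟩ := hE
  haveI := finite_of_le hT.1
  refine ⟨hU.1.trans hT.1, fun P hP φ hφ x => ?_⟩
  obtain ⟨α, hα, φ₀, hφ₀, hx⟩ := hfr P (hP.trans hU.1) φ hφ
  rw [hx x (apply_mem hφ₀ x)]
  exact hUinv α hα _ ((isNormal_stronglyClosed hU).2 P hP φ₀ hφ₀ x)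

/-- A subgroup normal in a weakly normal subsystem over `T` and invariant under `Aut_F(T)` is
normal in `F`. -/
theorem isNormal_of_invariant (hS : IsPGroup p S) {F : FusionSystem S} (hF : F.IsSaturated p)
    {E : FusionSystem T} (hE : E.IsInvariantIn F) {U : Subgroup Ω} (hU : E.IsNormal U)
    (hUinv : ∀ α ∈ F.autGroup T, ∀ x : T, (x : Ω) ∈ U → ((α x : T) : Ω) ∈ U) :
    F.IsNormal U := by
  have hT := hE.2.1
  have hUS : U ≤ S := hU.1.trans hT.1
  haveI := finite_of_le hUS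
  obtain ⟨n, Qs, h0, hn, -, hchar, hc⟩ := exists_central_series (isPGroup_of_le hS hUS)
  refine isNormal_of_central_series hS hF U Qs h0 hn (fun i => ?_) hc
  obtain ⟨hle, hQc⟩ := hchar i.succ
  refine stronglyClosed_of_invariant hE (isNormal_of_characteristic hU hle hQc) fun α hα x hx => ?_
  let f : U →* U := (T.subtype.comp (α.toMonoidHom.comp (Subgroup.inclusion hU.1))).codRestrict U
    fun u => hUinv α hα (Subgroup.inclusion hU.1 u) u.2
  have hinj : Function.Injective f := fun a b hab =>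
    Subgroup.inclusion_injective _ (α.injective (Subtype.ext (congrArg Subtype.val hab :)))
  have hfix := (Subgroup.characteristic_iff_map_eq.mp hQc)
    (MulEquiv.ofBijective f (Finite.injective_iff_bijective.mp hinj))
  exact Subgroup.mem_subgroupOf.mp
    (hfix.le ⟨⟨x, hle hx⟩, Subgroup.mem_subgroupOf.mpr hx, rfl⟩)

/-- The join of the `F`-images of a subgroup normal in a weakly normal subsystem is normal. -/
theorem isNormal_closure_images (hS : IsPGroup p S) {F : FusionSystem S} (hF : F.IsSaturated p)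
    {E : FusionSystem T} (hE : E.IsInvariantIn F) {R : Subgroup Ω} (hR : E.IsNormal R) :
    F.IsNormal (Subgroup.closure {x : Ω | ∃ φ ∈ F.Hom R, ∃ r : R, x = φ r}) := by
  classical
  have hT := hE.2.1
  haveI := finite_of_le hT.1
  haveI := finite_mulAut (P := T)
  haveI := Fintype.ofFinite (MulAut T)
  set s : Finset (Subgroup Ω) :=
    ((Finset.univ : Finset (MulAut T)).filter fun α => α ∈ F.autGroup T).image (autImage R) with hs
  have hmem : ∀ A, A ∈ s ↔ ∃ α ∈ F.autGroup T, autImage R α = A := fun A => by simp [hs]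
  set U := Subgroup.closure {x : Ω | ∃ φ ∈ F.Hom R, ∃ r : R, x = φ r} with hUd
  have heq : U = s.sup id := by
    refine le_antisymm ((Subgroup.closure_le _).mpr ?_) (Finset.sup_le fun A hA => ?_)
    · rintro _ ⟨φ, hφ, r, rfl⟩
      obtain ⟨α, hα, φ₀, hφ₀, hx⟩ := hE.2.2.2 R hR.1 φ hφ
      have h1 : φ₀ r ∈ R := (isNormal_stronglyClosed hR).2 R le_rfl φ₀ hφ₀ r
      rw [hx r (hR.1 h1)]
      exact Finset.le_sup (f := id) ((hmem _).mpr ⟨α, hα, rfl⟩)
        (apply_mem_autImage α (hR.1 h1) h1)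
    · obtain ⟨α, hα, rfl⟩ := (hmem A).mp hA
      rintro _ ⟨⟨w, hwT⟩, hw, rfl⟩
      refine Subgroup.subset_closure ⟨_, restrict_mem ((mem_autGroup_iff F hT.1).mp hα) hR.1,
        ⟨w, Subgroup.mem_subgroupOf.mp hw⟩, rfl⟩
  refine isNormal_of_invariant hS hF hE ?_ ?_
  · rw [heq]
    refine isNormal_sSup s fun A hA => ?_
    obtain ⟨α, hα, rfl⟩ := (hmem A).mp hA
    exact isNormal_autImage hE hR hα
  · intro β hβ x hx
    have hle : U ≤ (U.comap (T.subtype.comp β.toMonoidHom)).map T.subtype := by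
      rw [heq]
      refine Finset.sup_le fun A hA => ?_
      obtain ⟨α, hα, rfl⟩ := (hmem A).mp hA
      rintro _ ⟨w, hw, rfl⟩
      refine ⟨α w, ?_, rfl⟩
      refine Finset.le_sup (f := id) ((hmem _).mpr ⟨β * α, Subgroup.mul_mem _ hβ hα, rfl⟩) ?_
      exact ⟨w, hw, rfl⟩
    obtain ⟨v, hv, hvx⟩ := hle hx
    obtain rfl : v = x := Subtype.ext hvx
    exact hv

theorem conjHom_autGroup {F : FusionSystem S} {Q : Subgroup Ω} (hQ : Q ≤ S) {g : Ω} (hg : g ∈ Q) :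
    conjAut Q g (Subgroup.le_normalizer hg) ∈ F.autGroup Q :=
  autInducedBy_le_autGroup F hQ (conjAut_mem (hQ hg) _)

/-- The inner system of a normal subgroup is invariant. -/
theorem inner_isInvariantIn_of_isNormal {F : FusionSystem S} {Q : Subgroup Ω}
    (hQ : F.IsNormal Q) : (innerFusionSystem Q).IsInvariantIn F := by
  haveI := finite_of_le hQ.1
  refine ⟨fun P φ hφ => ?_, isNormal_stronglyClosed hQ, fun P hP φ hφ α hα => ?_,
    fun P hP φ hφ => ?_⟩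
  · obtain ⟨hP, g, hg, h⟩ := hφ
    exact mem_of_conj (hP.trans hQ.1) (hQ.1 hg) h
  · obtain ⟨-, g, hg, h⟩ := hφ
    refine ⟨conjHom _ ((α ⟨g, hg⟩ : Q) : Ω), (innerFusionSystem Q).conj_mem ?_ (α ⟨g, hg⟩).2,
      fun x hφx hαx => ?_⟩
    · rintro _ ⟨x, -, rfl⟩
      exact (α x).2
    · rw [conjHom_apply]
      have e : (⟨φ x, hφx⟩ : Q) = ⟨g, hg⟩ * ⟨x, hP x.2⟩ * ⟨g, hg⟩⁻¹ := Subtype.ext (h x)
      rw [e, map_mul, map_mul, map_inv]
      rfl
  · obtain ⟨ψ, hψ, hψx, hψQ⟩ := hQ.2 P φ hφ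
    obtain ⟨α, hα, hαx⟩ := exists_aut_of_hom' F (restrict_mem hψ (le_sup_right : Q ≤ P ⊔ Q))
      fun y => hψQ.le ⟨_, Subgroup.mem_subgroupOf.mpr y.2, rfl⟩
    refine ⟨α, hα, _, incl_mem (innerFusionSystem Q) hP, fun x hx => ?_⟩
    rw [hαx, ← hψx x]
    rfl

theorem inner_isNormal_self (Q : Subgroup Ω) [Finite Q] : (innerFusionSystem Q).IsNormal Q := by
  refine ⟨le_rfl, fun P φ hφ => ?_⟩
  obtain ⟨hP, g, hg, h⟩ := hφ
  refine ⟨conjHom _ g, (innerFusionSystem Q).conj_mem (sup_le hP le_rfl) hg, fun x => (h x).symm, ?_⟩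
  refine le_antisymm ?_ fun y hy => ⟨⟨g⁻¹ * y * g, ?_⟩, ?_, ?_⟩
  · rintro _ ⟨z, hz, rfl⟩
    rw [conjHom_apply]
    exact Q.mul_mem (Q.mul_mem hg hz) (Q.inv_mem hg)
  · exact Subgroup.mem_sup_right (Q.mul_mem (Q.mul_mem (Q.inv_mem hg) hy) hg)
  · exact Q.mul_mem (Q.mul_mem (Q.inv_mem hg) hy) hg
  · rw [conjHom_apply]
    show g * (g⁻¹ * y * g) * g⁻¹ = y
    group

end CfsgLib.FusionModels
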