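import Cfsg.Agent.Lib.FusionSub.Puig

/-!
If `T` is strongly closed then so is `T C_S(T)`.
-/

set_option autoImplicit false

namespace CfsgLib.FusionModels

open Cfsg Cfsg.FusionSystem CfsgLib.Alperin CfsgLib.FusionSub

variable {Ω : Type*} [Group Ω] {S : Subgroup Ω} [Finite S] {p : ℕ} [Fact p.Prime]

omit [Finite S] [Fact p.Prime] in
/-- `T C_S(T)` consists of the elements of `S` inducing an inner automorphism on `T`. -/
theorem mem_sup_centralizerIn_iff {F : FusionSystem S} {T : Subgroup Ω} (hT : F.StronglyClosed T)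
    {x : Ω} (hx : x ∈ S) :
    x ∈ T ⊔ centralizerIn S T ↔ ∃ t ∈ T, ∀ u ∈ T, x * u * x⁻¹ = t * u * t⁻¹ := by
  constructor
  · intro h
    have hn : centralizerIn S T ≤ Subgroup.normalizer (T : Set Ω) :=
      (centralizerIn_le S T).trans (stronglyClosed_le_normalizer hT)
    have h' : x ∈ ((T ⊔ centralizerIn S T : Subgroup Ω) : Set Ω) := h
    rw [Subgroup.coe_mul_of_right_le_normalizer_left T (centralizerIn S T) hn] at h'
    obtain ⟨t, ht, c, hc, rfl⟩ := Set.mem_mul.mp h'
    refine ⟨t, ht, fun u hu => ?_⟩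
    have hcu : u * c = c * u := Subgroup.mem_centralizer_iff.mp hc.2 u hu
    calc t * c * u * (t * c)⁻¹ = t * (c * u * c⁻¹) * t⁻¹ := by group
      _ = t * u * t⁻¹ := by rw [← hcu]; group
  · rintro ⟨t, ht, h⟩
    have hc : t⁻¹ * x ∈ centralizerIn S T := by
      refine ⟨S.mul_mem (S.inv_mem (hT.1 ht)) hx, Subgroup.mem_centralizer_iff.mpr fun u hu => ?_⟩
      have h1 := h u hu
      calc u * (t⁻¹ * x) = t⁻¹ * (t * u * t⁻¹) * x := by group
        _ = t⁻¹ * (x * u * x⁻¹) * x := by rw [h1]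
        _ = t⁻¹ * x * u := by group
    have : t * (t⁻¹ * x) ∈ T ⊔ centralizerIn S T := Subgroup.mul_mem_sup ht hc
    rwa [mul_inv_cancel_left] at this

/-- In a saturated system `T C_S(T)` is strongly closed with `T`. -/
theorem stronglyClosed_sup_centralizerIn (hS : IsPGroup p S) {F : FusionSystem S}
    (hF : F.IsSaturated p) {T : Subgroup Ω} (hT : F.StronglyClosed T) :
    F.StronglyClosed (T ⊔ centralizerIn S T) := by
  have hUS : T ⊔ centralizerIn S T ≤ S := sup_le hT.1 (centralizerIn_le S T)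
  refine ⟨hUS, fun R hR φ hφ x => ?_⟩
  obtain ⟨t, ht, hxt⟩ :=
    (mem_sup_centralizerIn_iff hT (hUS (hR x.2))).mp (hR x.2)
  obtain ⟨ψ, hψ, hlift⟩ := exists_lift_mod hS hF hT hφ
  set y := ψ (Subgroup.inclusion le_sup_left x) with hy
  have hyT : y ∈ T ⊔ centralizerIn S T := by
    refine (mem_sup_centralizerIn_iff hT (apply_mem hψ _)).mpr
      ⟨ψ (Subgroup.inclusion le_sup_right (⟨t, ht⟩ : T)), stronglyClosed_apply hT hψ _ ht,
        fun u hu => ?_⟩
    obtain ⟨z, rfl⟩ := mem_range_of_stronglyClosed hT le_sup_right hψ hu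
    have hz : (z : Ω) ∈ T := mem_of_apply_mem_stronglyClosed hT le_sup_right hψ z hu
    simp only [← map_inv, ← map_mul]
    exact congrArg ψ (Subtype.ext (hxt z hz))
  have h1 : φ x = (y * (φ x)⁻¹)⁻¹ * y := by group
  rw [h1]
  exact Subgroup.mul_mem _ (Subgroup.mem_sup_left (T.inv_mem (hlift x))) hyT

end CfsgLib.FusionModels
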