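import Cfsg.Agent.Lib.FusionExamples.NonInner
import Cfsg.Agent.Lib.FusionBasics.PPower.Main
import Cfsg.Agent.Lib.FusionBasics.KSaturated
import Cfsg.Agent.Lib.FusionSub.Residual
import Cfsg.Agent.Lib.PGroups.Aut
import Cfsg.Agent.Lib.FusionBasics.Focal
import Cfsg.Agent.Lib.FusionExamples.Abelian

/-!
Extremely sparse systems: no saturated subsystems other than the system and inner systems.
-/

set_option autoImplicit false
set_option linter.style.haveILetI false

namespace CfsgLib.FusionModels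

open Cfsg Cfsg.FusionSystem CfsgLib.Alperin CfsgLib.FusionBasics

universe u

variable {Ω : Type u} [Group Ω] {S : Subgroup Ω} [Finite S] {p : ℕ} [Fact p.Prime]

/-- A group is not a `p`-group if and only if it has elements of other prime orders. -/
theorem exists_prime_order_ne {G : Type*} [Group G] [Finite G] (h : ¬ IsPGroup p G) :
    ∃ g : G, (orderOf g).Prime ∧ orderOf g ≠ p := by
  by_contra hc
  push Not at hc
  refine h (IsPGroup.iff_orderOf.mpr fun g => ?_)
  refine ⟨(orderOf g).primeFactorsList.length,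
    Nat.eq_prime_pow_of_unique_prime_dvd (orderOf_pos g).ne' fun {d} hd hdvd => ?_⟩
  obtain ⟨k, hk⟩ := hdvd
  have h1 : orderOf (g ^ k) = d := by
    rw [orderOf_pow' _ (by rintro rfl; simp [(orderOf_pos g).ne'] at hk), hk,
      Nat.gcd_eq_right (Dvd.intro_left d rfl), Nat.mul_div_cancel]
    rcases Nat.eq_zero_or_pos k with rfl | hk0
    · exact absurd hk (by simpa using (orderOf_pos g).ne')
    · exact hk0
  exact h1 ▸ hc _ (h1.symm ▸ hd)

theorem inn_eq_of_isPGroup {Q : Type*} [Group Q] [Finite Q] (hQ : IsPGroup p Q) {β : MulAut Q}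
    {q : ℕ} (hq : q.Prime) (hqp : q ≠ p) (hβ : orderOf β = q) :
    β ∉ Inn Q ∧ Nat.card ↥(Inn Q ⊔ Subgroup.zpowers β) = Nat.card (Inn Q) * q ∧
      ∀ R : Subgroup (MulAut Q), IsPGroup p R → R ≤ Inn Q ⊔ Subgroup.zpowers β → R ≤ Inn Q := by
  haveI : Finite (MulAut Q) := Finite.of_injective (fun a : MulAut Q => (a : Q → Q))
    (fun a b h => MulEquiv.ext (congrFun h))
  haveI : Fact q.Prime := ⟨hq⟩
  set π := QuotientGroup.mk' (Inn Q) with hπ
  have hIp : IsPGroup p (Inn Q) :=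
    hQ.of_surjective (MulAut.conj : Q →* MulAut Q).rangeRestrict
      (MulAut.conj : Q →* MulAut Q).rangeRestrict_surjective
  have hnot : β ∉ Inn Q := fun h => by
    obtain ⟨k, hk⟩ := IsPGroup.iff_orderOf.mp hIp ⟨β, h⟩
    rw [Subgroup.orderOf_mk, hβ] at hk
    rcases k with _ | k
    · exact hq.ne_one (by simpa using hk)
    · have : p ∣ q := hk ▸ dvd_pow_self p (Nat.succ_ne_zero k)
      exact hqp ((Nat.prime_dvd_prime_iff_eq Fact.out hq).mp this).symm
  have hπβ : orderOf (π β) = q := by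
    refine (Nat.Prime.eq_one_or_self_of_dvd hq _ (hβ ▸ orderOf_map_dvd π β)).resolve_left fun h => ?_
    exact hnot ((QuotientGroup.eq_one_iff β).mp (orderOf_eq_one_iff.mp h))
  have hmap : (Inn Q ⊔ Subgroup.zpowers β).map π = Subgroup.zpowers (π β) := by
    rw [Subgroup.map_sup, MonoidHom.map_zpowers, hπ, QuotientGroup.map_mk'_self, bot_sup_eq]
  refine ⟨hnot, ?_, fun R hR hle r hr => ?_⟩
  · have h := Subgroup.relIndex_mul_relIndex ⊥ (Inn Q) (Inn Q ⊔ Subgroup.zpowers β) bot_le le_sup_left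
    rw [Subgroup.relIndex_bot_left, Subgroup.relIndex_bot_left] at h
    rw [← h]
    have h2 : (Inn Q).relIndex (Inn Q ⊔ Subgroup.zpowers β) =
        Nat.card ↥((Inn Q ⊔ Subgroup.zpowers β).map π) := by
      rw [← Subgroup.relIndex_ker, hπ, QuotientGroup.ker_mk']
    rw [h2, hmap, Nat.card_zpowers, hπβ]
  · refine (QuotientGroup.eq_one_iff r).mp (orderOf_eq_one_iff.mp ?_)
    have h1 : orderOf (π r) ∣ q := by
      rw [← hπβ, ← Nat.card_zpowers (π β), ← hmap, ← Subgroup.orderOf_mk _ (Subgroup.mem_map_of_mem π (hle hr))]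
      exact orderOf_dvd_natCard _
    obtain ⟨k, hk⟩ := IsPGroup.iff_orderOf.mp hR ⟨r, hr⟩
    rw [Subgroup.orderOf_mk] at hk
    exact Nat.eq_one_of_dvd_coprimes (((Nat.coprime_primes hq Fact.out).mpr hqp).pow_right k) h1
      (hk ▸ orderOf_map_dvd π r)

theorem extremelySparse (hS : IsPGroup p S) {F : FusionSystem S} (hF : F.IsSaturated p)
    (hne : ¬ ∀ P : Subgroup Ω, F.Hom P = (innerFusionSystem S).Hom P)
    (hsub : ∀ (T : Subgroup Ω) (E : FusionSystem T), E.IsSaturated p → E.IsSubsystemOf F →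
      (T = S ∧ ∀ P : Subgroup Ω, E.Hom P = F.Hom P) ∨
        ∀ P : Subgroup Ω, E.Hom P = (innerFusionSystem T).Hom P) :
    F.IsNormal S ∧ F.focalSubgroup = S ∧ F.hyperfocalSubgroup p = S ∧
      ∃ (q : ℕ) (β : MulAut ↥S), q.Prime ∧ q ≠ p ∧ β ∈ F.autGroup S ∧ orderOf β = q ∧
        (F.autGroup S : Subgroup (MulAut ↥S)) = Inn ↥S ⊔ Subgroup.zpowers β := by
  obtain ⟨Q, hQn, hQc, hQp⟩ : ∃ Q, F.IsFullyNormalized Q ∧ F.IsCentric Q ∧
      ¬ IsPGroup p (F.autGroup Q) := by
    by_contra hc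
    push Not at hc
    exact hne fun P => Set.Subset.antisymm
      (fun φ hφ => FusionExamples.NonInner.le_inner hS hF hc hφ)
      (CfsgLib.FusionExamples.inner_le F P)
  haveI := finite_of_le hQn.1
  haveI : Finite (F.autGroup Q) := finite_autGroup F hQn.1
  haveI : Finite (MulAut Q) := finite_mulAut
  obtain ⟨⟨β, hβm⟩, hq', hqp'⟩ := exists_prime_order_ne hQp
  rw [Subgroup.orderOf_mk] at hq' hqp'
  set q := orderOf β with hq
  have hQpg := isPGroup_of_le hS hQn.1
  obtain ⟨hβI, hcard, hpsub⟩ := inn_eq_of_isPGroup hQpg hq' hqp' hq.symm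
  set A := Inn Q ⊔ Subgroup.zpowers β with hA
  have hAF : A ≤ F.autGroup Q := sup_le (inn_le_autGroup F hQn.1) (Subgroup.zpowers_le.mpr hβm)
  have hind : autInducedBy S Q ⊓ A = Inn Q :=
    le_antisymm (hpsub _ ((isPGroup_autInducedBy hS Q).to_le inf_le_left) inf_le_right)
      (le_inf (inn_le_autInducedBy hQn.1) le_sup_left)
  have hC := hQc.2 Q (isConj_refl F hQn.1)
  have hT : Q = normL S Q A := by
    refine le_antisymm (fun g hg => ⟨hQn.1 hg, MulAut.conj (⟨g, hg⟩ : Q),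
      Subgroup.mem_sup_left ⟨_, rfl⟩, fun x => rfl⟩) ?_
    rintro g ⟨hg, γ, hγ, hx⟩
    obtain ⟨y, hy⟩ := hind.le (Subgroup.mem_inf.mpr ⟨mem_autInducedBy_iff.mpr ⟨g, hg, hx⟩, hγ⟩)
    have hyc : (y : Ω)⁻¹ * g ∈ centralizerIn S Q := by
      refine ⟨S.mul_mem (S.inv_mem (hQn.1 y.2)) hg, Subgroup.mem_centralizer_iff.mpr fun u hu => ?_⟩
      have h1 : g * u * g⁻¹ = y * u * (y : Ω)⁻¹ := by
        have h0 := hx ⟨u, hu⟩
        rw [← hy] at h0
        exact h0.symm
      calc u * ((y : Ω)⁻¹ * g) = (y : Ω)⁻¹ * (y * u * (y : Ω)⁻¹) * g := by group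
        _ = (y : Ω)⁻¹ * (g * u * g⁻¹) * g := by rw [h1]
        _ = (y : Ω)⁻¹ * g * u := by group
    have := Q.mul_mem y.2 (hC hyc)
    rwa [mul_inv_cancel_left] at this
  set E := kSystem F Q A Q hQn.1 hQn.1 (fun g hg => ⟨MulAut.conj (⟨g, hg⟩ : Q),
    Subgroup.mem_sup_left ⟨_, rfl⟩, fun x => rfl⟩) with hE
  have hEs : E.IsSaturated p := by
    refine kSystem_saturated hS hF (receptive_of_fullyNormalized hS hF hQn) ?_ hT E fun P => rfl
    rw [hind, inf_eq_right.mpr hAF, hcard]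
    obtain ⟨a, ha⟩ := IsPGroup.iff_card.mp (hQpg.of_surjective
      (MulAut.conj : Q →* MulAut Q).rangeRestrict
      (MulAut.conj : Q →* MulAut Q).rangeRestrict_surjective : IsPGroup p (Inn Q))
    rw [ha, Nat.factorization_mul (pow_ne_zero _ (Fact.out : p.Prime).ne_zero) hq'.ne_zero,
      (Fact.out : p.Prime).factorization_pow, hq'.factorization]
    simp [hqp']
  have hEaut : ∀ γ, γ ∈ E.autGroup Q ↔ γ ∈ A := by
    intro γ
    rw [mem_autGroup_iff E le_rfl]
    constructor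
    · rintro ⟨-, -, -, ψ, hψ, hψx, α, hα, hαx⟩
      have e : γ = α := MulEquiv.ext fun x => Subtype.ext
        (((hψx x).symm.trans (congrArg ψ (Subtype.ext rfl))).trans (hαx x))
      exact e ▸ hα
    · intro hγ
      have hm := (mem_autGroup_iff F hQn.1).mp (hAF hγ)
      exact ⟨hm, le_rfl, fun x => (γ x).2, _, restrict_mem hm (sup_le le_rfl le_rfl),
        fun x => rfl, γ, hγ, fun x => rfl⟩
  rcases hsub Q E hEs (fun P φ hφ => hφ.1) with ⟨hQS, hEF⟩ | hEi
  swap
  · have h1 := (mem_autGroup_iff E le_rfl).mp ((hEaut β).mpr (Subgroup.mem_sup_right (Subgroup.mem_zpowers β)))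
    rw [hEi Q] at h1
    obtain ⟨-, g, hg, hx⟩ := h1
    exact absurd ⟨⟨g, hg⟩, MulEquiv.ext fun x => Subtype.ext (hx x).symm⟩ hβI
  subst hQS
  have haut : F.autGroup Q = A := by
    refine le_antisymm (fun γ hγ => (hEaut γ).mp ((mem_autGroup_iff E le_rfl).mpr ?_)) hAF
    rw [hEF Q]
    exact (mem_autGroup_iff F le_rfl).mp hγ
  have hnormal : F.IsNormal Q := by
    refine ⟨le_rfl, fun P φ hφ => ?_⟩
    obtain ⟨-, -, -, ψ, hψ, hψx, hex⟩ := (hEF P).ge hφ
    obtain ⟨α, -, hαx⟩ := hex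
    exact ⟨ψ, hψ, hψx, (exists_aut_iff_map_eq (F.injective_of_mem hψ)).mp
      ⟨α, Subgroup.mem_top _, hαx⟩⟩
  have hhyp : F.hyperfocalSubgroup p = Q := by
    set T := F.hyperfocalSubgroup p with hTd
    have hTQ : T ≤ Q := CfsgLib.FusionSub.hyperfocal_le F p
    obtain ⟨D, hDs, hDp⟩ :=
      CfsgLib.FusionBasics.PPower.exists_pPowerIndex hS hF hTQ le_rfl
    rcases hsub T D hDs hDp.1 with ⟨h, -⟩ | hDi
    · exact h
    exfalso
    haveI := finite_of_le hTQ
    haveI : Finite (MulAut T) := finite_mulAut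
    have hd : ∀ x : Q, (x : Ω)⁻¹ * (β x : Q) ∈ T := fun x =>
      CfsgLib.FusionSub.mem_hyperfocal F le_rfl (CfsgLib.FusionSub.mem_map_pResidual_of_coprime F hβm
        ((Nat.coprime_primes hq' Fact.out).mpr hqp')) x
    have hinv : ∀ x : T, ((β ⟨x, hTQ x.2⟩ : Q) : Ω) ∈ T := fun x => by
      have := T.mul_mem x.2 (hd ⟨x, hTQ x.2⟩)
      rwa [mul_inv_cancel_left] at this
    obtain ⟨γ, hγ, hγx⟩ := exists_aut_of_hom' F
      (restrict_mem ((mem_autGroup_iff F le_rfl).mp hβm) hTQ) hinv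
    have hcop : (orderOf β).Coprime p := (Nat.coprime_primes hq' Fact.out).mpr hqp'
    have hγord : γ ^ q = 1 := by
      have hit : ∀ (k : ℕ) (x : T),
          (((γ ^ k) x : T) : Ω) = ((β ^ k) ⟨x, hTQ x.2⟩ : Q) := by
        intro k
        induction k with
        | zero => intro x; simp
        | succ k ih =>
          intro x
          rw [pow_succ', pow_succ', MulAut.mul_apply, MulAut.mul_apply, hγx]
          exact congrArg (fun v : Q => ((β v : Q) : Ω)) (Subtype.ext (ih x))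
      refine MulEquiv.ext fun x => Subtype.ext ?_
      rw [hit q x, hq, pow_orderOf_eq_one]
      rfl
    have hγcop : (orderOf γ).Coprime p :=
      ((Nat.coprime_primes hq' Fact.out).mpr hqp').coprime_dvd_left (orderOf_dvd_of_pow_eq_one hγord)
    obtain ⟨t, ht, htx⟩ : ∃ t ∈ T, ∀ x : T, ((γ x : T) : Ω) = t * x * t⁻¹ := by
      have h1 := hDp.2.2 T le_rfl (CfsgLib.FusionSub.mem_map_pResidual_of_coprime F hγ hγcop)
      have h2 := (mem_autGroup_iff D le_rfl).mp h1
      rw [hDi T] at h2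
      obtain ⟨-, t, ht, htx⟩ := h2
      exact ⟨t, ht, htx⟩
    have hγ1 : γ = 1 := by
      have hTp := isPGroup_of_le hS hTQ
      have hIp : IsPGroup p (Inn T) := hTp.of_surjective (MulAut.conj : T →* MulAut T).rangeRestrict
        (MulAut.conj : T →* MulAut T).rangeRestrict_surjective
      have hm : γ ∈ Inn T := ⟨⟨t, ht⟩, MulEquiv.ext fun x => Subtype.ext (htx x).symm⟩
      exact FusionExamples.NonInner.eq_one_of_mem_isPGroup hIp hm hγcop
    refine hβI ⟨1, ?_⟩
    rw [map_one]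
    refine MulEquiv.ext fun x => (CfsgLib.PGroups.fixed_of_fixed_diff hQpg β hcop ?_).symm
    refine Subtype.ext ?_
    have h3 := hγx ⟨_, hd x⟩
    rw [hγ1] at h3
    exact h3.symm
  refine ⟨hnormal, le_antisymm ?_ ?_, hhyp, q, β, hq', hqp', hβm, hq.symm, haut⟩
  · refine (Subgroup.closure_le _).mpr ?_
    rintro _ ⟨P, φ, x, hφ, rfl⟩
    exact Q.mul_mem (Q.inv_mem (dom_le hφ x.2)) (apply_mem hφ x)
  · exact hhyp.ge.trans (CfsgLib.FusionBasics.hyperfocalSubgroup_le_focalSubgroup F p)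

end CfsgLib.FusionModels
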