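import Cfsg.Agent.Lib.FusionSub.Solvable
import Cfsg.Agent.Lib.FusionSub.Residual

/-!
The hyperfocal subgroup of a factor system.
-/

set_option autoImplicit false
set_option linter.style.haveILetI false

namespace CfsgLib.FusionModels

open Cfsg Cfsg.FusionSystem CfsgLib.Alperin CfsgLib.FusionSub

/-- The automorphisms of `P` displacing every element by an element of `H`. -/
def displacedInto {G : Type*} [Group G] (H : Subgroup G) : Subgroup (MulAut G) where
  carrier := {β | ∀ x : G, x⁻¹ * β x ∈ H}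
  one_mem' := fun x => by simp
  mul_mem' := fun {β γ} hβ hγ x => by
    have h := H.mul_mem (hγ x) (hβ (γ x))
    rwa [mul_assoc, mul_inv_cancel_left] at h
  inv_mem' := fun {β} hβ x => by
    simpa using H.inv_mem (hβ (β⁻¹ x))

theorem orderOf_dvd_of_semiconj {A B : Type*} [Group A] [Group B] (π : A →* B)
    (hπ : Function.Surjective π) (α : MulAut A) (β : MulAut B) (h : ∀ x, π (α x) = β (π x)) :
    orderOf β ∣ orderOf α := by
  have hpow : ∀ (n : ℕ) (x : A), π ((α ^ n) x) = (β ^ n) (π x) := fun n x => by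
    induction n with
    | zero => simp
    | succ n ih => rw [pow_succ', pow_succ', MulAut.mul_apply, MulAut.mul_apply, h, ih]
  refine orderOf_dvd_of_pow_eq_one (MulEquiv.ext fun y => ?_)
  obtain ⟨x, rfl⟩ := hπ y
  rw [← hpow, pow_orderOf_eq_one]
  rfl

theorem pow_semiconj {A B : Type*} [Group A] [Group B] (π : A →* B) (α : MulAut A) (β : MulAut B)
    (h : ∀ x, π (α x) = β (π x)) (n : ℕ) (x : A) : π ((α ^ n) x) = (β ^ n) (π x) := by
  induction n with
  | zero => simp
  | succ n ih => rw [pow_succ', pow_succ', MulAut.mul_apply, MulAut.mul_apply, h, ih]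

universe u v

variable {Ω : Type u} [Group Ω] {S : Subgroup Ω} [Finite S] {p : ℕ} [Fact p.Prime]

theorem hyperfocal_factorSystem (hS : IsPGroup p S) {F : FusionSystem S} (hF : F.IsSaturated p)
    {T : Subgroup Ω} (hT : F.StronglyClosed T) {Ω' : Type v} [Group Ω'] {S' : Subgroup Ω'}
    {θ : S →* Ω'} {E : FusionSystem S'} (hE : F.IsFactorSystem T θ E) :
    E.hyperfocalSubgroup p = ((F.hyperfocalSubgroup p).subgroupOf S).map θ := by
  have hmor := (Cfsg.Agent.S5134.result p hS F hF T hT θ E hE).1.2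
  obtain ⟨-, -, hrange, hmem⟩ := hE
  haveI : Finite S' := finite_of_range hrange
  set H := F.hyperfocalSubgroup p
  refine le_antisymm ((Subgroup.closure_le _).mpr ?_) ?_
  · rintro _ ⟨P', α, x', hP', hα, rfl⟩
    haveI := finite_of_le hP'
    set P := preimageAlong θ P' with hPd
    have hPS : P ≤ S := preimageAlong_le θ P'
    haveI := finite_of_le hPS
    haveI : Finite (MulAut P) := finite_mulAut
    haveI : Finite (MulAut P') := finite_mulAut
    suffices h : pResidual p (E.autGroup P') ≤ (displacedInto (((H.subgroupOf S).map θ).subgroupOf P')).comap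
        (E.autGroup P').subtype from Subgroup.mem_subgroupOf.mp (h hα x')
    refine (Subgroup.closure_le _).mpr fun β' hβ' y => ?_
    obtain ⟨-, φ, hφ, hP, hφS, hPP, hind⟩ :=
      (hmem P' _).mp ((mem_autGroup_iff E hP').mp β'.2)
    have hφP : ∀ x : P, φ x ∈ P := fun x => mem_preimageAlong.mpr ⟨hφS x, by
      rw [← hind x]
      exact (β'.1 _).2⟩
    obtain ⟨β, hβ, hβx⟩ := exists_aut_of_hom' F hφ hφP
    let π : P →* P' := (θ.comp (Subgroup.inclusion hP)).codRestrict P' hPP
    have hsemi : ∀ x, π (β x) = (β' : MulAut P') (π x) := fun x => Subtype.ext (by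
      show θ ⟨_, _⟩ = ((β' : MulAut P') ⟨θ ⟨x, hP x.2⟩, hPP x⟩ : Ω')
      refine Eq.trans (congrArg θ ?_) (hind x).symm
      exact Subtype.ext (hβx x))
    obtain ⟨x, rfl⟩ : ∃ x, π x = y := by
      obtain ⟨s, hs⟩ := hrange.ge (hP' y.2)
      exact ⟨⟨s, mem_preimageAlong.mpr ⟨s.2, by rw [hs]; exact y.2⟩⟩, Subtype.ext hs⟩
    obtain ⟨a, k, hk, hak⟩ := Nat.exists_eq_pow_mul_and_not_dvd
      (orderOf_pos β).ne' p (Fact.out : p.Prime).ne_one
    have hcop : (orderOf (β' : MulAut P')).Coprime p := by rwa [Subgroup.orderOf_coe]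
    obtain ⟨j, hj⟩ := exists_pow_eq_self_of_coprime (x := (β' : MulAut P')) (n := p ^ a)
      (hcop.symm.pow_left a)
    have hord : (orderOf ((β ^ p ^ a) ^ j)).Coprime p := by
      refine Nat.Coprime.coprime_dvd_left (k := k) ?_
        ((Fact.out : p.Prime).coprime_iff_not_dvd.mpr hk).symm
      refine orderOf_dvd_of_pow_eq_one ?_
      rw [← pow_mul, ← pow_mul, mul_comm j k, ← mul_assoc, ← hak, pow_mul, pow_orderOf_eq_one,
        one_pow]
    have hm : (β ^ p ^ a) ^ j ∈ F.autGroup P := Subgroup.pow_mem _ (Subgroup.pow_mem _ hβ _) _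
    have h1 := mem_hyperfocal F hPS (mem_map_pResidual_of_coprime F hm hord) x
    refine Subgroup.mem_subgroupOf.mpr ⟨⟨_, hyperfocal_le F p h1⟩, h1, ?_⟩
    have h2 : π (((β ^ p ^ a) ^ j) x) = (β' : MulAut P') (π x) := by
      rw [← pow_mul, pow_semiconj π β _ hsemi, pow_mul, hj]
    have e : (⟨_, hyperfocal_le F p h1⟩ : S) = (Subgroup.inclusion hP x)⁻¹ *
        Subgroup.inclusion hP (((β ^ p ^ a) ^ j) x) := rfl
    rw [e, map_mul, map_inv]
    exact congrArg (fun z => (θ (Subgroup.inclusion hP x))⁻¹ * z) (congrArg Subtype.val h2)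
  · rw [Subgroup.map_le_iff_le_comap]
    suffices hle : H ≤ ((E.hyperfocalSubgroup p).comap θ).map S.subtype by
      intro s hs
      obtain ⟨s', hs', he⟩ := hle hs
      exact (Subtype.ext he : s' = s) ▸ hs'
    refine (Subgroup.closure_le _).mpr ?_
    rintro _ ⟨P, α, x, hP, hα, rfl⟩
    haveI := finite_of_le hP
    suffices h : pResidual p (F.autGroup P) ≤ (displacedInto
        (((E.hyperfocalSubgroup p).comap θ).map S.subtype |>.subgroupOf P)).comap
        (F.autGroup P).subtype from Subgroup.mem_subgroupOf.mp (h hα x)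
    refine (Subgroup.closure_le _).mpr fun β hβ y => ?_
    let P' := imageAlong θ P
    obtain ⟨φ', hφ', hP2, hφS, hPP, hind⟩ := hmor P _ ((mem_autGroup_iff F hP).mp β.2)
    have hP'S : P' ≤ S' := (imageAlong_le_range θ P).trans hrange.le
    haveI := finite_of_le hP'S
    let π : P →* P' := (θ.comp (Subgroup.inclusion hP2)).codRestrict P' hPP
    have hπ : Function.Surjective π := by
      rintro ⟨_, s, hs, rfl⟩
      exact ⟨⟨s, hs⟩, rfl⟩
    obtain ⟨β', hβ'm, hβ'x⟩ := exists_aut_of_hom' E hφ' fun z => by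
      obtain ⟨w, rfl⟩ := hπ z
      refine Eq.mpr (congrArg (· ∈ P') (show φ' (π w) = _ from hind w)) ?_
      exact ⟨_, ((β : MulAut P) w).2, rfl⟩
    have hsemi : ∀ w, π ((β : MulAut P) w) = β' (π w) := fun w => Subtype.ext (by
      rw [hβ'x]
      exact (hind w).symm)
    have hord : (orderOf β').Coprime p := Nat.Coprime.coprime_dvd_left
      ((orderOf_dvd_of_semiconj π hπ _ β' hsemi).trans (Subgroup.orderOf_coe β).dvd) hβ
    have h1 := mem_hyperfocal E hP'S (mem_map_pResidual_of_coprime E hβ'm hord) (π y)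
    refine Subgroup.mem_subgroupOf.mpr
      ⟨(Subgroup.inclusion hP y)⁻¹ * Subgroup.inclusion hP ((β : MulAut P) y), ?_, rfl⟩
    rw [SetLike.mem_coe, Subgroup.mem_comap, map_mul, map_inv]
    rw [← hsemi y] at h1
    exact h1

end CfsgLib.FusionModels
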