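import Cfsg.Agent.Lib.FusionSub.NormalCriterion
import Cfsg.Agent.Lib.FusionBasics.Normal
import Cfsg.Agent.Lib.PGroups.Basic
import Cfsg.Agent.Lib.PGroups.Aut
import Cfsg.Agent.Lib.ThompsonJ.ElemAbelian
import Cfsg.Agent.S5086
import Mathlib.GroupTheory.FixedPointFree
import Cfsg.Prelude.Def_PLocal

/-!
Normality criteria for strongly closed subgroups: weakly closed central series, series up to `Ω₁`, and
small `Ω₁`.
-/

set_option autoImplicit false
set_option linter.style.haveILetI false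
set_option linter.unusedSectionVars false

namespace CfsgLib.FusionModels

open Cfsg Cfsg.FusionSystem CfsgLib.Alperin CfsgLib.FusionSub

variable {Ω : Type*} [Group Ω] {S : Subgroup Ω} [Finite S] {p : ℕ} [Fact p.Prime]
  {F : FusionSystem S}

theorem weaklyClosed_le_normalizer {C : Subgroup Ω} (hC : F.WeaklyClosed C) :
    S ≤ Subgroup.normalizer (C : Set Ω) := by
  intro g hg
  have h := hC.2 _ (F.conj_mem hC.1 hg)
  refine Subgroup.mem_normalizer_iff.mpr fun y => ⟨fun hy => h.le ⟨⟨y, hy⟩, rfl⟩, fun hy => ?_⟩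
  obtain ⟨x, hx⟩ := h.ge hy
  have hx' : g * (x : Ω) * g⁻¹ = g * y * g⁻¹ := hx
  rw [← mul_left_cancel (mul_right_cancel hx')]
  exact x.2

theorem aut_apply_mem_of_weaklyClosed {P C : Subgroup Ω} (hP : P ≤ S) (hC : F.WeaklyClosed C)
    (hCP : C ≤ P) {α : MulAut P} (hα : α ∈ F.autGroup P) (x : P) (hx : (x : Ω) ∈ C) :
    ((α x : P) : Ω) ∈ C :=
  (hC.2 _ (restrict_mem ((mem_autGroup_iff F hP).mp hα) hCP)).le ⟨⟨x, hx⟩, rfl⟩

/-- A centric radical subgroup contains every subgroup it normalizes whose action on it lies in an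
invariant `p`-group of automorphisms. -/
theorem le_of_stabilizer (hS : IsPGroup p S) {P T : Subgroup Ω} (hc : F.IsCentric P)
    (hr : F.IsRadical p P) (hTS : T ≤ S) (hPT : P ≤ Subgroup.normalizer (T : Set Ω))
    (K : Subgroup (MulAut P)) (hK : K ≤ F.autGroup P) (hKp : IsPGroup p K)
    (hKn : ∀ β ∈ F.autGroup P, ∀ κ ∈ K, β * κ * β⁻¹ ∈ K)
    (hT : ∀ t ∈ T, ∀ ht : t ∈ Subgroup.normalizer (P : Set Ω), conjAut P t ht ∈ K) : T ≤ P := by
  by_contra hTP
  obtain ⟨g, hg, hgN, hgP⟩ := exists_mem_normalizer_not_mem hS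
    (lt_of_le_of_ne (le_sup_left : P ≤ P ⊔ T) fun h => hTP (le_sup_right.trans h.ge))
    (sup_le hc.1 hTS)
  have hg' : g ∈ ((P ⊔ T : Subgroup Ω) : Set Ω) := hg
  rw [Subgroup.coe_mul_of_left_le_normalizer_right P T hPT] at hg'
  obtain ⟨a, ha, t, ht, rfl⟩ := Set.mem_mul.mp hg'
  have htN : t ∈ Subgroup.normalizer (P : Set Ω) := by
    have := Subgroup.mul_mem _ (Subgroup.inv_mem _ (Subgroup.le_normalizer ha)) hgN
    rwa [inv_mul_cancel_left] at this
  have htP : t ∉ P := fun h => hgP (P.mul_mem ha h)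
  haveI : (K.subgroupOf (F.autGroup P)).Normal := ⟨fun x hx b =>
    Subgroup.mem_subgroupOf.mpr (by simpa using hKn b b.2 x (Subgroup.mem_subgroupOf.mp hx))⟩
  have hmem : (⟨conjAut P t htN, hK (hT t ht htN)⟩ : F.autGroup P) ∈ pCore p (F.autGroup P) :=
    (le_sSup (show K.subgroupOf (F.autGroup P) ∈
      {N : Subgroup (F.autGroup P) | N.Normal ∧ IsPGroup p N} from
        ⟨inferInstance, hKp.comap_subtype⟩)) (hT t ht htN)
  refine htP (mem_of_conjAut_mem_inn hc.1 (hc.2 P (isConj_refl F hc.1)) (hTS ht)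
    (α := conjAut P t htN) (fun _ => rfl) ?_)
  rw [← hr.2]
  exact ⟨_, hmem, rfl⟩

theorem seriesStabilizer_le {n : ℕ} (Q : Subgroup Ω) (Qs : Fin (n + 1) → Subgroup Ω)
    (P : Subgroup Ω) : seriesStabilizer F Q Qs P ≤ F.autGroup P := fun _ h => h.1

theorem seriesStabilizer_normal {n : ℕ} {Q : Subgroup Ω} {Qs : Fin (n + 1) → Subgroup Ω}
    {P : Subgroup Ω}
    (hQ : ∀ β ∈ F.autGroup P, ∀ x : P, (x : Ω) ∈ Q → ((β x : P) : Ω) ∈ Q)
    (hQs : ∀ j, ∀ β ∈ F.autGroup P, ∀ x : P, (x : Ω) ∈ Qs j → ((β x : P) : Ω) ∈ Qs j) :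
    ∀ β ∈ F.autGroup P, ∀ κ ∈ seriesStabilizer F Q Qs P,
      β * κ * β⁻¹ ∈ seriesStabilizer F Q Qs P := by
  intro β hβ κ hκ
  refine ⟨mul_mem (mul_mem hβ hκ.1) (inv_mem hβ), fun x => ?_, fun i x hx => ⟨?_, ?_, ?_⟩⟩
  · have h1 := hQ β hβ (κ (β⁻¹ x) * (β⁻¹ x)⁻¹) (hκ.2.1 (β⁻¹ x))
    simpa using h1
  · exact hQs _ β hβ _ (hκ.2.2 i _ (hQs _ _ (inv_mem hβ) x hx)).1
  · have h1 := hQs _ β hβ _ (hκ.2.2 i _ (hQs _ _ (inv_mem hβ) x hx)).2.1
    simpa [mul_assoc] using h1
  · have h1 := hQs _ β hβ (κ (β⁻¹ x) * (β⁻¹ x)⁻¹)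
      (hκ.2.2 i _ (hQs _ _ (inv_mem hβ) x hx)).2.2
    simpa using h1

/-- A strongly closed subgroup with a weakly closed central series is normal. -/
theorem isNormal_of_weaklyClosed_series (hS : IsPGroup p S) (hF : F.IsSaturated p) {Q : Subgroup Ω}
    (hQ : F.StronglyClosed Q) {n : ℕ} (C : Fin (n + 1) → Subgroup Ω) (h0 : C 0 = ⊥)
    (hn : C (Fin.last n) = Q) (hmono : Monotone C) (hc : ∀ i : Fin n, ⁅C i.succ, Q⁆ ≤ C i.castSucc)
    (hw : ∀ i : Fin n, F.WeaklyClosed (C i.castSucc)) : F.IsNormal Q := by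
  refine (Cfsg.Agent.S5086.result p hS F hF Q).mpr ⟨hQ, fun P hPc hPr => ?_⟩
  haveI := finite_of_le hPc.1
  suffices h : ∀ i : Fin (n + 1), C i ≤ P from hn ▸ h _
  intro i
  induction i using Fin.induction with
  | zero => rw [h0]; exact bot_le
  | succ i ih =>
    have hCQ : ∀ j, C j ≤ Q := fun j => hn ▸ hmono (Fin.le_last j)
    have hnorm : S ≤ Subgroup.normalizer (C i.succ : Set Ω) := by
      rcases Fin.eq_castSucc_or_eq_last i.succ with ⟨j, hj⟩ | hj
      · rw [hj]; exact weaklyClosed_le_normalizer (hw j)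
      · rw [hj, hn]; exact stronglyClosed_le_normalizer hQ
    let Qs : Fin ((i : ℕ) + 1 + 1) → Subgroup Ω :=
      Fin.snoc (fun j : Fin ((i : ℕ) + 1) => C ⟨j, by omega⟩) Q
    have hQs0 : Qs 0 = ⊥ := by
      rw [show (0 : Fin ((i : ℕ) + 1 + 1)) = Fin.castSucc 0 from rfl]
      simp only [Qs, Fin.snoc_castSucc]
      exact h0
    have hQsl : Qs (Fin.last _) = Q := by simp only [Qs, Fin.snoc_last]
    have hinv : ∀ j, ∀ β ∈ F.autGroup P, ∀ x : P, (x : Ω) ∈ Qs j → ((β x : P) : Ω) ∈ Qs j := by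
      intro j β hβ x hx
      rcases Fin.eq_castSucc_or_eq_last j with ⟨k, rfl⟩ | rfl
      · simp only [Qs, Fin.snoc_castSucc] at hx ⊢
        have hle : (⟨k, by omega⟩ : Fin (n + 1)) ≤ i.castSucc := by
          show (k : ℕ) ≤ i
          omega
        exact aut_apply_mem_of_weaklyClosed hPc.1 (hw ⟨k, by omega⟩) ((hmono hle).trans ih) hβ x hx
      · rw [hQsl] at hx ⊢
        exact CfsgLib.FusionBasics.aut_apply_mem_of_stronglyClosed hQ hPc.1 hβ x hx
    refine le_of_stabilizer hS hPc hPr ((hCQ _).trans hQ.1)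
      (hPc.1.trans hnorm) (seriesStabilizer F Q Qs P) (seriesStabilizer_le Q Qs P)
      (isPGroup_seriesStabilizer hS F Qs hQs0 hQsl hPc.1)
      (seriesStabilizer_normal (fun β hβ x hx =>
        CfsgLib.FusionBasics.aut_apply_mem_of_stronglyClosed hQ hPc.1 hβ x hx) hinv)
      fun t ht htN => ?_
    have htQ : t ∈ Q := hCQ _ ht
    have hcomm : ∀ x : P, t * (x : Ω) * t⁻¹ * (x : Ω)⁻¹ ∈ Q := fun x => by
      have := Q.mul_mem htQ (stronglyClosed_conj hQ (hPc.1 x.2) (Q.inv_mem htQ))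
      simpa [mul_assoc] using this
    have hQsS : ∀ j, S ≤ Subgroup.normalizer (Qs j : Set Ω) := by
      intro j
      rcases Fin.eq_castSucc_or_eq_last j with ⟨k, rfl⟩ | rfl
      · simp only [Qs, Fin.snoc_castSucc]
        exact weaklyClosed_le_normalizer (hw ⟨k, by omega⟩)
      · rw [hQsl]
        exact stronglyClosed_le_normalizer hQ
    refine ⟨autInducedBy_le_autGroup F hPc.1 (conjAut_mem (hQ.1 htQ) htN), hcomm,
      fun j x hx => ⟨?_, ?_, ?_⟩⟩
    · exact (Subgroup.mem_normalizer_iff.mp (hQsS _ (hQ.1 htQ)) _).mp hx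
    · have e : ((conjAut P t htN)⁻¹ x : P) = ⟨t⁻¹ * (x : Ω) * t⁻¹⁻¹,
          mem_normalizer_conj (Subgroup.inv_mem _ htN) x.2⟩ := by
        apply (conjAut P t htN).injective
        rw [MulAut.apply_inv_self]
        exact Subtype.ext (by simp [mul_assoc])
      rw [e]
      exact (Subgroup.mem_normalizer_iff.mp (hQsS _ (S.inv_mem (hQ.1 htQ))) _).mp hx
    · show t * (x : Ω) * t⁻¹ * (x : Ω)⁻¹ ∈ _
      rcases Fin.eq_castSucc_or_eq_last j.succ with ⟨k, hk⟩ | hk
      · simp only [hk, Qs, Fin.snoc_castSucc] at hx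
        simp only [Qs, Fin.snoc_castSucc]
        have hkv : (k : ℕ) = (j : ℕ) + 1 := by
          have := congrArg Fin.val hk
          simp at this
          omega
        let j' : Fin n := ⟨j, by omega⟩
        have hx' : (x : Ω) ∈ C j'.succ := by
          rwa [show j'.succ = (⟨k, by omega⟩ : Fin (n + 1)) from Fin.ext hkv.symm]
        have h2 := hc j'
        rw [Subgroup.commutator_comm] at h2
        exact h2 (Subgroup.commutator_mem_commutator htQ hx')
      · rw [hk, hQsl] at hx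
        have hj : j.castSucc = Fin.castSucc (Fin.last (i : ℕ)) := by
          have := congrArg Fin.val hk
          simp at this
          exact Fin.ext (by simpa using this)
        rw [hj]
        simp only [Qs, Fin.snoc_castSucc]
        exact hc i (Subgroup.commutator_mem_commutator ht hx)

/-- The group of automorphisms stabilizing a series up to a subgroup which detects `p'`-automorphisms
is a `p`-group. -/
theorem isPGroup_seriesStabilizer_of_detect (hS : IsPGroup p S) {n : ℕ} {T : Subgroup Ω}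
    (Qs : Fin (n + 1) → Subgroup Ω) (h0 : Qs 0 = ⊥) {P : Subgroup Ω} (hP : P ≤ S)
    (hdet : ∀ β ∈ seriesStabilizer F T Qs P, (orderOf β).Coprime p →
      (∀ x : P, (x : Ω) ∈ Qs (Fin.last n) → β x = x) → ∀ x : P, (x : Ω) ∈ T → β x = x) :
    IsPGroup p (seriesStabilizer F T Qs P) := by
  haveI := finite_of_le hP
  haveI := finite_mulAut (P := P)
  have hPp := isPGroup_of_le hS hP
  have key : ∀ β ∈ seriesStabilizer F T Qs P, (orderOf β).Coprime p → β = 1 := by
    intro β hβ hcop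
    have hfix : ∀ x c : P, β x = c * x → β c = c → β x = x := by
      intro x c hx hc
      have h1 := CfsgLib.PGroups.fixed_of_fixed_diff hPp β hcop (x := x⁻¹) (by
        simp [hx, map_mul, map_inv, hc])
      rw [map_inv] at h1
      exact inv_inj.mp h1
    have hall : ∀ i, ∀ x : P, (x : Ω) ∈ Qs i → β x = x := by
      intro i
      induction i using Fin.induction with
      | zero =>
        intro x hx
        rw [h0, Subgroup.mem_bot] at hx
        rw [show x = 1 from Subtype.ext hx, map_one]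
      | succ i ih =>
        intro x hx
        exact hfix x (β x * x⁻¹) (by simp) (ih _ (hβ.2.2 i x hx).2.2)
    refine MulEquiv.ext fun x => ?_
    exact hfix x (β x * x⁻¹) (by simp) (hdet β hβ hcop (hall _) _ (hβ.2.1 x))
  intro g
  obtain ⟨g, hg⟩ := g
  refine ⟨(orderOf g).factorization p, Subtype.ext ?_⟩
  show g ^ p ^ (orderOf g).factorization p = 1
  refine key _ (pow_mem hg _) ?_
  rw [orderOf_pow_of_dvd (pow_ne_zero _ (Fact.out : p.Prime).ne_zero) (Nat.ordProj_dvd _ p)]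
  exact (Nat.coprime_ordCompl (Fact.out : p.Prime) (orderOf_pos g).ne').symm

/-- A strongly closed subgroup with a strongly closed series to `Ω₁` that it centralizes is normal
(`p` odd). -/
theorem isNormal_of_omega_series (hS : IsPGroup p S) (hF : F.IsSaturated p) (hp : p ≠ 2)
    {T : Subgroup Ω} (hT : F.StronglyClosed T) {n : ℕ} (Qs : Fin (n + 1) → Subgroup Ω)
    (h0 : Qs 0 = ⊥) (hn : Qs (Fin.last n) = omegaOne p T)
    (hsc : ∀ i : Fin (n + 1), F.StronglyClosed (Qs i))
    (hc : ∀ i : Fin n, ⁅Qs i.succ, T⁆ ≤ Qs i.castSucc) : F.IsNormal T := by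
  refine (Cfsg.Agent.S5086.result p hS F hF T).mpr ⟨hT, fun P hPc hPr => ?_⟩
  haveI := finite_of_le hPc.1
  refine le_of_stabilizer hS hPc hPr hT.1 (hPc.1.trans (stronglyClosed_le_normalizer hT))
    (seriesStabilizer F T Qs P) (seriesStabilizer_le T Qs P)
    (isPGroup_seriesStabilizer_of_detect hS Qs h0 hPc.1 fun β hβ hcop hfix x hx => ?_)
    (seriesStabilizer_normal
      (fun β hβ x hx => CfsgLib.FusionBasics.aut_apply_mem_of_stronglyClosed hT hPc.1 hβ x hx)
      fun j β hβ x hx => CfsgLib.FusionBasics.aut_apply_mem_of_stronglyClosed (hsc j) hPc.1 hβ x hx)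
    fun t ht htN => ?_
  · let V : Subgroup P := T.subgroupOf P
    let f : V →* V := (β.toMonoidHom.comp V.subtype).codRestrict V fun v =>
      CfsgLib.FusionBasics.aut_apply_mem_of_stronglyClosed hT hPc.1 hβ.1 v v.2
    let γ : MulAut V := MulEquiv.ofBijective f (Finite.injective_iff_bijective.mp fun a b h =>
      Subtype.ext (β.injective (congrArg Subtype.val h)))
    have hγ : ∀ (k : ℕ) (v : V), (((γ ^ k) v : V) : P) = (β ^ k) v := by
      intro k
      induction k with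
      | zero => intro v; rfl
      | succ k ih => intro v; rw [pow_succ, pow_succ, MulAut.mul_apply, MulAut.mul_apply, ih]; rfl
    have hγcop : (orderOf γ).Coprime p := Nat.Coprime.of_dvd_left (orderOf_dvd_of_pow_eq_one
      (MulEquiv.ext fun v => Subtype.ext (by rw [hγ, pow_orderOf_eq_one]; rfl))) hcop
    have h1 := CfsgLib.PGroups.eq_one_of_fixed_omega hp ((isPGroup_of_le hS hPc.1).to_subgroup V)
      γ hγcop fun v hv => Subtype.ext (hfix v (hn ▸ ThompsonJ.mem_omegaOne v.2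
        (congrArg (fun w : V => ((w : P) : Ω)) hv)))
    exact congrArg (fun δ : MulAut V => (δ ⟨x, hx⟩ : P)) h1
  · refine ⟨autInducedBy_le_autGroup F hPc.1 (conjAut_mem (hT.1 ht) htN), fun x => ?_,
      fun j x hx => ⟨?_, ?_, ?_⟩⟩
    · show t * (x : Ω) * t⁻¹ * (x : Ω)⁻¹ ∈ T
      have := T.mul_mem ht (stronglyClosed_conj hT (hPc.1 x.2) (T.inv_mem ht))
      simpa [mul_assoc] using this
    · exact stronglyClosed_conj (hsc _) (hT.1 ht) hx
    · have e : ((conjAut P t htN)⁻¹ x : P) = ⟨t⁻¹ * (x : Ω) * t⁻¹⁻¹,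
          mem_normalizer_conj (Subgroup.inv_mem _ htN) x.2⟩ := by
        apply (conjAut P t htN).injective
        rw [MulAut.apply_inv_self]
        exact Subtype.ext (by simp [mul_assoc])
      rw [e]
      exact stronglyClosed_conj (hsc _) (S.inv_mem (hT.1 ht)) hx
    · show t * (x : Ω) * t⁻¹ * (x : Ω)⁻¹ ∈ _
      have h2 := hc j
      rw [Subgroup.commutator_comm] at h2
      exact h2 (Subgroup.commutator_mem_commutator ht hx)

end CfsgLib.FusionModels
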