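import Cfsg.Agent.Lib.FusionBasics.Criterion.DGroup
import Cfsg.Agent.Lib.FusionBasics.KSaturated
import Cfsg.Agent.Lib.Alperin.Theorem
import Cfsg.Agent.Lib.PGroups.Aut
import Cfsg.Agent.Lib.FusionBasics.Extension

/-!
Quadratic automorphisms in a fusion system: stability at a subgroup, its transport and its
detection in normalizer systems.
-/

set_option autoImplicit false
set_option linter.style.haveILetI false

namespace CfsgLib.FusionModels

open Cfsg Cfsg.FusionSystem CfsgLib.Alperin CfsgLib.FusionBasics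

/-- `χ` acts quadratically. -/
def IsQuadraticAut {Q : Type*} [Group Q] (χ : MulAut Q) : Prop :=
  ∀ a : Q, (χ a⁻¹) * a * (χ a⁻¹) * (χ (χ a)) = 1

theorem IsQuadraticAut.congr {Q R : Type*} [Group Q] [Group R] (e : Q ≃* R) {χ : MulAut Q}
    (h : IsQuadraticAut χ) : IsQuadraticAut (MulAut.congr e χ) := fun b => by
  obtain ⟨a, rfl⟩ := e.surjective b
  have := congrArg e (h a)
  simpa [MulAut.congr, map_mul] using this

theorem IsQuadraticAut.fixes_diff {Q : Type*} [Group Q] {χ : MulAut Q} (h : IsQuadraticAut χ)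
    (a : Q) : χ (a⁻¹ * χ a) = a⁻¹ * χ a := by
  have h1 := h a
  rw [mul_assoc, ← map_mul] at h1
  have h2 := eq_inv_of_mul_eq_one_right h1
  rw [h2, mul_inv_rev, map_inv, inv_inv]

variable {Ω : Type*} [Group Ω] {S : Subgroup Ω}

/-- The quadratic elements of `Aut_F(Q)` lie in its `p`-core. -/
def StableAt (F : FusionSystem S) (p : ℕ) (Q : Subgroup Ω) : Prop :=
  ∀ χ : MulAut Q, χ ∈ F.autGroup Q → IsQuadraticAut χ → χ ∈ autCore F p Q

theorem stableAt_of_isConj {F : FusionSystem S} {p : ℕ} {Q R : Subgroup Ω} (h : F.IsConj Q R)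
    (hQ : StableAt F p Q) : StableAt F p R := by
  obtain ⟨φ, hφ, hr⟩ := h
  intro χ hχ hq
  set e := isoOfHom φ (F.injective_of_mem hφ) hr
  have he : R.subtype.comp e.toMonoidHom ∈ F.Hom Q := mem_of_apply_eq hφ fun _ => rfl
  obtain ⟨χ₀, hχ₀, rfl⟩ := (autGroup_map_congr hφ hr).ge hχ
  refine congr_mem_autCore he (hQ χ₀ hχ₀ ?_)
  have h1 := hq.congr e.symm
  have h2 : MulAut.congr e.symm ((MulAut.congr e).toMonoidHom χ₀) = χ₀ :=
    MulEquiv.ext fun x => by simp [MulAut.congr]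
  rwa [h2] at h1

/-- Stability passes to smaller automizers. -/
theorem stableAt_of_autGroup_le {T : Subgroup Ω} {F : FusionSystem S} {E : FusionSystem T} {p : ℕ}
    {Q : Subgroup Ω} (hle : E.autGroup Q ≤ F.autGroup Q) (hQ : StableAt F p Q) :
    StableAt E p Q := by
  intro χ hχ hq
  refine ⟨⟨χ, hχ⟩, ?_, rfl⟩
  haveI : ((autCore F p Q).subgroupOf (E.autGroup Q)).Normal := ⟨fun n hn g =>
    Subgroup.mem_subgroupOf.mpr (conj_mem_autCore (hle g.2) (Subgroup.mem_subgroupOf.mp hn))⟩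
  exact CfsgLib.Cores.le_pCore (N := (autCore F p Q).subgroupOf (E.autGroup Q))
    ((isPGroup_autCore F p Q).comap_of_injective _ (E.autGroup Q).subtype_injective)
    (show (⟨χ, hχ⟩ : E.autGroup Q) ∈ (autCore F p Q).subgroupOf (E.autGroup Q) from
      hQ χ (hle hχ) hq)

theorem autGroup_normalizerSystem_le {F : FusionSystem S} {R : Subgroup Ω}
    {N : FusionSystem (normalizerIn S R)} (hN : F.IsNormalizerSystem R N) {Q : Subgroup Ω}
    (hQ : Q ≤ normalizerIn S R) : N.autGroup Q ≤ F.autGroup Q := fun χ hχ => by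
  have h := (mem_autGroup_iff N hQ).mp hχ
  rw [hN Q] at h
  exact (mem_autGroup_iff F (hQ.trans (normalizerIn_le S R))).mpr h.1

variable [Finite S] {p : ℕ} [Fact p.Prime]

omit [Fact p.Prime] in
theorem stableAt_of_forall_fullyNormalized {F : FusionSystem S}
    (h : ∀ Q : Subgroup Ω, F.IsFullyNormalized Q → StableAt F p Q) {Q : Subgroup Ω} (hQ : Q ≤ S) :
    StableAt F p Q := by
  obtain ⟨R, hR, hRn⟩ := exists_isFullyNormalized F hQ
  exact stableAt_of_isConj (CfsgLib.Alperin.IsConj.symm hR) (h R hRn)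

omit [Fact p.Prime] in
/-- Stability passes to normalizer systems. -/
theorem stableAt_normalizerSystem {F : FusionSystem S}
    (h : ∀ Q : Subgroup Ω, F.IsFullyNormalized Q → StableAt F p Q) {R : Subgroup Ω}
    {N : FusionSystem (normalizerIn S R)} (hN : F.IsNormalizerSystem R N) {Q : Subgroup Ω}
    (hQ : Q ≤ normalizerIn S R) : StableAt N p Q :=
  stableAt_of_autGroup_le (autGroup_normalizerSystem_le hN hQ)
    (stableAt_of_forall_fullyNormalized h (hQ.trans (normalizerIn_le S R)))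

/-- `R` carries all of `Aut_F` of some conjugate of `Q` inside it. -/
def Carries (F : FusionSystem S) (Q R : Subgroup Ω) : Prop :=
  ∃ (Q' : Subgroup Ω) (hle : Q' ≤ R), F.IsConj Q Q' ∧ ∀ β ∈ F.autGroup Q', ∃ γ ∈ F.autGroup R,
    ∀ x : Q', ((γ (Subgroup.inclusion hle x) : R) : Ω) = (β x : Q')

omit [Finite S] [Fact p.Prime] in
theorem Carries.of_isConj {F : FusionSystem S} {Q R R' : Subgroup Ω} (h : Carries F Q R)
    (hc : F.IsConj R R') : Carries F Q R' := by
  obtain ⟨Q', hle, hQQ', hext⟩ := h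
  obtain ⟨φ, hφ, hr⟩ := hc
  set e := isoOfHom φ (F.injective_of_mem hφ) hr
  have hres := restrict_mem hφ hle
  set Q'' := (φ.comp (Subgroup.inclusion hle)).range with hQ''
  have hle' : Q'' ≤ R' := by
    rintro _ ⟨x, rfl⟩
    exact hr.le ⟨_, rfl⟩
  refine ⟨Q'', hle', CfsgLib.Alperin.IsConj.trans hQQ' ⟨_, hres, rfl⟩, fun β hβ => ?_⟩
  set e' := isoOfHom _ (F.injective_of_mem hres) hQ''.symm
  obtain ⟨β₀, hβ₀, rfl⟩ := (autGroup_map_congr hres hQ''.symm).ge hβ
  obtain ⟨γ, hγ, hγx⟩ := hext β₀ hβ₀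
  refine ⟨MulAut.congr e γ, (autGroup_map_congr hφ hr).le ⟨γ, hγ, rfl⟩, fun y => ?_⟩
  obtain ⟨x, rfl⟩ := e'.surjective y
  have h1 : Subgroup.inclusion hle' (e' x) = e (Subgroup.inclusion hle x) := Subtype.ext rfl
  rw [h1]
  show (e (γ (e.symm (e (Subgroup.inclusion hle x)))) : Ω) = (e' (β₀ (e'.symm (e' x))) : Ω)
  rw [MulEquiv.symm_apply_apply, MulEquiv.symm_apply_apply,
    show γ (Subgroup.inclusion hle x) = Subgroup.inclusion hle (β₀ x) from Subtype.ext (hγx x)]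
  rfl

/-- Automorphisms of a fully normalized subgroup extend to its `coreNorm`. -/
theorem exists_aut_coreNorm (hS : IsPGroup p S) {F : FusionSystem S} (hF : F.IsSaturated p)
    {A : Subgroup Ω} (hA : F.IsFullyNormalized A) {β : MulAut A} (hβ : β ∈ F.autGroup A) :
    ∃ γ ∈ F.autGroup (coreNorm F p A), ∀ x : A,
      ((γ (Subgroup.inclusion (le_coreNorm hS F hA.1) x) : coreNorm F p A) : Ω) = (β x : A) := by
  set R₁ := coreNorm F p A with hR₁
  have hR₁S : R₁ ≤ S := (coreNorm_le F p A).trans (normalizerIn_le S A)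
  haveI := finite_of_le hA.1
  haveI := finite_of_le hR₁S
  have hrec := receptive_of_fullyNormalized hS hF hA
  obtain ⟨-, -, T, hT⟩ := centralized_automized_of_fullyNormalized hS hF hA
  have hcoreS : autCore F p A ≤ autInducedBy S A := by
    haveI : Finite (F.autGroup A) := finite_autGroup F hA.1
    intro κ hκ
    obtain ⟨κ, hκ, rfl⟩ := hκ
    have h1 : κ ∈ (T : Subgroup (F.autGroup A)) := by
      obtain ⟨g, hg⟩ := (CfsgLib.Cores.isPGroup_pCore p (F.autGroup A)).exists_le_sylow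
      obtain ⟨u, rfl⟩ := MulAction.exists_smul_eq (F.autGroup A) g T
      rw [Sylow.coe_subgroup_smul, Subgroup.mem_pointwise_smul_iff_inv_smul_mem]
      exact hg (Subgroup.Normal.conj_mem inferInstance κ hκ _)
    rw [hT] at h1
    exact h1
  have hmem := (mem_autGroup_iff F hA.1).mp hβ
  have hr : (A.subtype.comp β.toMonoidHom).range = A := CfsgLib.FusionSub.range_subtype_comp_aut β
  obtain ⟨ψ, hψ, hψx⟩ := hrec.2 A _ hmem hr
  have hle : R₁ ≤ extender S A (A.subtype.comp β.toMonoidHom) := by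
    intro g hg
    obtain ⟨hgS, hgN, hgK⟩ := mem_coreNorm_iff.mp hg
    obtain ⟨h, hhS, hh⟩ := mem_autInducedBy_iff.mp (hcoreS (conj_mem_autCore hβ hgK))
    refine Subgroup.subset_closure ⟨hgS, hgN, h, hhS, fun x hx => ?_⟩
    have := hh (β x)
    simp only [MulAut.mul_apply, MulAut.inv_apply_self] at this
    refine Eq.trans ?_ this
    exact congrArg (fun v : A => ((β v : A) : Ω)) (Subtype.ext rfl)
  have hAR : A ≤ R₁ := le_coreNorm hS F hA.1
  have hψR := restrict_mem hψ hle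
  have hmap : (A.subgroupOf R₁).map (ψ.comp (Subgroup.inclusion hle)) = A :=
    (map_subgroupOf_of_extends (φ := A.subtype.comp β.toMonoidHom) hAR
      fun x hx hx' => hψx x hx (hle hx')).trans hr
  obtain ⟨γ, hγ, hγx⟩ := exists_aut_of_hom' F hψR fun g => apply_mem_coreNorm hψR hAR hmap g g.2
  exact ⟨γ, hγ, fun x => (hγx _).trans (hψx x x.2 _)⟩

theorem autCore_le_of_fullyNormalized (hS : IsPGroup p S) {F : FusionSystem S}
    (hF : F.IsSaturated p) {A : Subgroup Ω} (hA : F.IsFullyNormalized A) :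
    autCore F p A ≤ autInducedBy S A := by
  haveI : Finite (F.autGroup A) := finite_autGroup F hA.1
  obtain ⟨-, -, T, hT⟩ := centralized_automized_of_fullyNormalized hS hF hA
  rintro _ ⟨κ, hκ, rfl⟩
  have h1 : κ ∈ (T : Subgroup (F.autGroup A)) := by
    obtain ⟨g, hg⟩ := (CfsgLib.Cores.isPGroup_pCore p (F.autGroup A)).exists_le_sylow
    obtain ⟨u, rfl⟩ := MulAction.exists_smul_eq (F.autGroup A) g T
    rw [Sylow.coe_subgroup_smul, Subgroup.mem_pointwise_smul_iff_inv_smul_mem]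
    exact hg (Subgroup.Normal.conj_mem inferInstance κ hκ _)
  rw [hT] at h1
  exact h1

/-- Some fully normalized centric radical subgroup carries the automizer of `Q`. -/
theorem exists_carries_centric_radical (hS : IsPGroup p S) {F : FusionSystem S}
    (hF : F.IsSaturated p) {Q : Subgroup Ω} (hQ : Q ≤ S) :
    ∃ R : Subgroup Ω, F.IsFullyNormalized R ∧ F.IsCentric R ∧ F.IsRadical p R ∧ Carries F Q R := by
  classical
  haveI : Finite {R : Subgroup Ω // R ≤ S} :=
    Finite.of_injective (fun R => R.1.subgroupOf S) fun A B h =>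
      Subtype.ext (le_antisymm
        (fun x hx => (SetLike.ext_iff.mp h ⟨x, A.2 hx⟩).mp hx)
        (fun x hx => (SetLike.ext_iff.mp h ⟨x, B.2 hx⟩).mpr hx))
  -- a first carrier
  obtain ⟨Q₀, hQQ₀, hQ₀⟩ := exists_isFullyNormalized F hQ
  have hle₀ : coreNorm F p Q₀ ≤ S := (coreNorm_le F p Q₀).trans (normalizerIn_le S Q₀)
  have hcar : Carries F Q (coreNorm F p Q₀) :=
    ⟨Q₀, le_coreNorm hS F hQ₀.1, hQQ₀, fun β hβ => exists_aut_coreNorm hS hF hQ₀ hβ⟩
  have hcent : F.IsCentric (coreNorm F p Q₀) := by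
    refine ⟨hle₀, fun R hR c hc => ?_⟩
    obtain ⟨φ, hφ, rfl⟩ := hR
    have hQ₀R := le_coreNorm (p := p) hS F hQ₀.1
    haveI := finite_of_le hQ₀.1
    have hQc := (centralized_automized_of_fullyNormalized hS hF hQ₀).1
    set Q₂ := (φ.comp (Subgroup.inclusion hQ₀R)).range with hQ₂
    have hconj : F.IsConj Q₀ Q₂ := ⟨_, restrict_mem hφ hQ₀R, rfl⟩
    let g : ↥(centralizerIn S Q₀) →* Ω :=
      φ.comp (Subgroup.inclusion (centralizerIn_le_coreNorm F p Q₀))
    have hgle : g.range ≤ centralizerIn S Q₂ := by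
      rintro _ ⟨z, rfl⟩
      refine ⟨apply_mem hφ _, Subgroup.mem_centralizer_iff.mpr ?_⟩
      rintro _ ⟨y, rfl⟩
      show φ _ * φ _ = φ _ * φ _
      rw [← map_mul, ← map_mul]
      exact congrArg φ (Subtype.ext (Subgroup.mem_centralizer_iff.mp z.2.2 y y.2))
    haveI := finite_of_le (centralizerIn_le S Q₂)
    have hgeq : g.range = centralizerIn S Q₂ := Subgroup.eq_of_le_of_card_ge hgle (by
      rw [card_range_eq (F.injective_of_mem (restrict_mem hφ (centralizerIn_le_coreNorm F p Q₀)))]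
      exact hQc.2 Q₂ hconj)
    have hc₂ : c ∈ centralizerIn S Q₂ := ⟨hc.1, Subgroup.centralizer_le (by
      rintro _ ⟨y, rfl⟩
      exact ⟨_, rfl⟩) hc.2⟩
    obtain ⟨z, rfl⟩ := hgeq.ge hc₂
    exact ⟨_, rfl⟩
  obtain ⟨⟨R, hRS⟩, ⟨hRc, hRQ⟩, hmax⟩ := Set.exists_max_image
    {R : {R : Subgroup Ω // R ≤ S} | F.IsCentric R.1 ∧ Carries F Q R.1}
    (fun R => Nat.card R.1) (Set.toFinite _) ⟨⟨_, hle₀⟩, hcent, hcar⟩
  obtain ⟨R', hRR', hR'n⟩ := exists_isFullyNormalized F hRS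
  have hR'c : F.IsCentric R' := ⟨hR'n.1, fun T hT => hRc.2 T (CfsgLib.Alperin.IsConj.trans hRR' hT)⟩
  have hR'Q := hRQ.of_isConj hRR'
  refine ⟨R', hR'n, hR'c, ⟨hR'n.1, ?_⟩, hR'Q⟩
  by_contra hne
  have hRR₁ := le_coreNorm (p := p) hS F hR'n.1
  have hR₁S : coreNorm F p R' ≤ S := (coreNorm_le F p R').trans (normalizerIn_le S R')
  obtain ⟨κ, hκ, hκI⟩ : ∃ κ ∈ autCore F p R', κ ∉ Inn R' :=
    Set.not_subset.mp fun h => hne (le_antisymm h (inn_le_autCore hS F hR'n.1))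
  obtain ⟨g, hgS, hg⟩ := mem_autInducedBy_iff.mp (autCore_le_of_fullyNormalized hS hF hR'n hκ)
  have hgR : g ∈ coreNorm F p R' := ⟨hgS, κ, hκ, fun x => hg x⟩
  have hlt : R' < coreNorm F p R' := lt_of_le_of_ne hRR₁ fun h => by
    refine hκI ⟨⟨g, h ▸ hgR⟩, MulEquiv.ext fun x => Subtype.ext ?_⟩
    exact (hg x).symm
  obtain ⟨Q', hle, hQQ', hext⟩ := hR'Q
  have hcar' : Carries F Q (coreNorm F p R') := by
    refine ⟨Q', hle.trans hRR₁, hQQ', fun β hβ => ?_⟩
    obtain ⟨γ, hγ, hγx⟩ := hext β hβ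
    obtain ⟨δ, hδ, hδx⟩ := exists_aut_coreNorm hS hF hR'n hγ
    exact ⟨δ, hδ, fun x => (hδx (Subgroup.inclusion hle x)).trans (hγx x)⟩
  have : Nat.card (coreNorm F p R') ≤ Nat.card R := hmax ⟨_, hR₁S⟩ ⟨isCentric_of_le hR'c hRR₁ hR₁S, hcar'⟩
  have h2 := CfsgLib.FusionSub.card_lt_card hR₁S hlt
  rw [CfsgLib.Alperin.IsConj.card_eq hRR'] at h2
  omega

/-- Stability is detected by the normalizer systems of centric radical subgroups. -/
theorem stableAt_of_centric_radical (hS : IsPGroup p S) {F : FusionSystem S}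
    (hF : F.IsSaturated p)
    (h : ∀ R : Subgroup Ω, F.IsFullyNormalized R → F.IsCentric R → F.IsRadical p R →
      ∀ N : FusionSystem (normalizerIn S R), F.IsNormalizerSystem R N →
        ∀ Q : Subgroup Ω, N.IsFullyNormalized Q → StableAt N p Q)
    {Q : Subgroup Ω} (hQ : Q ≤ S) : StableAt F p Q := by
  obtain ⟨R, hRn, hRc, hRr, Q', hle, hQQ', hext⟩ := exists_carries_centric_radical hS hF hQ
  obtain ⟨N, hN⟩ := exists_normalizerSystem F hRn.1
  have hQ'N : Q' ≤ normalizerIn S R := hle.trans (le_normalizerIn hRn.1)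
  haveI := finite_of_le (normalizerIn_le S R)
  have hst : StableAt N p Q' :=
    stableAt_of_forall_fullyNormalized (h R hRn hRc hRr N hN) hQ'N
  refine stableAt_of_isConj (CfsgLib.Alperin.IsConj.symm hQQ') (stableAt_of_autGroup_le ?_ hst)
  intro β hβ
  obtain ⟨γ, hγ, hγx⟩ := hext β hβ
  haveI := finite_of_le (hQ'N.trans (normalizerIn_le S R))
  haveI := finite_of_le hRn.1
  refine (mem_autGroup_iff N hQ'N).mpr ?_
  rw [hN]
  have hle' : Q' ⊔ R ≤ R := sup_le hle le_rfl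
  refine ⟨(mem_autGroup_iff F (hle.trans hRn.1)).mp hβ, hQ'N, fun x => hQ'N (β x).2,
    _, restrict_mem ((mem_autGroup_iff F hRn.1).mp hγ) hle', fun x => hγx x, ?_⟩
  refine le_antisymm ?_ fun y hy => ?_
  · rintro _ ⟨x, -, rfl⟩
    exact (γ _).2
  · refine ⟨⟨(γ⁻¹ ⟨y, hy⟩ : R), Subgroup.mem_sup_right (γ⁻¹ ⟨y, hy⟩).2⟩, (γ⁻¹ ⟨y, hy⟩).2, ?_⟩
    exact congrArg Subtype.val (γ.apply_symm_apply ⟨y, hy⟩)

/-- Cyclic groups of odd order are stable. -/
theorem stableAt_of_isCyclic (hS : IsPGroup p S) (F : FusionSystem S) {Q : Subgroup Ω}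
    (hQ : Q ≤ S) (hc : IsCyclic Q) : StableAt F p Q := by
  intro χ hχ hq
  haveI := finite_of_le hQ
  haveI := finite_autGroup F hQ
  set A := F.autGroup Q
  have hQp := isPGroup_of_le hS hQ
  have hcomm : ∀ a b : MulAut Q, a * b = b * a := fun a b => by
    obtain ⟨m, hm⟩ := MonoidHom.map_cyclic a.toMonoidHom
    obtain ⟨n, hn⟩ := MonoidHom.map_cyclic b.toMonoidHom
    refine MulEquiv.ext fun x => ?_
    have hm' : ∀ y, a y = y ^ m := hm
    have hn' : ∀ y, b y = y ^ n := hn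
    rw [MulAut.mul_apply, MulAut.mul_apply, hn', hm', hm', hn', ← zpow_mul, ← zpow_mul, mul_comm]
  have hpow : ∃ k : ℕ, χ ^ p ^ k = 1 := by
    obtain ⟨k, hk⟩ := IsPGroup.iff_card.mp hQp
    refine ⟨k, MulEquiv.ext fun x => ?_⟩
    have hx : χ x = x * (x⁻¹ * χ x) := by group
    rw [CfsgLib.PGroups.mulAut_iterate_eq χ hx (hq.fixes_diff x), ← hk, pow_card_eq_one', mul_one]
    rfl
  refine ⟨⟨χ, hχ⟩, ?_, rfl⟩
  obtain ⟨k, hk⟩ := hpow
  haveI : (Subgroup.zpowers (⟨χ, hχ⟩ : A)).Normal := ⟨fun n hn g => by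
    rw [show g * n * g⁻¹ = n from Subtype.ext (by
      show (g : MulAut Q) * n * (g : MulAut Q)⁻¹ = n
      rw [hcomm _ (n : MulAut Q), mul_inv_cancel_right])]
    exact hn⟩
  refine CfsgLib.Cores.le_pCore (N := Subgroup.zpowers (⟨χ, hχ⟩ : A)) ?_ (Subgroup.mem_zpowers _)
  obtain ⟨j, -, hj⟩ := (Nat.dvd_prime_pow (Fact.out : p.Prime)).mp
    (orderOf_dvd_of_pow_eq_one (show (⟨χ, hχ⟩ : A) ^ p ^ k = 1 from Subtype.ext hk))
  exact IsPGroup.of_card ((Nat.card_zpowers _).trans hj)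

end CfsgLib.FusionModels
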