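/-
Group theory for p-groups of p-rank two, p odd: a small characteristic detecting subgroup, and the
automorphism algebra on an elementary abelian group of order p^2.
-/
import Cfsg.Agent.Lib.Transfer.Critical
import Cfsg.Agent.Lib.PGroups.Omega
import Cfsg.Agent.Lib.PGroups.Aut
import Cfsg.Agent.Lib.CoprimeAction.Aut

set_option autoImplicit false
set_option linter.style.haveILetI false
set_option linter.unusedSectionVars false

open scoped commutatorElement

namespace CfsgLib.FusionModels.RankTwo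

variable {p : ℕ} [hpp : Fact p.Prime]

/-- No elementary abelian subgroup of order `p ^ 3`. -/
def RankLE2 (p : ℕ) (G : Type*) [Group G] : Prop :=
  ∀ A : Subgroup G, (∀ a ∈ A, ∀ b ∈ A, a * b = b * a) → (∀ a ∈ A, a ^ p = 1) → Nat.card A ≤ p ^ 2

theorem RankLE2.of_injective {G H : Type*} [Group G] [Group H] (h : RankLE2 p G) (f : H →* G)
    (hf : Function.Injective f) : RankLE2 p H := by
  intro A hc he
  rw [← Subgroup.card_map_of_injective hf]
  refine h _ ?_ ?_
  · rintro _ ⟨a, ha, rfl⟩ _ ⟨b, hb, rfl⟩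
    rw [← map_mul, ← map_mul, hc a ha b hb]
  · rintro _ ⟨a, ha, rfl⟩
    rw [← map_pow, he a ha, map_one]

/-- Three commuting independent elements of order `p` are too many. -/
theorem RankLE2.mem_of_commute {G : Type*} [Group G] [Finite G] (h : RankLE2 p G) {A : Subgroup G}
    (hc : ∀ a ∈ A, ∀ b ∈ A, a * b = b * a) (he : ∀ a ∈ A, a ^ p = 1) (hA : Nat.card A = p ^ 2)
    {y : G} (hy : y ^ p = 1) (hyA : ∀ a ∈ A, a * y = y * a) : y ∈ A := by
  have hcent : A ⊔ Subgroup.zpowers y = Subgroup.closure ((A : Set G) ∪ {y}) := by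
    rw [Subgroup.closure_union, Subgroup.closure_eq, Subgroup.zpowers_eq_closure]
  set B := A ⊔ Subgroup.zpowers y with hB
  have hBc : IsMulCommutative B := by
    rw [hcent]
    refine Subgroup.isMulCommutative_closure ?_
    rintro a (ha | rfl) b (hb | rfl)
    · exact hc a ha b hb
    · exact hyA a ha
    · exact (hyA b hb).symm
    · rfl
  haveI := hBc
  have hBp : ∀ b ∈ B, b ^ p = 1 := by
    intro b hb
    rw [hcent] at hb
    induction hb using Subgroup.closure_induction with
    | mem a ha =>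
      rcases ha with ha | rfl
      · exact he a ha
      · exact hy
    | one => exact one_pow p
    | mul a b ha hb iha ihb =>
      have hab : Commute (⟨a, hcent ▸ ha⟩ : B) ⟨b, hcent ▸ hb⟩ := mul_comm' _ _
      rw [(show Commute a b from congrArg Subtype.val hab.eq).mul_pow, iha, ihb, one_mul]
    | inv a _ ih => rw [inv_pow, ih, inv_one]
  have hle := h B (fun a ha b hb => congrArg Subtype.val (mul_comm' (⟨a, ha⟩ : B) ⟨b, hb⟩)) hBp
  rw [← hA] at hle
  exact (Subgroup.eq_of_le_of_card_ge le_sup_left hle).ge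
    (Subgroup.mem_sup_right (Subgroup.mem_zpowers y))

/-- A small characteristic subgroup of exponent `p` detecting automorphisms of order prime to `p`. -/
theorem exists_detecting {G : Type*} [Group G] [Finite G] (hG : IsPGroup p G) (h2 : p ≠ 2)
    (hr : RankLE2 p G) : ∃ W : Subgroup G, W.Characteristic ∧ (∀ w ∈ W, w ^ p = 1) ∧
      (Nat.card W ≤ p ∨ (IsMulCommutative W ∧ Nat.card W = p ^ 2) ∨
        (¬ IsMulCommutative W ∧ Nat.card W = p ^ 3)) ∧
      ∀ α : MulAut G, (orderOf α).Coprime p → (∀ w ∈ W, α w = w) → α = 1 := by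
  obtain ⟨H, hHc, -, hHcom, hHC⟩ := CfsgLib.Transfer.exists_critical (p := p) hG
  haveI := hHc
  have hcl : ⁅commutator H, (⊤ : Subgroup H)⁆ = ⊥ := by
    rw [Subgroup.commutator_top_right_eq_bot_iff_le_center, commutator_def, Subgroup.commutator_le]
    intro a _ b _
    refine Subgroup.mem_center_iff.2 fun c => Subtype.ext ?_
    have h1 := (hHcom (Subgroup.commutator_mem_commutator a.2 (Subgroup.mem_top (b : G)))).2
    exact Subgroup.mem_centralizer_iff.1 h1 c c.2
  let W : Subgroup G :=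
    { carrier := {x | x ∈ H ∧ x ^ p = 1}
      one_mem' := ⟨one_mem H, one_pow p⟩
      mul_mem' := fun {a b} ha hb => ⟨mul_mem ha.1 hb.1, by
        have h := CfsgLib.PGroups.mul_pow_eq_one_of_small_class (G := H) (p := p)
          (Or.inl ⟨h2, hcl⟩) (x := ⟨a, ha.1⟩) (y := ⟨b, hb.1⟩) (Subtype.ext ha.2) (Subtype.ext hb.2)
        exact congrArg Subtype.val h⟩
      inv_mem' := fun {a} ha => ⟨inv_mem ha.1, by rw [inv_pow, ha.2, inv_one]⟩ }
  have hHmap : ∀ (α : MulAut G) (x : G), x ∈ H → α x ∈ H := fun α x hx =>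
    ((Subgroup.characteristic_iff_map_eq.mp hHc) α).le ⟨x, hx, rfl⟩
  refine ⟨W, ?_, fun w hw => hw.2, ?_, ?_⟩
  · refine Subgroup.characteristic_iff_map_le.2 fun α => ?_
    rintro _ ⟨x, ⟨hxH, hxp⟩, rfl⟩
    refine ⟨hHmap α x hxH, ?_⟩
    show α x ^ p = 1
    rw [← map_pow, hxp, map_one]
  · by_cases hWc : IsMulCommutative W
    · haveI := hWc
      have h1 := hr W (fun a ha b hb => congrArg Subtype.val (mul_comm' (⟨a, ha⟩ : W) ⟨b, hb⟩))
        fun a ha => ha.2
      obtain ⟨k, hk⟩ := IsPGroup.iff_card.1 (hG.to_subgroup W)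
      rw [hk] at h1 ⊢
      have hk2 : k ≤ 2 := (Nat.pow_le_pow_iff_right hpp.out.one_lt).1 h1
      rcases Nat.lt_or_ge k 2 with h3 | h3
      · left
        calc p ^ k ≤ p ^ 1 := Nat.pow_le_pow_right hpp.out.pos (by omega)
          _ = p := pow_one p
      · exact Or.inr (Or.inl ⟨hWc, by rw [show k = 2 by omega]⟩)
    · refine Or.inr (Or.inr ⟨hWc, ?_⟩)
      have hWp : IsPGroup p W := hG.to_subgroup W
      haveI : Nontrivial W := by
        by_contra hn
        rw [not_nontrivial_iff_subsingleton] at hn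
        exact hWc ⟨⟨fun a b => Subsingleton.elim _ _⟩⟩
      set Z := Subgroup.center W with hZ
      have hrW : RankLE2 p W := hr.of_injective W.subtype W.subtype_injective
      have hexp : ∀ w : W, w ^ p = 1 := fun w => Subtype.ext w.2.2
      have hcom : ∀ a b : W, ⁅a, b⁆ ∈ Z := fun a b => Subgroup.mem_center_iff.2 fun c => Subtype.ext <| by
        have h1 := (hHcom (Subgroup.commutator_mem_commutator a.2.1 (Subgroup.mem_top (b : G)))).2
        exact Subgroup.mem_centralizer_iff.1 h1 c c.2.1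
      obtain ⟨x, hx⟩ : ∃ x : W, x ∉ Z := by
        by_contra hh
        push Not at hh
        exact hWc ⟨⟨fun a b => Subgroup.mem_center_iff.1 (hh b) a⟩⟩
      -- `⟨x⟩ ⊔ Z` is elementary abelian
      set A := Z ⊔ Subgroup.zpowers x with hA
      have hAc : IsMulCommutative A := by
        rw [hA, ← Subgroup.closure_eq Z, Subgroup.zpowers_eq_closure, ← Subgroup.closure_union]
        refine Subgroup.isMulCommutative_closure ?_
        rintro a (ha | rfl) b (hb | rfl)
        · exact (Subgroup.mem_center_iff.1 hb a)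
        · exact (Subgroup.mem_center_iff.1 ha _).symm
        · exact Subgroup.mem_center_iff.1 hb _
        · rfl
      haveI := hAc
      have hAcomm : ∀ a ∈ A, ∀ b ∈ A, a * b = b * a := fun a ha b hb =>
        congrArg Subtype.val (mul_comm' (⟨a, ha⟩ : A) ⟨b, hb⟩)
      have hA2 : Nat.card A ≤ p ^ 2 := hrW A hAcomm fun a _ => hexp a
      have hZlt : Nat.card Z < Nat.card A := lt_of_le_of_ne (Subgroup.card_le_of_le le_sup_left)
        fun he => hx ((Subgroup.eq_of_le_of_card_ge (le_sup_left : Z ≤ A) he.ge).ge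
          (Subgroup.mem_sup_right (Subgroup.mem_zpowers x)))
      obtain ⟨i, hi⟩ := IsPGroup.iff_card.1 (hWp.to_subgroup Z)
      obtain ⟨j, hj⟩ := IsPGroup.iff_card.1 (hWp.to_subgroup A)
      have hi0 : i ≠ 0 := fun h => by
        haveI := hWp.center_nontrivial
        rw [h, pow_zero] at hi
        exact absurd hi (Finite.one_lt_card (α := Z)).ne'
      rw [hi, hj] at hZlt
      rw [hj] at hA2
      have hij : i < j := (Nat.pow_lt_pow_iff_right hpp.out.one_lt).1 hZlt
      have hj2 : j ≤ 2 := (Nat.pow_le_pow_iff_right hpp.out.one_lt).1 hA2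
      obtain ⟨rfl, rfl⟩ : i = 1 ∧ j = 2 := by omega
      rw [pow_one] at hi
      -- the centralizer of `x` is `A`
      have hCA : Subgroup.centralizer ({x} : Set W) ≤ A := fun y hy => by
        refine hrW.mem_of_commute hAcomm (fun a _ => hexp a) hj (hexp y) fun a ha => ?_
        have hle : A ≤ Subgroup.centralizer ({y} : Set W) :=
          sup_le (fun z hz => Subgroup.mem_centralizer_singleton_iff.2
              (Subgroup.mem_center_iff.1 hz y).symm)
            (Subgroup.zpowers_le.2 (Subgroup.mem_centralizer_singleton_iff.2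
              (Subgroup.mem_centralizer_singleton_iff.1 hy).symm))
        exact Subgroup.mem_centralizer_singleton_iff.1 (hle ha)
      let f : W →* Z :=
        { toFun := fun y => ⟨⁅y, x⁆, hcom y x⟩
          map_one' := Subtype.ext (commutatorElement_one_left x)
          map_mul' := fun a b => Subtype.ext <| by
            show ⁅a * b, x⁆ = ⁅a, x⁆ * ⁅b, x⁆
            have h1 : ⁅a * b, x⁆ = a * ⁅b, x⁆ * a⁻¹ * ⁅a, x⁆ := by
              simp only [commutatorElement_def]; group
            rw [h1, Subgroup.mem_center_iff.1 (hcom b x) a, mul_inv_cancel_right,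
              Subgroup.mem_center_iff.1 (hcom a x)] }
      have hker : f.ker ≤ A := fun y hy => hCA (Subgroup.mem_centralizer_singleton_iff.2
        (commutatorElement_eq_one_iff_mul_comm.1 (congrArg Subtype.val hy :)))
      have h1 : Nat.card W ≤ p ^ 3 := by
        rw [← f.ker.card_mul_index, Subgroup.index_ker]
        calc Nat.card f.ker * Nat.card f.range ≤ p ^ 2 * p := Nat.mul_le_mul
              ((Subgroup.card_le_of_le hker).trans hj.le)
              ((Subgroup.card_le_card_group _).trans hi.le)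
          _ = p ^ 3 := (pow_succ p 2).symm
      obtain ⟨k, hk⟩ := IsPGroup.iff_card.1 hWp
      rw [hk] at h1 ⊢
      have hk3 : k ≤ 3 := (Nat.pow_le_pow_iff_right hpp.out.one_lt).1 h1
      congr 1
      by_contra hne
      have hk2 : k ≤ 2 := by omega
      apply hx
      rw [hZ]
      refine Subgroup.mem_center_iff.2 fun g => hAcomm g ?_ x (Subgroup.mem_sup_right (Subgroup.mem_zpowers x))
      refine (Subgroup.eq_top_of_le_card A ?_).ge (Subgroup.mem_top g)
      rw [hk, hj]
      exact Nat.pow_le_pow_right hpp.out.pos hk2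
  · intro α hα hfix
    let β : MulAut H :=
      { toFun := fun x => ⟨α x, hHmap α x x.2⟩
        invFun := fun x => ⟨α⁻¹ x, hHmap α⁻¹ x x.2⟩
        left_inv := fun x => Subtype.ext (MulAut.inv_apply_self G α x)
        right_inv := fun x => Subtype.ext (MulAut.apply_inv_self G α x)
        map_mul' := fun a b => Subtype.ext (map_mul α _ _) }
    have hβn : ∀ (n : ℕ) (x : H), (((β ^ n) x : H) : G) = (α ^ n) x := by
      intro n
      induction n with
      | zero => intro x; simp
      | succ n ih => intro x; rw [pow_succ, pow_succ, MulAut.mul_apply, MulAut.mul_apply, ih]; rfl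
    have hβ : β = 1 := by
      refine CfsgLib.PGroups.eq_one_of_fixed_omega h2 (hG.to_subgroup H) β ?_ fun x hx => ?_
      · refine Nat.Coprime.coprime_dvd_left (orderOf_dvd_of_pow_eq_one (MulEquiv.ext fun x => ?_)) hα
        exact Subtype.ext (by rw [hβn, pow_orderOf_eq_one]; rfl)
      · exact Subtype.ext (hfix x ⟨x.2, congrArg Subtype.val hx⟩)
    exact CfsgLib.PGroups.eq_one_of_fixed_centralizer_le hG H hHC α hα fun x hx =>
      congrArg Subtype.val (DFunLike.congr_fun hβ (⟨x, hx⟩ : H))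

section Plane

variable {V : Type*} [Group V]

theorem zpow_transvection {t : MulAut V} {z e : V} {a : ℤ} (htz : t z = z)
    (ha : t e = e * z ^ a) (m : ℤ) : (t ^ m) z = z ∧ (t ^ m) e = e * z ^ (a * m) := by
  induction m with
  | zero => simp
  | succ m ih =>
    rw [zpow_add, zpow_one, MulAut.mul_apply, MulAut.mul_apply, htz, ha, map_mul, map_zpow, ih.1,
      ih.2, mul_add, mul_one, zpow_add, mul_assoc]
    exact ⟨rfl, rfl⟩
  | pred m ih =>
    have h2 : t⁻¹ z = z := by nth_rewrite 1 [← htz]; rw [MulAut.inv_apply_self]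
    have h3 : t⁻¹ e = e * z ^ (-a) := by
      apply t.injective
      rw [MulAut.apply_inv_self, map_mul, map_zpow, htz, ha, zpow_neg, mul_inv_cancel_right]
    rw [zpow_sub, zpow_one, MulAut.mul_apply, MulAut.mul_apply, h2, h3, map_mul, map_zpow, ih.1,
      ih.2, mul_assoc, ← zpow_add]
    exact ⟨rfl, by ring_nf⟩

/-- The transvection pair gives the torus. -/
theorem exists_torus (hc : ∀ a b : V, a * b = b * a) (hexp : ∀ v : V, v ^ p = 1)
    (hcard : Nat.card V = p ^ 2) (A : Subgroup (MulAut V)) {z : V} (hz : z ≠ 1) {t : MulAut V}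
    (htA : t ∈ A) (htz : t z = z) (htL : ∀ v, v⁻¹ * t v ∈ Subgroup.zpowers z) (ht : t ≠ 1)
    {γ : MulAut V} (hγA : γ ∈ A) (hγ : γ z ∉ Subgroup.zpowers z) :
    ∃ (e : V) (a : ℤ), e ∉ Subgroup.zpowers z ∧ ¬ (p : ℤ) ∣ a ∧ t e = e * z ^ a ∧
      (∀ v : V, ∃ i j : ℤ, v = e ^ i * z ^ j) ∧
      ∀ lam mu : ℤ, (p : ℤ) ∣ lam * mu - 1 → ∃ d ∈ A, d z = z ^ lam ∧ d e = e ^ mu := by
  haveI : Finite V := Nat.finite_of_card_ne_zero (by rw [hcard]; exact pow_ne_zero _ hpp.out.ne_zero)
  set e := γ z with he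
  have hzo : orderOf z = p := orderOf_eq_prime (hexp z) hz
  have he1 : e ≠ 1 := fun h => hγ (h ▸ one_mem _)
  have heo : orderOf e = p := orderOf_eq_prime (hexp e) he1
  haveI hn : ∀ H : Subgroup V, H.Normal := fun H => ⟨fun a ha g => by
    rw [hc g a, mul_inv_cancel_right]; exact ha⟩
  have hspan : ∀ v : V, ∃ i j : ℤ, v = e ^ i * z ^ j := by
    have htop : Subgroup.zpowers e ⊔ Subgroup.zpowers z = ⊤ := by
      refine Subgroup.eq_top_of_le_card _ ?_
      have hlt : Subgroup.zpowers z < Subgroup.zpowers e ⊔ Subgroup.zpowers z :=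
        lt_of_le_of_ne le_sup_right fun h => hγ (h.ge (Subgroup.mem_sup_left (Subgroup.mem_zpowers e)))
      obtain ⟨k, hk, hkc⟩ := (Nat.dvd_prime_pow hpp.out).1
        (hcard ▸ (Subgroup.zpowers e ⊔ Subgroup.zpowers z).card_subgroup_dvd_card)
      have hlt' : Nat.card (Subgroup.zpowers z) < p ^ k := hkc ▸ lt_of_le_of_ne
        (Subgroup.card_le_of_le hlt.le) fun h => hlt.ne (Subgroup.eq_of_le_of_card_ge hlt.le h.ge)
      rw [Nat.card_zpowers, hzo] at hlt'
      have : 1 < k := (Nat.pow_lt_pow_iff_right hpp.out.one_lt).1 (by simpa using hlt')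
      rw [hcard, hkc]
      exact Nat.pow_le_pow_right hpp.out.pos this
    intro v
    have hv := htop.ge (Subgroup.mem_top v)
    rw [Subgroup.mem_sup_of_normal_right] at hv
    obtain ⟨_, ⟨i, rfl⟩, _, ⟨j, rfl⟩, h⟩ := hv
    exact ⟨i, j, h.symm⟩
  obtain ⟨a, ha⟩ := htL e
  replace ha : t e = e * z ^ a := by
    rw [show z ^ a = e⁻¹ * t e from ha, mul_inv_cancel_left]
  have hdvd : ∀ {w : V} (_ : orderOf w = p) {k : ℤ}, (p : ℤ) ∣ k → w ^ k = 1 := fun hw k hk =>
    orderOf_dvd_iff_zpow_eq_one.1 (by rwa [hw])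
  have hap : ¬ (p : ℤ) ∣ a := fun h => ht <| MulEquiv.ext fun v => by
    obtain ⟨i, j, rfl⟩ := hspan v
    rw [map_mul, map_zpow, map_zpow, ha, htz, hdvd hzo h, mul_one]
    rfl
  -- the second transvection
  set u := γ * t * γ⁻¹ with hu
  have hue : u e = e := by
    rw [hu, he, MulAut.mul_apply, MulAut.mul_apply, MulAut.inv_apply_self, htz]
  obtain ⟨i₀, j₀, hγz⟩ := hspan (γ⁻¹ z)
  set b := a * i₀ with hb
  have huz : u z = z * e ^ b := by
    rw [hu, MulAut.mul_apply, MulAut.mul_apply, hγz, map_mul, map_zpow, map_zpow, ha, htz,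
      (show Commute e (z ^ a) from hc _ _).mul_zpow, map_mul, map_mul, ← zpow_mul, map_zpow,
      show γ (z ^ (a * i₀)) = e ^ (a * i₀) from map_zpow γ z _]
    have h1 : γ (e ^ i₀) * γ (z ^ j₀) = z := by
      rw [← map_mul, ← hγz, MulAut.apply_inv_self]
    rw [map_zpow] at h1
    calc γ e ^ i₀ * e ^ (a * i₀) * γ (z ^ j₀) = γ e ^ i₀ * (γ (z ^ j₀) * e ^ (a * i₀)) := by
          rw [mul_assoc, hc (e ^ (a * i₀))]
      _ = z * e ^ b := by rw [← mul_assoc, h1]
  have hbp : ¬ (p : ℤ) ∣ b := by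
    intro h
    have hi : (p : ℤ) ∣ i₀ := ((Int.Prime.dvd_mul' hpp.out h).resolve_left hap)
    rw [hdvd heo hi, one_mul] at hγz
    apply hγ
    -- `γ⁻¹` would stabilize the line, so would `γ`
    have hle : (Subgroup.zpowers z).map (γ⁻¹ : MulAut V).toMonoidHom ≤ Subgroup.zpowers z := by
      rw [MonoidHom.map_zpowers, Subgroup.zpowers_le]
      exact ⟨j₀, hγz.symm⟩
    have heq := Subgroup.eq_of_le_of_card_ge hle
      (Subgroup.card_map_of_injective (γ⁻¹ : MulAut V).injective).ge
    obtain ⟨w, hw, hwz⟩ := heq.ge (Subgroup.mem_zpowers z)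
    have hwz' : γ⁻¹ w = z := hwz
    rw [he, show γ z = w from (congrArg γ hwz').symm.trans (MulAut.apply_inv_self V γ w)]
    exact hw
  -- arbitrary powers of the transvections
  have hT : ∀ s : ℤ, ∃ T ∈ A, T z = z ∧ T e = e * z ^ s := by
    intro s
    obtain ⟨x, y, hxy⟩ : IsCoprime a p :=
      (((Nat.prime_iff_prime_int.1 hpp.out).coprime_iff_not_dvd).2 hap).symm
    refine ⟨t ^ (x * s), zpow_mem htA _, ?_⟩
    have hn' := zpow_transvection htz ha
    refine ⟨(hn' _).1, (hn' _).2.trans ?_⟩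
    congr 1
    rw [zpow_eq_zpow_iff_modEq, hzo, Int.modEq_iff_dvd]
    exact ⟨y * s, by linear_combination s * hxy.symm⟩
  have hU : ∀ s : ℤ, ∃ U ∈ A, U e = e ∧ U z = z * e ^ s := by
    intro s
    obtain ⟨x, y, hxy⟩ : IsCoprime b p :=
      (((Nat.prime_iff_prime_int.1 hpp.out).coprime_iff_not_dvd).2 hbp).symm
    have hn' := zpow_transvection hue huz
    refine ⟨u ^ (x * s), zpow_mem (mul_mem (mul_mem hγA htA) (inv_mem hγA)) _, (hn' _).1,
      (hn' _).2.trans ?_⟩
    congr 1
    rw [zpow_eq_zpow_iff_modEq, heo, Int.modEq_iff_dvd]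
    exact ⟨y * s, by linear_combination s * hxy.symm⟩
  -- the monomial elements
  have hw : ∀ lam mu : ℤ, (p : ℤ) ∣ lam * mu - 1 →
      ∃ w ∈ A, w z = e ^ (-mu) ∧ w e = z ^ lam := by
    intro lam mu hlm
    obtain ⟨T, hTA, hTz, hTe⟩ := hT lam
    obtain ⟨U, hUA, hUe, hUz⟩ := hU (-mu)
    have h0 : ∀ {w : V}, orderOf w = p → w ^ (lam * mu) = w := fun {w} hw => by
      nth_rewrite 2 [← zpow_one w]
      rw [zpow_eq_zpow_iff_modEq, hw, Int.modEq_iff_dvd]
      obtain ⟨k, hk⟩ := hlm
      exact ⟨-k, by linarith⟩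
    refine ⟨T * U * T, mul_mem (mul_mem hTA hUA) hTA, ?_, ?_⟩
    · rw [MulAut.mul_apply, MulAut.mul_apply, hTz, hUz, map_mul, map_zpow, hTz, hTe,
        (show Commute e (z ^ lam) from hc _ _).mul_zpow, hc (e ^ (-mu)), ← mul_assoc, ← zpow_mul,
        mul_neg, zpow_neg, h0 hzo, mul_inv_cancel, one_mul]
    · rw [MulAut.mul_apply, MulAut.mul_apply, hTe, map_mul, map_zpow, hUe, hUz, map_mul, hTe,
        map_zpow, map_mul, hTz, map_zpow, hTe]
      have h1 : e * z ^ lam = (e * z ^ lam) ^ (lam * mu) := by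
        by_cases h : e * z ^ lam = 1
        · rw [h, one_zpow]
        · exact (h0 (orderOf_eq_prime (hexp _) h)).symm
      nth_rewrite 1 [h1]
      rw [(show Commute z ((e * z ^ lam) ^ (-mu)) from hc _ _).mul_zpow, ← zpow_mul,
        hc (z ^ lam), ← mul_assoc, ← zpow_add, show lam * mu + -mu * lam = 0 by ring, zpow_zero,
        one_mul]
  refine ⟨e, a, hγ, hap, ha, hspan, fun lam mu hlm => ?_⟩
  obtain ⟨w, hwA, hwz, hwe⟩ := hw lam mu hlm
  obtain ⟨w', hw'A, hw'z, hw'e⟩ := hw (-1) (-1) (by norm_num)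
  refine ⟨w * w', mul_mem hwA hw'A, ?_, ?_⟩
  · rw [MulAut.mul_apply, hw'z, neg_neg, map_zpow, zpow_one, hwe]
  · rw [MulAut.mul_apply, hw'e, map_zpow, hwz, ← zpow_mul]
    ring_nf

end Plane

/-- A unipotent automorphism of order `p` with small jumps fixes `a ^ p`. -/
theorem pow_fixed_of_unipotent {E : Type*} [CommGroup E] (hp5 : 5 ≤ p) {x : MulAut E}
    (hx : x ^ p = 1) {a b₁ b₂ b₃ : E} (h0 : x a = a * b₁) (h1 : x b₁ = b₁ * b₂)
    (h2 : x b₂ = b₂ * b₃) (h3 : x b₃ = b₃) (hb₂ : b₂ ^ p = 1) (hb₃ : b₃ ^ p = 1) : b₁ ^ p = 1 := by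
  have hit : ∀ n : ℕ, (x ^ n) a = a * b₁ ^ n * b₂ ^ n.choose 2 * b₃ ^ n.choose 3 := by
    intro n
    induction n with
    | zero => simp
    | succ n ih =>
      rw [pow_succ', MulAut.mul_apply, ih, map_mul, map_mul, map_mul, map_pow, map_pow, map_pow,
        h0, h1, h2, h3, mul_pow, mul_pow, Nat.choose_succ_succ' n 1, Nat.choose_one_right,
        Nat.choose_succ_succ' n 2]
      simp only [pow_add, pow_one, mul_assoc, mul_comm, mul_left_comm]
  have h := hit p
  rw [hx, MulAut.one_apply] at h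
  obtain ⟨k, hk⟩ := hpp.out.dvd_choose_self two_ne_zero (show 2 < p by omega)
  obtain ⟨j, hj⟩ := hpp.out.dvd_choose_self (show 3 ≠ 0 by omega) (show 3 < p by omega)
  rw [hk, hj, pow_mul, pow_mul, hb₂, hb₃, one_pow, one_pow, mul_one, mul_one] at h
  exact mul_eq_left.1 h.symm

end CfsgLib.FusionModels.RankTwo
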