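/-
Essential subgroups in p-rank two, p odd: the plane on which the automorphisms act.
-/
import Cfsg.Agent.Lib.FusionModels.RankTwoGroup
import Cfsg.Agent.Lib.FusionModels.PearlMaxClass

set_option autoImplicit false
set_option linter.style.haveILetI false
set_option linter.unusedSectionVars false

open scoped commutatorElement

namespace CfsgLib.FusionModels.RankTwo

open Cfsg Cfsg.FusionSystem CfsgLib.Alperin

/-- Restriction to a characteristic subgroup. -/
def restrictChar {G : Type*} [Group G] (W : Subgroup G) [W.Characteristic] : MulAut G →* MulAut W where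
  toFun α :=
    { toFun := fun x => ⟨α x, ((Subgroup.characteristic_iff_map_eq.mp ‹W.Characteristic›) α).le
        ⟨x, x.2, rfl⟩⟩
      invFun := fun x => ⟨α⁻¹ x, ((Subgroup.characteristic_iff_map_eq.mp ‹W.Characteristic›) α⁻¹).le
        ⟨x, x.2, rfl⟩⟩
      left_inv := fun x => Subtype.ext (MulAut.inv_apply_self G α x)
      right_inv := fun x => Subtype.ext (MulAut.apply_inv_self G α x)
      map_mul' := fun a b => Subtype.ext (map_mul α _ _) }
  map_one' := MulEquiv.ext fun _ => rfl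
  map_mul' _ _ := MulEquiv.ext fun _ => rfl

theorem restrictChar_apply {G : Type*} [Group G] (W : Subgroup G) [W.Characteristic] (α : MulAut G)
    (x : W) : ((restrictChar W α x : W) : G) = α x := rfl

/-- The action on a quotient by a characteristic subgroup. -/
def quotChar {W : Type*} [Group W] (N : Subgroup W) [N.Normal] [N.Characteristic] :
    MulAut W →* MulAut (W ⧸ N) where
  toFun α := QuotientGroup.congr N N α ((Subgroup.characteristic_iff_map_eq.mp ‹N.Characteristic›) α)
  map_one' := MulEquiv.ext fun x => by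
    obtain ⟨y, rfl⟩ := QuotientGroup.mk'_surjective N x; rfl
  map_mul' _ _ := MulEquiv.ext fun x => by
    obtain ⟨y, rfl⟩ := QuotientGroup.mk'_surjective N x; rfl

/-- The action of the automorphisms of `G` on `W / Φ(W)`. -/
def plane {G : Type*} [Group G] (W : Subgroup G) [W.Characteristic] :
    MulAut G →* MulAut (W ⧸ frattini W) :=
  (quotChar (frattini W)).comp (restrictChar W)

theorem plane_mk {G : Type*} [Group G] (W : Subgroup G) [W.Characteristic] (α : MulAut G) (x : W) :
    plane W α (QuotientGroup.mk x) = QuotientGroup.mk (restrictChar W α x) := rfl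

variable {Ω : Type*} [Group Ω] {S : Subgroup Ω} [Finite S] {p : ℕ} [hpp : Fact p.Prime]

/-- What an essential subgroup of a rank two system looks like on its detecting plane. -/
structure PlaneData (F : FusionSystem S) (p : ℕ) (E : Subgroup Ω) (W : Subgroup E) [W.Characteristic]
    (g : Ω) (z e : ↥W ⧸ frattini ↥W) (a : ℤ) : Prop where
  hexp : ∀ w ∈ W, w ^ p = 1
  hcase : (IsMulCommutative W ∧ Nat.card W = p ^ 2) ∨ (¬ IsMulCommutative W ∧ Nat.card W = p ^ 3)
  hdet : ∀ α : MulAut E, (orderOf α).Coprime p → (∀ w ∈ W, α w = w) → α = 1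
  hcomm : ∀ x y : ↥W ⧸ frattini ↥W, x * y = y * x
  hVexp : ∀ x : ↥W ⧸ frattini ↥W, x ^ p = 1
  hVcard : Nat.card (↥W ⧸ frattini ↥W) = p ^ 2
  hgS : g ∈ S
  hgE : g ∉ E
  hgp : g ^ p ∈ E
  hN : ∀ u ∈ normalizerIn S E, u ∈ Subgroup.normalizer (E : Set Ω)
  hT : ∀ u ∈ normalizerIn S E, ∃ i : ℤ, (g ^ i)⁻¹ * u ∈ E
  hgN : g ∈ Subgroup.normalizer (E : Set Ω)
  hz : z ≠ 1
  he : e ∉ Subgroup.zpowers z
  hspan : ∀ v, ∃ i j : ℤ, v = e ^ i * z ^ j
  ha : ¬ (p : ℤ) ∣ a
  htz : plane W (conjAut E g hgN) z = z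
  hte : plane W (conjAut E g hgN) e = e * z ^ a
  hinn : ∀ y : E, plane W (MulAut.conj y) = 1
  hmove : ∃ γ ∈ F.autGroup E, plane W γ z ∉ Subgroup.zpowers z
  htorus : ∀ lam mu : ℤ, (p : ℤ) ∣ lam * mu - 1 → ∃ d ∈ F.autGroup E, (orderOf d).Coprime p ∧
    plane W d z = z ^ lam ∧ plane W d e = e ^ mu
  hextend : ∀ d ∈ F.autGroup E, ∀ lam mu : ℤ, ∀ k : ℕ, plane W d z = z ^ lam → plane W d e = e ^ mu →
    (p : ℤ) ∣ mu * k - lam → ∃ ψ ∈ F.autGroup (normalizerIn S E),
      (∀ (x : E) (hx : (x : Ω) ∈ normalizerIn S E), ((ψ ⟨x, hx⟩ : normalizerIn S E) : Ω) = d x) ∧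
      ∀ hg : g ∈ normalizerIn S E, (g ^ k)⁻¹ * ((ψ ⟨g, hg⟩ : normalizerIn S E) : Ω) ∈ E

theorem zpow_eq_of_dvd {V : Type*} [Group V] (hexp : ∀ x : V, x ^ p = 1) (x : V) {i j : ℤ}
    (h : (p : ℤ) ∣ j - i) : x ^ i = x ^ j := by
  by_cases hx : x = 1
  · rw [hx, one_zpow, one_zpow]
  · rw [zpow_eq_zpow_iff_modEq, orderOf_eq_prime (hexp x) hx, Int.modEq_iff_dvd]
    exact h

theorem frattini_of_isMulCommutative {W : Type*} [Group W] [Finite W] (hW : IsPGroup p W)
    [IsMulCommutative W] (hexp : ∀ w : W, w ^ p = 1) : frattini W = ⊥ :=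
  (PGroups.frattini_eq_bot_iff hW).2 ⟨fun a b => mul_comm' a b, hexp⟩

set_option maxHeartbeats 1000000 in
theorem exists_planeData (hS : IsPGroup p S) (hp : p ≠ 2) (hr : RankLE2 p S) {F : FusionSystem S}
    (hF : F.IsSaturated p) {E : Subgroup Ω} (hE : F.IsEssential p E) :
    ∃ (W : Subgroup E) (_ : W.Characteristic) (g : Ω) (z e : ↥W ⧸ frattini ↥W) (a : ℤ),
      PlaneData F p E W g z e a := by
  have hES : E ≤ S := hE.1.1
  haveI := finite_of_le hES
  have hEp : IsPGroup p E := isPGroup_of_le hS hES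
  have hrE : RankLE2 p E := hr.of_injective (Subgroup.inclusion hES) (Subgroup.inclusion_injective hES)
  obtain ⟨W, hWc, hWexp, hWcases, hdet⟩ := exists_detecting hEp hp hrE
  haveI := hWc
  haveI := finite_autGroup F hES
  set V := ↥W ⧸ frattini ↥W
  set ρ := plane W with hρ
  have hWp : IsPGroup p W := hEp.to_subgroup W
  have hlt := Pearl.lt_of_essential hS hF hE
  have hrad := (isRadical_of_essential hS hE).2
  -- the kernel of the plane action is inner
  have hker : ∀ α ∈ F.autGroup E, ρ α = 1 → α ∈ Inn E := by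
    intro α hα hα1
    let K : Subgroup (F.autGroup E) := (ρ.comp (F.autGroup E).subtype).ker
    have hKp : IsPGroup p K := by
      rw [IsPGroup.iff_orderOf]
      intro β
      obtain ⟨k, m, hpm, hkm⟩ := Nat.exists_eq_pow_mul_and_not_dvd
        (orderOf_pos β).ne' p hpp.out.ne_one
      refine ⟨k, ?_⟩
      set γ : K := β ^ p ^ k with hγ
      have hγo : orderOf γ = m := by
        rw [hγ, orderOf_pow_of_dvd (pow_ne_zero _ hpp.out.ne_zero) (hkm ▸ dvd_mul_right _ _), hkm,
          Nat.mul_div_cancel_left _ (pow_pos hpp.out.pos k)]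
      set c : MulAut E := ((γ : F.autGroup E) : MulAut E) with hc
      have hco : orderOf c = m := by rw [← hγo, hc, Subgroup.orderOf_coe, Subgroup.orderOf_coe]
      have hcop : (orderOf c).Coprime p := hco ▸ ((hpp.out.coprime_iff_not_dvd).2 hpm).symm
      have hres : restrictChar W c = 1 := by
        refine CfsgLib.CoprimeAction.aut_eq_one_of_frattini ?_ fun x => ?_
        · obtain ⟨l, hl⟩ := IsPGroup.iff_card.mp (hWp.to_subgroup (frattini W))
          rw [hl]
          exact (Nat.Coprime.coprime_dvd_left (orderOf_map_dvd _ _) hcop).pow_right l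
        · have h1 : ρ c (QuotientGroup.mk x) = QuotientGroup.mk x := by
            rw [show ρ c = 1 from γ.2]; rfl
          rw [hρ, plane_mk] at h1
          exact QuotientGroup.eq.1 h1.symm
      have hc1 : c = 1 := hdet c hcop fun w hw =>
        congrArg Subtype.val (DFunLike.congr_fun hres (⟨w, hw⟩ : W))
      rw [hkm, show m = 1 by rw [← hco, hc1, orderOf_one], mul_one]
    have hle : (⟨α, hα⟩ : F.autGroup E) ∈ pCore p (F.autGroup E) :=
      (le_sSup (show K ∈ {N : Subgroup (F.autGroup E) | N.Normal ∧ IsPGroup p N} from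
        ⟨inferInstance, hKp⟩) : K ≤ pCore p (F.autGroup E)) (show (⟨α, hα⟩ : F.autGroup E) ∈ K from hα1)
    exact hrad ▸ Subgroup.mem_map_of_mem _ hle
  -- the induced p-group
  set P : Subgroup (MulAut V) := (autInducedBy S E).map ρ with hP
  have hPp : IsPGroup p P := (isPGroup_autInducedBy hS E).map ρ
  obtain ⟨g, hgN, hgE⟩ := SetLike.exists_of_lt (lt_normalizerIn hS hlt)
  have hnot : ∀ (u : Ω) (hu : u ∈ normalizerIn S E), ρ (conjAut E u hu.2) = 1 → u ∈ E :=
    fun u hu h => Pearl.mem_of_mem_inn hE hu.1 hu.2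
      (hker _ (autInducedBy_le_autGroup F hES (conjAut_mem hu.1 hu.2)) h)
  have hVexp : ∀ x : V, x ^ p = 1 := fun x => by
    obtain ⟨w, rfl⟩ := QuotientGroup.mk'_surjective _ x
    rw [← map_pow, show w ^ p = 1 from Subtype.ext (hWexp _ w.2), map_one]
  -- a fixed point of the induced group
  have hsec : ∀ (u : Ω) (hu : u ∈ normalizerIn S E) {B : Subgroup V}, B.Normal → B.index = p →
      (∀ b ∈ B, ρ (conjAut E u hu.2) b ∈ B) → ∀ v, v⁻¹ * ρ (conjAut E u hu.2) v ∈ B := by
    intro u hu B hBn hBi hB v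
    obtain ⟨r, hr'⟩ := Pearl.exists_pow_conjAut hS hu.1 hu.2
    haveI := hBn
    exact Pearl.fixes_prime_section (A := ⊤) (by rw [Subgroup.relIndex_top_right, hBi]) _
      (r := r) (by rw [← map_pow, hr', map_one]) (fun _ _ => Subgroup.mem_top _) hB v
      (Subgroup.mem_top v)
  obtain ⟨hcase, hV⟩ : ((IsMulCommutative W ∧ Nat.card W = p ^ 2) ∨
      (¬ IsMulCommutative W ∧ Nat.card W = p ^ 3)) ∧ Nat.card V = p ^ 2 := by
    rcases hWcases with hc | hc | hc
    · exfalso
      refine hgE (hnot g hgN (MulEquiv.ext fun v => ?_))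
      have hVle : Nat.card V ≤ p := le_trans
        (Nat.card_le_card_of_surjective _ (QuotientGroup.mk'_surjective _)) hc
      rcases Nat.lt_or_ge (Nat.card V) p with hVlt | hVge
      · obtain ⟨k, hk⟩ := IsPGroup.iff_card.1 (hWp.to_quotient (frattini W))
        have hk0 : k = 0 := by
          by_contra h0
          exact absurd (lt_of_eq_of_lt hk.symm hVlt) (not_lt.2 (Nat.le_self_pow h0 p))
        haveI : Subsingleton V := (Nat.card_eq_one_iff_unique.1 (by rw [hk, hk0, pow_zero])).1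
        exact Subsingleton.elim _ _
      · have := hsec g hgN (B := ⊥) inferInstance (by rw [Subgroup.index_bot]; omega)
          (fun b hb => by rw [Subgroup.mem_bot] at hb ⊢; rw [hb, map_one]) v
        rw [Subgroup.mem_bot, inv_mul_eq_one] at this
        exact this.symm
    · refine ⟨Or.inl hc, ?_⟩
      haveI := hc.1
      rw [← Subgroup.index_eq_card, frattini_of_isMulCommutative hWp
        (fun w => Subtype.ext (hWexp _ w.2)), Subgroup.index_bot, hc.2]
    · refine ⟨Or.inr hc, ?_⟩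
      obtain ⟨hZ, hΦ, -⟩ := Pearl.cube_facts hc.2 hc.1
      have h1 := (frattini W).card_mul_index
      rw [hΦ, hZ, hc.2, pow_succ' p 2] at h1
      rw [← Subgroup.index_eq_card, hΦ]
      exact Nat.eq_of_mul_eq_mul_left hpp.out.pos h1
  have hVc : ∀ x y : V, x * y = y * x := IsPGroup.commutative_of_card_eq_prime_sq hV
  haveI : Finite V := inferInstance
  obtain ⟨z, hz1, hzfix⟩ : ∃ z : V, z ≠ 1 ∧ ∀ σ ∈ P, σ z = z := by
    obtain ⟨z, hzf, hz⟩ := hPp.exists_fixed_point_of_prime_dvd_card_of_fixed_point V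
      (by rw [hV]; exact dvd_pow_self p two_ne_zero) (a := (1 : V))
      (fun σ => map_one (σ : MulAut V))
    exact ⟨z, Ne.symm hz, fun σ hσ => hzf ⟨σ, hσ⟩⟩
  have hzo : orderOf z = p := orderOf_eq_prime (hVexp z) hz1
  haveI hLn : (Subgroup.zpowers z).Normal := ⟨fun x hx y => by
    rw [hVc y x, mul_inv_cancel_right]; exact hx⟩
  have hLi : (Subgroup.zpowers z).index = p := by
    have h1 := (Subgroup.zpowers z).card_mul_index
    rw [Nat.card_zpowers, hzo, hV, pow_two] at h1
    exact Nat.eq_of_mul_eq_mul_left hpp.out.pos h1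
  have hfix : ∀ (u : Ω) (hu : u ∈ normalizerIn S E), ρ (conjAut E u hu.2) z = z ∧
      ∀ v, v⁻¹ * ρ (conjAut E u hu.2) v ∈ Subgroup.zpowers z := by
    intro u hu
    have h1 : ρ (conjAut E u hu.2) z = z := hzfix _ ⟨_, conjAut_mem hu.1 hu.2, rfl⟩
    refine ⟨h1, hsec u hu hLn hLi ?_⟩
    rintro _ ⟨i, rfl⟩
    exact ⟨i, by rw [map_zpow, h1]⟩
  set t := ρ (conjAut E g hgN.2) with ht
  have ht1 : t ≠ 1 := fun h => hgE (hnot g hgN h)
  have htA : t ∈ (F.autGroup E).map ρ :=
    ⟨_, autInducedBy_le_autGroup F hES (conjAut_mem hgN.1 hgN.2), rfl⟩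
  -- no invariant line
  obtain ⟨γ, hγ, hγz⟩ : ∃ γ ∈ F.autGroup E, ρ γ z ∉ Subgroup.zpowers z := by
    by_contra hcon
    push Not at hcon
    let K : Subgroup (F.autGroup E) :=
      { carrier := {β | ρ β z = z ∧ ∀ v, v⁻¹ * ρ β v ∈ Subgroup.zpowers z}
        one_mem' := by simp
        mul_mem' := by
          rintro β δ ⟨h1, h2⟩ ⟨h1', h2'⟩
          refine ⟨by rw [Subgroup.coe_mul, map_mul, MulAut.mul_apply, h1', h1], fun v => ?_⟩
          have h := mul_mem (h2' v) (h2 (ρ δ v))
          rw [show v⁻¹ * ρ δ v * ((ρ δ v)⁻¹ * ρ β (ρ δ v)) = v⁻¹ * ρ β (ρ δ v) by group] at h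
          rw [Subgroup.coe_mul, map_mul, MulAut.mul_apply]
          exact h
        inv_mem' := by
          rintro β ⟨h1, h2⟩
          refine ⟨?_, fun v => ?_⟩
          · rw [Subgroup.coe_inv, map_inv]
            nth_rewrite 1 [← h1]
            rw [MulAut.inv_apply_self]
          · have h := inv_mem (h2 ((ρ β)⁻¹ v))
            rw [MulAut.apply_inv_self] at h
            rw [Subgroup.coe_inv, map_inv]
            simpa using h }
    have hLinv : ∀ β ∈ F.autGroup E, ∀ l ∈ Subgroup.zpowers z, ρ β l ∈ Subgroup.zpowers z := by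
      rintro β hβ _ ⟨i, rfl⟩
      rw [map_zpow]
      exact zpow_mem (hcon β hβ) i
    have hKn : K.Normal := by
      refine ⟨fun β hβ δ => ⟨?_, fun v => ?_⟩⟩
      · obtain ⟨i, hi⟩ := hLinv _ (δ⁻¹).2 z (Subgroup.mem_zpowers z)
        have hw : (ρ (δ : MulAut E))⁻¹ z = z ^ i := by rw [← map_inv]; exact hi.symm
        simp only [Subgroup.coe_mul, Subgroup.coe_inv, map_mul, map_inv, MulAut.mul_apply]
        rw [hw, map_zpow (ρ ((β : F.autGroup E) : MulAut E)), hβ.1, ← hw, MulAut.apply_inv_self]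
      · have h := hLinv _ δ.2 _ (hβ.2 ((ρ (δ : MulAut E))⁻¹ v))
        simpa [map_mul, map_inv] using h
    have hKp : IsPGroup p K := by
      rw [IsPGroup.iff_orderOf]
      intro β
      have hpow : ρ ((β : F.autGroup E) : MulAut E) ^ p = 1 := by
        refine MulEquiv.ext fun v => ?_
        obtain ⟨i, hi⟩ := β.2.2 v
        have hv : ρ ((β : F.autGroup E) : MulAut E) v = v * z ^ i := by
          rw [show z ^ i = v⁻¹ * ρ ((β : F.autGroup E) : MulAut E) v from hi, mul_inv_cancel_left]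
        rw [← zpow_natCast (ρ ((β : F.autGroup E) : MulAut E)) p,
          (zpow_transvection β.2.1 hv (p : ℤ)).2, mul_comm i, zpow_mul, zpow_natCast, hVexp z,
          one_zpow, mul_one]
        rfl
      have hmem : ((β : F.autGroup E) : MulAut E) ^ p ∈ Inn E :=
        hker _ (pow_mem (β : F.autGroup E).2 p) (by rw [map_pow]; exact hpow)
      obtain ⟨y, hy⟩ := hmem
      obtain ⟨j, hj⟩ := IsPGroup.iff_orderOf.1 hEp y
      have h2 : β ^ (p * p ^ j) = 1 := by
        refine Subtype.ext (Subtype.ext ?_)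
        rw [pow_mul, SubgroupClass.coe_pow, SubgroupClass.coe_pow, SubgroupClass.coe_pow,
          SubgroupClass.coe_pow, ← hy, ← map_pow, ← hj, pow_orderOf_eq_one, map_one]
        rfl
      obtain ⟨i, -, hi⟩ := (Nat.dvd_prime_pow hpp.out).1
        (show orderOf β ∣ p ^ (j + 1) by rw [pow_succ']; exact orderOf_dvd_of_pow_eq_one h2)
      exact ⟨i, hi⟩
    have htK : (⟨_, autInducedBy_le_autGroup F hES (conjAut_mem hgN.1 hgN.2)⟩ : F.autGroup E) ∈ K :=
      hfix g hgN
    have hle := (le_sSup (show K ∈ {N : Subgroup (F.autGroup E) | N.Normal ∧ IsPGroup p N} from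
      ⟨hKn, hKp⟩) : K ≤ pCore p (F.autGroup E)) htK
    exact hgE (Pearl.mem_of_mem_inn hE hgN.1 hgN.2 (hrad ▸ Subgroup.mem_map_of_mem _ hle))
  obtain ⟨e, a, he, hap, hte, hspan, htor⟩ := exists_torus hVc hVexp hV ((F.autGroup E).map ρ) hz1
    htA (hfix g hgN).1 (hfix g hgN).2 ht1 ⟨γ, hγ, rfl⟩ hγz
  have hext' : ∀ {σ τ : MulAut V}, σ z = τ z → σ e = τ e → σ = τ := fun {σ τ} h1 h2 =>
    MulEquiv.ext fun v => by
      obtain ⟨i, j, rfl⟩ := hspan v
      rw [map_mul, map_mul, map_zpow, map_zpow, map_zpow, map_zpow, h1, h2]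
  -- inner automorphisms act trivially
  have hinn : ∀ y : E, ρ (MulAut.conj y) = 1 := by
    let X : Subgroup V :=
      { carrier := {v | ∀ y : E, ρ (MulAut.conj y) v = v}
        one_mem' := fun y => map_one _
        mul_mem' := fun {v w} hv hw y => by rw [map_mul, hv y, hw y]
        inv_mem' := fun {v} hv y => by rw [map_inv, hv y] }
    have hzX : z ∈ X := fun y => by
      have := (hfix (y : Ω) ⟨hES y.2, Subgroup.le_normalizer y.2⟩).1
      rwa [show conjAut E (y : Ω) (Subgroup.le_normalizer y.2) = MulAut.conj y from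
        MulEquiv.ext fun x => Subtype.ext rfl] at this
    have hγX : ρ γ z ∈ X := fun y => by
      have h1 : MulAut.conj y * γ = γ * MulAut.conj (γ⁻¹ y) := MulEquiv.ext fun x => by
        simp [map_mul, map_inv]
      rw [← MulAut.mul_apply, ← map_mul, h1, map_mul, MulAut.mul_apply, hzX]
    intro y
    refine MulEquiv.ext fun v => ?_
    have htop : X = ⊤ := by
      refine Subgroup.eq_top_of_le_card X ?_
      obtain ⟨k, hk, hkc⟩ := (Nat.dvd_prime_pow hpp.out).1 (hV ▸ X.card_subgroup_dvd_card)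
      have hlt' : Nat.card (Subgroup.zpowers z) < Nat.card X := lt_of_le_of_ne
        (Subgroup.card_le_of_le (Subgroup.zpowers_le.2 hzX)) fun h => hγz
          ((Subgroup.eq_of_le_of_card_ge (Subgroup.zpowers_le.2 hzX) h.ge).ge hγX)
      rw [Nat.card_zpowers, hzo, hkc] at hlt'
      rw [hV, hkc]
      refine Nat.pow_le_pow_right hpp.out.pos ?_
      have := (Nat.pow_lt_pow_iff_right hpp.out.one_lt).1 (show p ^ 1 < p ^ k by rwa [pow_one])
      omega
    exact (htop.ge (Subgroup.mem_top v)) y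
  have hconj : ∀ {u u' : Ω} (hu : u ∈ normalizerIn S E) (hu' : u' ∈ normalizerIn S E)
      (huu : u * u' ∈ normalizerIn S E),
      ρ (conjAut E (u * u') huu.2) = ρ (conjAut E u hu.2) * ρ (conjAut E u' hu'.2) := by
    intro u u' hu hu' huu
    rw [← map_mul]
    congr 1
    refine MulEquiv.ext fun x => Subtype.ext ?_
    rw [MulAut.mul_apply, conjAut_apply, conjAut_apply, conjAut_apply]
    group
  have hpow : ∀ (i : ℤ), ρ (conjAut E (g ^ i) (zpow_mem hgN i).2) = t ^ i := by
    intro i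
    rw [ht, ← map_zpow]
    congr 1
    induction i with
    | zero => exact MulEquiv.ext fun x => Subtype.ext (by simp [conjAut_apply])
    | succ i ih =>
      rw [zpow_add_one (conjAut E g hgN.2), ← ih]
      refine MulEquiv.ext fun x => Subtype.ext ?_
      rw [MulAut.mul_apply, conjAut_apply, conjAut_apply, conjAut_apply, zpow_add, zpow_one]
      group
    | pred i ih =>
      rw [zpow_sub_one (conjAut E g hgN.2), ← ih]
      refine MulEquiv.ext fun x => Subtype.ext ?_
      have hinv : ((((conjAut E g hgN.2)⁻¹ : MulAut E) x : E) : Ω) = g⁻¹ * x * g := by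
        have h1 : (conjAut E g hgN.2) ((conjAut E g hgN.2)⁻¹ x) = x := MulAut.apply_inv_self _ _ _
        have h2 := congrArg Subtype.val h1
        rw [conjAut_apply] at h2
        rw [← h2]; group
      rw [MulAut.mul_apply, conjAut_apply, conjAut_apply, hinv, zpow_sub, zpow_one]
      group
  -- the quotient of the normalizer
  have hT : ∀ u ∈ normalizerIn S E, ∃ i : ℤ, (g ^ i)⁻¹ * u ∈ E := by
    intro u hu
    obtain ⟨j, hj⟩ := (hfix u hu).2 e
    obtain ⟨x, y, hxy⟩ : IsCoprime a p :=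
      (((Nat.prime_iff_prime_int.1 hpp.out).coprime_iff_not_dvd).2 hap).symm
    refine ⟨x * j, hnot _ (mul_mem (inv_mem (zpow_mem hgN _)) hu) ?_⟩
    have hmul := hconj (zpow_mem hgN (x * j)) (mul_mem (inv_mem (zpow_mem hgN (x * j))) hu)
      (by rw [mul_inv_cancel_left]; exact hu)
    simp only [mul_inv_cancel_left] at hmul
    rw [hpow] at hmul
    have heq : ρ (conjAut E u hu.2) = t ^ (x * j) := by
      refine hext' ((hfix u hu).1.trans (zpow_transvection (hfix g hgN).1 hte _).1.symm) ?_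
      rw [(zpow_transvection (hfix g hgN).1 hte _).2]
      rw [show ρ (conjAut E u hu.2) e = e * z ^ j by
        rw [show z ^ j = e⁻¹ * ρ (conjAut E u hu.2) e from hj, mul_inv_cancel_left]]
      congr 1
      exact zpow_eq_of_dvd hVexp z ⟨-(y * j), by linear_combination j * hxy⟩
    rw [heq] at hmul
    exact mul_left_cancel (hmul.symm.trans (mul_one _).symm)
  have hgp : g ^ p ∈ E := hnot _ (pow_mem hgN p) (by
    have h1 := hpow (p : ℤ)
    simp only [zpow_natCast] at h1
    rw [h1]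
    refine hext' ?_ ?_
    · rw [← zpow_natCast, (zpow_transvection (hfix g hgN).1 hte _).1]; rfl
    · rw [← zpow_natCast, (zpow_transvection (hfix g hgN).1 hte _).2, mul_comm a, zpow_mul,
        zpow_natCast, hVexp z, one_zpow, mul_one]; rfl)
  refine ⟨W, hWc, g, z, e, a, ⟨hWexp, hcase, hdet, hVc, hVexp, hV, hgN.1, hgE, hgp,
    fun u hu => hu.2, hT, hgN.2, hz1, he, hspan, hap, (hfix g hgN).1, hte, hinn,
    ⟨γ, hγ, hγz⟩, fun lam mu hlm => ?_, ?_⟩⟩
  · obtain ⟨_, ⟨d, hd, rfl⟩, hdz, hde⟩ := htor lam mu hlm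
    obtain ⟨r, m, hpm, hrm⟩ := Nat.exists_eq_pow_mul_and_not_dvd
      (orderOf_pos (⟨d, hd⟩ : F.autGroup E)).ne' p hpp.out.ne_one
    refine ⟨d ^ p ^ r, pow_mem hd _, ?_, ?_, ?_⟩
    · have ho : orderOf d = p ^ r * m := by rw [← hrm, ← Subgroup.orderOf_coe]
      rw [orderOf_pow_of_dvd (pow_ne_zero _ hpp.out.ne_zero) (ho ▸ dvd_mul_right _ _), ho,
        Nat.mul_div_cancel_left _ (pow_pos hpp.out.pos r)]
      exact ((hpp.out.coprime_iff_not_dvd).2 hpm).symm
    all_goals
      rw [map_pow]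
      have hit : ∀ (w : V) (c : ℤ), ρ d w = w ^ c → ∀ n : ℕ, (ρ d ^ n) w = w ^ (c ^ n) := by
        intro w c hw n
        induction n with
        | zero => simp
        | succ n ih => rw [pow_succ, MulAut.mul_apply, hw, map_zpow, ih, ← zpow_mul, pow_succ]
      first
      | (rw [hit z lam hdz]
         refine zpow_eq_of_dvd hVexp z ?_
         rw [← ZMod.intCast_eq_intCast_iff_dvd_sub]
         push_cast
         exact ZMod.pow_card_pow _)
      | (rw [hit e mu hde]
         refine zpow_eq_of_dvd hVexp e ?_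
         rw [← ZMod.intCast_eq_intCast_iff_dvd_sub]
         push_cast
         exact ZMod.pow_card_pow _)
  · intro d hd lam mu k hdz hde hk
    set φ := E.subtype.comp d.toMonoidHom with hφ
    have hφF : φ ∈ F.Hom E := (mem_autGroup_iff F hES).1 hd
    have hrel : ∀ i : ℤ, ρ d * t ^ i = t ^ ((k : ℤ) * i) * ρ d := by
      intro i
      have h1 := zpow_transvection (hfix g hgN).1 hte i
      have h2 := zpow_transvection (hfix g hgN).1 hte ((k : ℤ) * i)
      refine hext' ?_ ?_
      · rw [MulAut.mul_apply, MulAut.mul_apply, h1.1, hdz, map_zpow, h2.1]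
      · rw [MulAut.mul_apply, MulAut.mul_apply, h1.2, map_mul, map_zpow, hdz, hde, map_zpow, h2.2,
          (show Commute e (z ^ (a * ((k : ℤ) * i))) from hVc _ _).mul_zpow, ← zpow_mul, ← zpow_mul]
        congr 1
        refine zpow_eq_of_dvd hVexp z ?_
        obtain ⟨c, hc⟩ := hk
        exact ⟨c * a * i, by linear_combination a * i * hc⟩
    have hI : ∀ (u : Ω) (hu : u ∈ normalizerIn S E) (i : ℤ), (g ^ i)⁻¹ * u ∈ E →
        ∃ h ∈ normalizerIn S E, (∀ (x : E) (hx : u * (x : Ω) * u⁻¹ ∈ E),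
          φ ⟨u * x * u⁻¹, hx⟩ = h * φ x * h⁻¹) ∧ (g ^ ((k : ℤ) * i))⁻¹ * h ∈ E := by
      intro u hu i hi
      have hρu : ρ (conjAut E u hu.2) = t ^ i := by
        have hmul := hconj (zpow_mem hgN i) (mul_mem (inv_mem (zpow_mem hgN i)) hu)
          (by rw [mul_inv_cancel_left]; exact hu)
        simp only [mul_inv_cancel_left] at hmul
        rw [hpow] at hmul
        rw [hmul, show conjAut E ((g ^ i)⁻¹ * u)
          (mul_mem (inv_mem (zpow_mem hgN i)) hu).2 = MulAut.conj ⟨_, hi⟩ from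
            MulEquiv.ext fun x => Subtype.ext rfl, hinn, mul_one]
      set gk := g ^ ((k : ℤ) * i) with hgk
      have hgkN : gk ∈ normalizerIn S E := zpow_mem hgN _
      have hmem : (conjAut E gk hgkN.2)⁻¹ * (d * conjAut E u hu.2 * d⁻¹) ∈ Inn E := by
        refine hker _ (mul_mem (inv_mem (autInducedBy_le_autGroup F hES (conjAut_mem hgkN.1 hgkN.2)))
          (mul_mem (mul_mem hd (autInducedBy_le_autGroup F hES (conjAut_mem hu.1 hu.2))) (inv_mem hd))) ?_
        rw [map_mul, map_inv, map_mul, map_mul, map_inv, hρu, hrel, mul_inv_cancel_right]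
        rw [show ρ (conjAut E gk hgkN.2) = t ^ ((k : ℤ) * i) from hpow _, inv_mul_cancel]
      obtain ⟨y, hy⟩ := hmem
      refine ⟨gk * y, mul_mem hgkN ⟨hES y.2, Subgroup.le_normalizer y.2⟩, fun x hx => ?_,
        by rw [inv_mul_cancel_left]; exact y.2⟩
      have hyx : conjAut E gk hgkN.2 * MulAut.conj y = d * conjAut E u hu.2 * d⁻¹ := by
        rw [show MulAut.conj y = (conjAut E gk hgkN.2)⁻¹ * (d * conjAut E u hu.2 * d⁻¹) from hy,
          mul_inv_cancel_left]
      have h3 := DFunLike.congr_fun hyx (d x)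
      rw [MulAut.mul_apply, MulAut.mul_apply, MulAut.mul_apply, MulAut.inv_apply_self] at h3
      have h4 := congrArg Subtype.val h3
      rw [conjAut_apply, MulAut.conj_apply] at h4
      show ((d ⟨u * x * u⁻¹, hx⟩ : E) : Ω) = gk * y * (d x : E) * (gk * (y : Ω))⁻¹
      rw [show (⟨u * x * u⁻¹, hx⟩ : E) = conjAut E u hu.2 x from Subtype.ext rfl, ← h4]
      simp only [Subgroup.coe_mul, Subgroup.coe_inv]
      group
    have hext : normalizerIn S E ≤ extender S E φ := by
      intro u hu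
      obtain ⟨i, hi⟩ := hT u hu
      obtain ⟨h, hh, hhx, -⟩ := hI u hu i hi
      exact mem_extender_iff.2 ⟨hu.1, hu.2, h, hh.1, hhx⟩
    have hrange : φ.range = E := by
      rw [hφ, MonoidHom.range_comp, MonoidHom.range_eq_top.2 d.surjective,
        ← MonoidHom.range_eq_map, Subgroup.range_subtype]
    obtain ⟨χ, hχ, hχx⟩ := (receptive_of_fullyNormalized hS hF hE.2.1).2 E φ hφF hrange
    have hχT := restrict_mem hχ hext
    have hEN : E ≤ normalizerIn S E := le_normalizerIn hES
    have hχE : ∀ (x : E) (hx : (x : Ω) ∈ normalizerIn S E),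
        χ (Subgroup.inclusion hext ⟨x, hx⟩) = d x := fun x hx => hχx x x.2 (hext hx)
    have hmap : (E.subgroupOf (normalizerIn S E)).map (χ.comp (Subgroup.inclusion hext)) = E :=
      (map_subgroupOf_of_extends (φ := φ) hEN fun x hx hx' => hχx x hx (hext hx')).trans hrange
    haveI := finite_of_le (normalizerIn_le S E)
    obtain ⟨ψ, hψ, hψx⟩ := exists_aut_of_hom' F hχT fun u =>
      apply_mem_normalizerIn hχT hEN hmap u u.2.2
    have hψE : ∀ (x : E) (hx : (x : Ω) ∈ normalizerIn S E),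
        ((ψ ⟨x, hx⟩ : normalizerIn S E) : Ω) = d x := fun x hx => (hψx _).trans (hχE x hx)
    refine ⟨ψ, hψ, hψE, fun hg => ?_⟩
    obtain ⟨h, hh, hhx, hhk⟩ := hI g hgN 1 (by rw [zpow_one, inv_mul_cancel]; exact one_mem _)
    rw [mul_one, zpow_natCast] at hhk
    set v := ((ψ ⟨g, hg⟩ : normalizerIn S E) : Ω) with hv
    have hvS : v ∈ S := (ψ ⟨g, hg⟩).2.1
    have hw : h⁻¹ * v ∈ E := by
      refine hE.1.2 E (isConj_refl F hES) ⟨S.mul_mem (S.inv_mem hh.1) hvS,
        Subgroup.mem_centralizer_iff.2 fun c hc => ?_⟩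
      obtain ⟨x, hx⟩ := d.surjective ⟨c, hc⟩
      have hcx : ((d x : E) : Ω) = c := congrArg Subtype.val hx
      have hgx : g * (x : Ω) * g⁻¹ ∈ E := (conjAut E g hgN.2 x).2
      have h5 := hhx x hgx
      have h6 : φ ⟨g * x * g⁻¹, hgx⟩ = v * c * v⁻¹ := by
        show ((d ⟨g * x * g⁻¹, hgx⟩ : E) : Ω) = v * c * v⁻¹
        rw [← hψE ⟨g * x * g⁻¹, hgx⟩ (hEN hgx), hv, ← hcx, ← hψE x (hEN x.2), ← Subgroup.coe_mul,
          ← map_mul, ← Subgroup.coe_inv, ← map_inv, ← Subgroup.coe_mul, ← map_mul]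
        exact congrArg (fun q => ((ψ q : normalizerIn S E) : Ω)) (Subtype.ext rfl)
      have h7 : φ x = c := hcx
      rw [h6, h7] at h5
      calc c * (h⁻¹ * v) = h⁻¹ * (h * c * h⁻¹) * v := by group
        _ = h⁻¹ * (v * c * v⁻¹) * v := by rw [h5]
        _ = h⁻¹ * v * c := by group
    have := mul_mem hhk hw
    rwa [mul_assoc, mul_inv_cancel_left] at this

end CfsgLib.FusionModels.RankTwo
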