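/-
Essential subgroups in p-rank two for p at least 5: only elementary abelian of order p^2.
-/
import Cfsg.Agent.Lib.FusionModels.RankTwoEssential

set_option autoImplicit false
set_option linter.style.haveILetI false
set_option linter.unusedSectionVars false

open scoped commutatorElement

namespace CfsgLib.FusionModels.RankTwo

open Cfsg Cfsg.FusionSystem CfsgLib.Alperin

variable {Ω : Type*} [Group Ω] {S : Subgroup Ω} [Finite S] {p : ℕ} [hpp : Fact p.Prime]

theorem apply_conj_eq {E : Subgroup Ω} {g : Ω} (hg : g ∈ Subgroup.normalizer (E : Set Ω)) (y : E)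
    (W : Subgroup E) [W.Characteristic] (w : W) :
    ((conjAut E g hg * MulAut.conj y) (w : E) : Ω) = (g * y) * (w : E) * (g * (y : Ω))⁻¹ := by
  rw [MulAut.mul_apply, conjAut_apply, MulAut.conj_apply]
  simp only [Subgroup.coe_mul, Subgroup.coe_inv]
  group

/-- In case the detecting subgroup is abelian. -/
theorem abelian_case (hS : IsPGroup p S) (hp5 : 5 ≤ p) (hr : RankLE2 p S) {F : FusionSystem S}
    (hF : F.IsSaturated p) {E : Subgroup Ω} (hE : F.IsEssential p E) {W : Subgroup E}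
    [W.Characteristic] {g : Ω} {z e : ↥W ⧸ frattini ↥W} {a : ℤ} (h : PlaneData F p E W g z e a)
    (hWc : IsMulCommutative W) (hWcard : Nat.card W = p ^ 2) :
    W = ⊤ ∧ ∃ x ∈ normalizerIn S E, x ∉ E ∧ x ^ p = 1 := by
  have hES : E ≤ S := hE.1.1
  haveI := finite_of_le hES
  haveI := finite_autGroup F hES
  haveI := hWc
  have hp2 : p ≠ 2 := by omega
  have hEp : IsPGroup p E := isPGroup_of_le hS hES
  have hΦ : frattini W = ⊥ :=
    frattini_of_isMulCommutative (hEp.to_subgroup W) fun w => Subtype.ext (h.hexp _ w.2)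
  have hinj : ∀ {u v : W}, (QuotientGroup.mk u : ↥W ⧸ frattini ↥W) = QuotientGroup.mk v → u = v :=
    fun {u v} huv => by
      have h1 := QuotientGroup.eq.1 huv
      rw [hΦ, Subgroup.mem_bot, inv_mul_eq_one] at h1
      exact h1
  have hcen : ∀ (y : E), ∀ w ∈ W, y * w = w * y := by
    intro y w hw
    have h1 : plane W (MulAut.conj y) (QuotientGroup.mk ⟨w, hw⟩) = QuotientGroup.mk ⟨w, hw⟩ := by
      rw [h.hinn]; rfl
    rw [plane_mk] at h1
    have h2 : y * w * y⁻¹ = w := congrArg Subtype.val (hinj h1)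
    exact mul_inv_eq_iff_eq_mul.1 h2
  have hrE : RankLE2 p E := hr.of_injective (Subgroup.inclusion hES) (Subgroup.inclusion_injective hES)
  have homega : ∀ y : E, y ^ p = 1 → y ∈ W := fun y hy =>
    hrE.mem_of_commute (fun a ha b hb => hcen a b hb) h.hexp hWcard hy fun a ha => (hcen y a ha).symm
  -- the inversion
  obtain ⟨d, hd, hdco, hdz, hde⟩ := h.htorus (-1) (-1) (by norm_num)
  have hdW : ∀ w ∈ W, d w = w⁻¹ := by
    intro w hw
    have h1 : ∀ v, plane W d v = v⁻¹ := fun v => by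
      obtain ⟨i, j, rfl⟩ := h.hspan v
      rw [map_mul, map_zpow, map_zpow, hdz, hde, zpow_neg_one, zpow_neg_one, inv_zpow, inv_zpow,
        mul_inv_rev, h.hcomm]
    have h2 := h1 (QuotientGroup.mk ⟨w, hw⟩)
    rw [plane_mk, ← QuotientGroup.mk_inv] at h2
    exact congrArg Subtype.val (hinj h2)
  have hd2 : ∀ y, d (d y) = y := by
    have h2 : d * d = 1 := h.hdet _ (Nat.Coprime.coprime_dvd_left
        (show orderOf (d * d) ∣ orderOf d by rw [← pow_two]; exact orderOf_pow_dvd 2) hdco)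
      fun w hw => by rw [MulAut.mul_apply, hdW w hw, map_inv, hdW w hw, inv_inv]
    exact fun y => DFunLike.congr_fun h2 y
  have hodd : Odd p := hpp.out.odd_of_ne_two hp2
  have hhalf : ∀ y : E, y * y = 1 → y = 1 := by
    intro y hy
    obtain ⟨k, hk⟩ := hEp y
    obtain ⟨m, hm⟩ := hodd.pow (n := k)
    rw [hm, pow_succ, pow_mul, pow_two, hy, one_pow, one_mul] at hk
    exact hk
  have hfpf : ∀ y, d y = y → y = 1 := by
    intro y hy
    by_contra hy1
    obtain ⟨k, hk⟩ := IsPGroup.iff_orderOf.1 hEp y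
    rcases k with _ | k
    · exact hy1 (orderOf_eq_one_iff.1 (by simpa using hk))
    have h1 : orderOf (y ^ p ^ k) = p := by
      rw [orderOf_pow_of_dvd (pow_ne_zero _ hpp.out.ne_zero) (hk ▸ pow_dvd_pow p k.le_succ), hk,
        Nat.pow_div k.le_succ hpp.out.pos, show k + 1 - k = 1 by omega, pow_one]
    have h2 : y ^ p ^ k ∈ W := homega _ (by
      have := pow_orderOf_eq_one (y ^ p ^ k); rwa [h1] at this)
    have h3 := hdW _ h2
    rw [map_pow, hy] at h3
    have h4 := hhalf _ (mul_eq_one_iff_eq_inv.2 h3)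
    rw [h4, orderOf_one] at h1
    exact hpp.out.one_lt.ne h1
  have hinv : ∀ y, d y = y⁻¹ := by
    have hi : Function.Injective fun y : E => y⁻¹ * d y := fun u v huv => by
      have huv' : u⁻¹ * d u = v⁻¹ * d v := huv
      have h1 : d (v * u⁻¹) = v * u⁻¹ := by
        rw [map_mul, map_inv]
        calc d v * (d u)⁻¹ = v * (v⁻¹ * d v) * (d u)⁻¹ := by group
          _ = v * (u⁻¹ * d u) * (d u)⁻¹ := by rw [huv']
          _ = v * u⁻¹ := by group
      exact (mul_inv_eq_one.1 (hfpf _ h1)).symm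
    intro y
    obtain ⟨u, hu⟩ := (Finite.injective_iff_surjective.1 hi) y
    rw [← hu, map_mul, map_inv, hd2, mul_inv_rev, inv_inv]
  have hEc : ∀ u v : E, u * v = v * u := fun u v => by
    have h1 := hinv (u * v)
    rw [map_mul, hinv, hinv, mul_inv_rev] at h1
    have h2 := congrArg Inv.inv h1
    simp only [mul_inv_rev, inv_inv] at h2
    exact h2.symm
  -- an element of order p outside
  obtain ⟨ψ, hψ, hψE, hψg⟩ := h.hextend d hd (-1) (-1) 1 hdz hde (by norm_num)
  revert ψ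
  set T := normalizerIn S E
  intro ψ hψ hψE hψg
  have hEN : E ≤ T := le_normalizerIn hES
  haveI := finite_of_le (normalizerIn_le S E)
  set gT : T := ⟨g, h.hgS, h.hgN⟩ with hgT
  have he1 : g⁻¹ * ((ψ gT : T) : Ω) ∈ E := by simpa using hψg gT.2
  set e₁ : E := ⟨_, he1⟩ with he₁
  obtain ⟨f, hf⟩ : ∃ f : E, f * f = e₁ := by
    obtain ⟨k, hk⟩ := hEp e₁
    obtain ⟨m, hm⟩ := hodd.pow (n := k)
    refine ⟨e₁ ^ (m + 1), ?_⟩
    rw [← pow_add, show m + 1 + (m + 1) = p ^ k + 1 by omega, pow_succ, hk, one_mul]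
  set x : T := gT * ⟨(f : Ω), hEN f.2⟩ with hx
  have hψx : ψ x = x := by
    refine Subtype.ext ?_
    rw [hx, map_mul, Subgroup.coe_mul, Subgroup.coe_mul, hψE f (hEN f.2), hinv f]
    have h1 : ((ψ gT : T) : Ω) = g * (f : Ω) * (f : Ω) := by
      rw [mul_assoc, ← Subgroup.coe_mul, hf]
      show ((ψ gT : T) : Ω) = g * (g⁻¹ * ((ψ gT : T) : Ω))
      rw [mul_inv_cancel_left]
    rw [h1, Subgroup.coe_inv, mul_inv_cancel_right]
  haveI hEn : (E.subgroupOf T).Normal := ⟨fun u hu v => mem_normalizer_conj (h.hN v v.2) hu⟩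
  have hxE : (x : Ω) ^ p ∈ E := by
    have h1 : (QuotientGroup.mk' (E.subgroupOf T)) x = QuotientGroup.mk' (E.subgroupOf T) gT := by
      rw [hx, map_mul, show QuotientGroup.mk' (E.subgroupOf T) ⟨(f : Ω), hEN f.2⟩ = 1 from
        (QuotientGroup.eq_one_iff _).2 f.2, mul_one]
    have h2 : x ^ p ∈ E.subgroupOf T := (QuotientGroup.eq_one_iff _).1 (by
      show QuotientGroup.mk' (E.subgroupOf T) (x ^ p) = 1
      rw [map_pow, h1, ← map_pow]
      exact (QuotientGroup.eq_one_iff _).2 h.hgp)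
    exact h2
  have hxp : (x : Ω) ^ p = 1 := by
    have h2 : d ⟨_, hxE⟩ = ⟨_, hxE⟩ := Subtype.ext <| by
      rw [← hψE ⟨_, hxE⟩ (hEN hxE)]
      show ((ψ (x ^ p) : T) : Ω) = _
      rw [map_pow, hψx]
      rfl
    exact congrArg Subtype.val (hfpf _ h2)
  have hxnE : (x : Ω) ∉ E := fun hh => h.hgE <| by
    have h1 := E.mul_mem hh (E.inv_mem f.2)
    rwa [hx, Subgroup.coe_mul, mul_inv_cancel_right] at h1
  refine ⟨?_, x, x.2, hxnE, hxp⟩
  -- the exponent of `E` is `p`
  suffices hexp : ∀ y : E, y ^ p = 1 from (Subgroup.eq_top_iff' W).2 fun y => homega y (hexp y)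
  by_contra hne
  push Not at hne
  obtain ⟨y₀, hy₀⟩ := hne
  obtain ⟨k, hk⟩ := IsPGroup.iff_orderOf.1 hEp y₀
  have hk2 : 2 ≤ k := by
    by_contra hlt
    exact hy₀ (orderOf_dvd_iff_pow_eq_one.1 (hk ▸ (pow_dvd_pow p (show k ≤ 1 by omega)).trans
      (by rw [pow_one])))
  set y := y₀ ^ p ^ (k - 2) with hy
  have hyo : orderOf y = p ^ 2 := by
    rw [hy, orderOf_pow_of_dvd (pow_ne_zero _ hpp.out.ne_zero) (hk ▸ pow_dvd_pow p (by omega)), hk,
      Nat.pow_div (by omega) hpp.out.pos, show k - (k - 2) = 2 by omega]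
  have hgood : ∃ b : E, (b ^ p) ^ p = 1 ∧ ∃ hb : b ^ p ∈ W,
      (QuotientGroup.mk ⟨b ^ p, hb⟩ : ↥W ⧸ frattini ↥W) ∉ Subgroup.zpowers z := by
    have h1 : (y ^ p) ^ p = 1 := by rw [← pow_mul, ← pow_two, ← hyo, pow_orderOf_eq_one]
    have hmem := homega _ h1
    by_cases hl : (QuotientGroup.mk ⟨y ^ p, hmem⟩ : ↥W ⧸ frattini ↥W) ∈ Subgroup.zpowers z
    · obtain ⟨γ, hγ, hγz⟩ := h.hmove
      have h2 : ((γ y) ^ p) ^ p = 1 := by rw [← map_pow, ← map_pow, h1, map_one]
      refine ⟨γ y, h2, homega _ h2, fun hm => ?_⟩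
      obtain ⟨i, hi⟩ := hl
      have h3 : plane W γ (z ^ i) ∈ Subgroup.zpowers z := by
        rw [show z ^ i = QuotientGroup.mk ⟨y ^ p, hmem⟩ from hi, plane_mk]
        convert hm using 2
        exact Subtype.ext (map_pow γ y p)
      have hip : ¬ (p : ℤ) ∣ i := fun hdv => by
        have h4 : z ^ i = 1 := by rw [zpow_eq_of_dvd h.hVexp z (i := i) (j := 0) (by simpa using hdv),
          zpow_zero]
        rw [show z ^ i = QuotientGroup.mk ⟨y ^ p, hmem⟩ from hi, ← QuotientGroup.mk_one] at h4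
        have h5 : y ^ p = 1 := congrArg Subtype.val (hinj h4)
        have h6 := orderOf_dvd_of_pow_eq_one h5
        rw [hyo] at h6
        exact absurd (Nat.le_of_dvd hpp.out.pos h6) (by nlinarith)
      obtain ⟨u, v, huv⟩ : IsCoprime i p :=
        (((Nat.prime_iff_prime_int.1 hpp.out).coprime_iff_not_dvd).2 hip).symm
      apply hγz
      have h7 := Subgroup.zpow_mem _ h3 u
      rw [← map_zpow, ← zpow_mul, zpow_eq_of_dvd h.hVexp z (i := i * u) (j := 1)
        ⟨v, by linarith⟩, zpow_one] at h7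
      exact h7
    · exact ⟨y, h1, hmem, hl⟩
  obtain ⟨b, hb2, hb, hbz⟩ := hgood
  letI : CommGroup E := { (inferInstance : Group E) with mul_comm := hEc }
  have hxN : (x : Ω) ∈ Subgroup.normalizer (E : Set Ω) := h.hN _ x.2
  set χ := conjAut E (x : Ω) hxN with hχ
  have hχt : plane W χ = plane W (conjAut E g h.hgN) := by
    have h1 : χ = conjAut E g h.hgN * MulAut.conj f := MulEquiv.ext fun c => Subtype.ext <| by
      rw [MulAut.mul_apply, conjAut_apply, conjAut_apply, MulAut.conj_apply, hx]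
      simp only [Subgroup.coe_mul, Subgroup.coe_inv, hgT]
      group
    rw [h1, map_mul, h.hinn, mul_one]
  have hχp : χ ^ p = 1 := by
    have hit : ∀ (m : ℕ) (c : E), (((χ ^ m) c : E) : Ω) = (x : Ω) ^ m * c * ((x : Ω) ^ m)⁻¹ := by
      intro m
      induction m with
      | zero => simp
      | succ m ih => intro c; rw [pow_succ, MulAut.mul_apply, ih, conjAut_apply, pow_succ]; group
    refine MulEquiv.ext fun c => Subtype.ext ?_
    rw [hit, hxp]
    simp
  -- the jumps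
  have hline : ∀ (w : E) (hw : w ∈ W), χ (w⁻¹ * χ w) = w⁻¹ * χ w := by
    intro w hw
    obtain ⟨i, j, hij⟩ := h.hspan (QuotientGroup.mk ⟨w, hw⟩)
    set w' : W := (⟨w, hw⟩ : W)⁻¹ * restrictChar W χ ⟨w, hw⟩ with hw'
    have h2 : (QuotientGroup.mk w' : ↥W ⧸ frattini ↥W) = z ^ (a * i) := by
      rw [hw', QuotientGroup.mk_mul, QuotientGroup.mk_inv, ← plane_mk, hij, hχt, map_mul, map_zpow,
        map_zpow, h.hte, h.htz, (show Commute e (z ^ a) from h.hcomm _ _).mul_zpow, ← zpow_mul,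
        mul_assoc, h.hcomm (z ^ (a * i)), ← mul_assoc (e ^ i), inv_mul_cancel_left]
    have h3 : plane W χ (QuotientGroup.mk w') = QuotientGroup.mk w' := by
      rw [h2, hχt, map_zpow, h.htz]
    rw [plane_mk] at h3
    exact congrArg Subtype.val (hinj h3)
  set b₁ := b⁻¹ * χ b with hb₁
  set b₂ := b₁⁻¹ * χ b₁ with hb₂
  set b₃ := b₂⁻¹ * χ b₂ with hb₃
  have hb₂p : b₂ ^ p = 1 := by
    have h1 : b₁ ^ p = (b ^ p)⁻¹ * χ (b ^ p) := by rw [hb₁, mul_pow, inv_pow, map_pow]
    rw [hb₂, mul_pow, inv_pow, ← map_pow, h1, hline _ hb, inv_mul_cancel]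
  have hb₂W := homega _ hb₂p
  have hb₃p : b₃ ^ p = 1 := by rw [hb₃, mul_pow, inv_pow, ← map_pow, hb₂p, map_one, inv_one, one_mul]
  have hfin := pow_fixed_of_unipotent (p := p) hp5 hχp (a := b) (b₁ := b₁) (b₂ := b₂) (b₃ := b₃)
    (by rw [hb₁, mul_inv_cancel_left]) (by rw [hb₂, mul_inv_cancel_left])
    (by rw [hb₃, mul_inv_cancel_left]) (hline _ hb₂W) hb₂p hb₃p
  rw [hb₁, mul_pow, inv_pow, ← map_pow, inv_mul_eq_one] at hfin
  apply hbz
  obtain ⟨i, j, hij⟩ := h.hspan (QuotientGroup.mk ⟨b ^ p, hb⟩)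
  have h2 : plane W χ (QuotientGroup.mk ⟨b ^ p, hb⟩) = QuotientGroup.mk ⟨b ^ p, hb⟩ := by
    rw [plane_mk]; exact congrArg QuotientGroup.mk (Subtype.ext hfin.symm)
  rw [hij, hχt, map_mul, map_zpow, map_zpow, h.hte, h.htz,
    (show Commute e (z ^ a) from h.hcomm _ _).mul_zpow, ← zpow_mul, mul_assoc, mul_right_inj,
    mul_eq_right] at h2
  have h3 : (p : ℤ) ∣ a * i := by
    have := orderOf_dvd_iff_zpow_eq_one.2 h2
    rwa [orderOf_eq_prime (h.hVexp z) h.hz] at this
  have h4 := (Int.Prime.dvd_mul' hpp.out h3).resolve_left h.ha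
  rw [hij, zpow_eq_of_dvd h.hVexp e (i := i) (j := 0) (by simpa using h4), zpow_zero, one_mul]
  exact ⟨j, rfl⟩

end CfsgLib.FusionModels.RankTwo
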