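/-
Essential subgroups in p-rank two for p at least 5: the detecting subgroup is never extraspecial.
-/
import Cfsg.Agent.Lib.FusionModels.RankTwoCases

set_option autoImplicit false
set_option linter.style.haveILetI false
set_option linter.unusedSectionVars false
set_option linter.unusedVariables false

open scoped commutatorElement

namespace CfsgLib.FusionModels.RankTwo

open Cfsg Cfsg.FusionSystem CfsgLib.Alperin

variable {Ω : Type*} [Group Ω] {S : Subgroup Ω} [Finite S] {p : ℕ} [hpp : Fact p.Prime]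

theorem zpow_commutator_of_center {G : Type*} [Group G] (hcl : ∀ a b : G, ⁅a, b⁆ ∈ Subgroup.center G)
    (x v : G) (i : ℤ) : x ^ i * v * (x ^ i)⁻¹ = ⁅x, v⁆ ^ i * v := by
  let f : G →* G :=
    { toFun := fun u => ⁅u, v⁆
      map_one' := commutatorElement_one_left v
      map_mul' := fun a b => by
        show ⁅a * b, v⁆ = ⁅a, v⁆ * ⁅b, v⁆
        have h1 : ⁅a * b, v⁆ = a * ⁅b, v⁆ * a⁻¹ * ⁅a, v⁆ := by
          simp only [commutatorElement_def]; group
        rw [h1, Subgroup.mem_center_iff.1 (hcl b v) a, mul_inv_cancel_right,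
          Subgroup.mem_center_iff.1 (hcl a v)] }
  have h2 : ⁅x ^ i, v⁆ = ⁅x, v⁆ ^ i := map_zpow f x i
  rw [← h2, commutatorElement_def, inv_mul_cancel_right]
/-- The inverse image of the line in the detecting subgroup. -/
def planeLine {G : Type*} [Group G] (W : Subgroup G) (z : ↥W ⧸ frattini ↥W) : Subgroup W :=
  (Subgroup.zpowers z).comap (QuotientGroup.mk' (frattini W))

/-- An extraspecial detecting subgroup and its centralizer. -/
structure Frame (p : ℕ) {E : Subgroup Ω} (W : Subgroup E) (z e : ↥W ⧸ frattini ↥W) (zW eW : W) :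
    Prop where
  hzW : QuotientGroup.mk' (frattini W) zW = z
  heW : QuotientGroup.mk' (frattini W) eW = e
  hWexp : ∀ w : W, w ^ p = 1
  hcl : ∀ u v : W, ⁅u, v⁆ ∈ Subgroup.center W
  hmk1 : ∀ w : W, QuotientGroup.mk' (frattini W) w = 1 ↔ w ∈ Subgroup.center W
  hcgen : Subgroup.center W = Subgroup.zpowers ⁅eW, zW⁆
  hdecomp : ∀ y : E, ∃ w : W, ∃ δ ∈ Subgroup.centralizer (W : Set E), y = (w : E) * δ
  hDo : ∀ y ∈ Subgroup.centralizer (W : Set E), y ^ p = 1 →
    ∃ hy : y ∈ W, (⟨y, hy⟩ : W) ∈ Subgroup.center W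
  hDcen : ∀ y : E, ∀ δ ∈ Subgroup.centralizer (W : Set E), y * δ = δ * y
  hcD : ((⁅eW, zW⁆ : W) : E) ∈ Subgroup.centralizer (W : Set E)
  hLhmem : ∀ l ∈ planeLine W z, ∃ i j : ℤ, l = zW ^ i * ⁅eW, zW⁆ ^ j
  hAcomm : ∀ u ∈ (planeLine W z).map W.subtype, ∀ v ∈ (planeLine W z).map W.subtype, u * v = v * u
  hAc : Nat.card ((planeLine W z).map W.subtype) = p ^ 2

theorem exists_frame (hS : IsPGroup p S) (hp5 : 5 ≤ p) (hr : RankLE2 p S) {F : FusionSystem S}
    {E : Subgroup Ω} (hES : E ≤ S) [Finite E] {W : Subgroup E} [W.Characteristic] {g : Ω}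
    {z e : ↥W ⧸ frattini ↥W} {a : ℤ} (h : PlaneData F p E W g z e a)
    (hWna : ¬ IsMulCommutative W) (hWcard : Nat.card W = p ^ 3) :
    ∃ zW eW : W, Frame p W z e zW eW := by
  have hp2 : p ≠ 2 := by omega
  have hEp : IsPGroup p E := isPGroup_of_le hS hES
  have hrE : RankLE2 p E := hr.of_injective (Subgroup.inclusion hES) (Subgroup.inclusion_injective hES)
  obtain ⟨hZc, hΦZ, hcom⟩ := Pearl.cube_facts hWcard hWna
  set mk := (QuotientGroup.mk' (frattini W)) with hmk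
  have hmk1 : ∀ w : W, mk w = 1 ↔ w ∈ Subgroup.center W := fun w => by
    rw [← hΦZ]; exact QuotientGroup.eq_one_iff w
  have hcl : ∀ u v : W, ⁅u, v⁆ ∈ Subgroup.center W := fun u v => by
    rw [← hcom]; exact Subgroup.commutator_mem_commutator (Subgroup.mem_top u) (Subgroup.mem_top v)
  obtain ⟨zW, hzW⟩ := QuotientGroup.mk'_surjective (frattini W) z
  obtain ⟨eW, heW⟩ := QuotientGroup.mk'_surjective (frattini W) e
  set c := ⁅eW, zW⁆ with hc
  have hgen : Subgroup.closure {zW, eW} = (⊤ : Subgroup W) := by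
    refine frattini_nongenerating (top_le_iff.1 fun w _ => ?_)
    obtain ⟨i, j, hij⟩ := h.hspan (mk w)
    set w₀ := eW ^ i * zW ^ j with hw₀
    have h1 : w₀⁻¹ * w ∈ frattini W := (QuotientGroup.eq_one_iff _).1 (by
      show mk (w₀⁻¹ * w) = 1
      rw [map_mul, map_inv, hw₀, map_mul, map_zpow, map_zpow, hmk, hzW, heW]
      rw [← hmk, hij, inv_mul_cancel])
    rw [← mul_inv_cancel_left w₀ w]
    have heWm : eW ∈ Subgroup.closure ({zW, eW} : Set W) :=
      Subgroup.subset_closure (Set.mem_insert_of_mem zW (Set.mem_singleton eW))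
    have hzWm : zW ∈ Subgroup.closure ({zW, eW} : Set W) :=
      Subgroup.subset_closure (Set.mem_insert zW {eW})
    have hw₀m : w₀ ∈ Subgroup.closure ({zW, eW} : Set W) :=
      mul_mem (Subgroup.zpow_mem _ heWm i) (Subgroup.zpow_mem _ hzWm j)
    exact Subgroup.mul_mem_sup hw₀m h1
  have hc1 : c ≠ 1 := by
    intro hh
    apply hWna
    haveI : IsMulCommutative ↥(Subgroup.closure ({zW, eW} : Set W)) := by
      refine Subgroup.isMulCommutative_closure ?_
      rintro u (rfl | rfl) v (rfl | rfl)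
      · rfl
      · exact (commutatorElement_eq_one_iff_mul_comm.1 hh).symm
      · exact commutatorElement_eq_one_iff_mul_comm.1 hh
      · rfl
    exact ⟨⟨fun u v => congrArg Subtype.val (mul_comm'
      (⟨u, hgen.ge (Subgroup.mem_top u)⟩ : Subgroup.closure ({zW, eW} : Set W))
      ⟨v, hgen.ge (Subgroup.mem_top v)⟩)⟩⟩
  have hWexp : ∀ w : W, w ^ p = 1 := fun w => Subtype.ext (h.hexp _ w.2)
  have hcgen : Subgroup.center W = Subgroup.zpowers c := by
    refine (Subgroup.eq_of_le_of_card_ge (Subgroup.zpowers_le.2 (hcl _ _)) ?_).symm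
    rw [hZc, Nat.card_zpowers, orderOf_eq_prime (hWexp c) hc1]
  -- the centralizer of `W`
  set D := Subgroup.centralizer (W : Set E) with hD
  haveI : D.Characteristic := inferInstance
  have hdecomp : ∀ y : E, ∃ w : W, ∃ δ ∈ D, y = (w : E) * δ := by
    intro y
    have hv : ∀ v : W, ∃ i : ℤ, restrictChar W (MulAut.conj y) v = c ^ i * v := by
      intro v
      have h1 : plane W (MulAut.conj y) (mk v) = mk v := by rw [h.hinn]; rfl
      have h2 : restrictChar W (MulAut.conj y) v * v⁻¹ ∈ Subgroup.center W := by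
        rw [← hmk1, map_mul, map_inv, mul_inv_eq_one]; exact h1
      rw [hcgen] at h2
      obtain ⟨i, hi⟩ := h2
      exact ⟨i, by rw [show c ^ i = _ from hi, inv_mul_cancel_right]⟩
    obtain ⟨i, hi⟩ := hv zW
    obtain ⟨j, hj⟩ := hv eW
    set w := eW ^ i * zW ^ (-j) with hw
    have hwz : w * zW * w⁻¹ = c ^ i * zW := by
      rw [hw, ← zpow_commutator_of_center hcl eW zW i]
      have h3 : zW ^ (-j) * zW * (zW ^ (-j))⁻¹ = zW := by group
      calc eW ^ i * zW ^ (-j) * zW * (eW ^ i * zW ^ (-j))⁻¹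
          = eW ^ i * (zW ^ (-j) * zW * (zW ^ (-j))⁻¹) * (eW ^ i)⁻¹ := by group
        _ = _ := by rw [h3]
    have hwe : w * eW * w⁻¹ = c ^ j * eW := by
      have h4 : zW ^ (-j) * eW * (zW ^ (-j))⁻¹ = c ^ j * eW := by
        rw [zpow_commutator_of_center hcl zW eW, ← commutatorElement_inv eW zW, inv_zpow', neg_neg]
      calc w * eW * w⁻¹ = eW ^ i * (zW ^ (-j) * eW * (zW ^ (-j))⁻¹) * (eW ^ i)⁻¹ := by
            rw [hw]; group
        _ = eW ^ i * (c ^ j * eW) * (eW ^ i)⁻¹ := by rw [h4]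
        _ = c ^ j * (eW ^ i * eW * (eW ^ i)⁻¹) := by
            rw [← mul_assoc (eW ^ i) (c ^ j), Subgroup.mem_center_iff.1 (zpow_mem (hcl eW zW) j)]
            simp only [mul_assoc]
            rfl
        _ = c ^ j * eW := by rw [show eW ^ i * eW * (eW ^ i)⁻¹ = eW by group]
    refine ⟨w, (w : E)⁻¹ * y, ?_, (mul_inv_cancel_left _ _).symm⟩
    have hsub : ∀ v ∈ ({zW, eW} : Set W), ((v : E) * ((w : E)⁻¹ * y)) = (w : E)⁻¹ * y * v := by
      intro v hv'
      have h5 : y * (v : E) * y⁻¹ = (w : E) * v * (w : E)⁻¹ := by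
        rcases hv' with rfl | rfl
        · exact congrArg Subtype.val (hi.trans hwz.symm)
        · exact congrArg Subtype.val (hj.trans hwe.symm)
      calc (v : E) * ((w : E)⁻¹ * y) = (w : E)⁻¹ * ((w : E) * v * (w : E)⁻¹) * y := by group
        _ = (w : E)⁻¹ * (y * v * y⁻¹) * y := by rw [h5]
        _ = (w : E)⁻¹ * y * v := by group
    let K : Subgroup W := (Subgroup.centralizer ({(w : E)⁻¹ * y} : Set E)).comap W.subtype
    have hK : K = ⊤ := top_le_iff.1 (hgen.ge.trans ((Subgroup.closure_le K).2 fun v hv' =>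
      Subgroup.mem_centralizer_singleton_iff.2 (hsub v hv')))
    refine Subgroup.mem_centralizer_iff.2 fun u hu => ?_
    exact Subgroup.mem_centralizer_singleton_iff.1 (hK.ge (Subgroup.mem_top (⟨u, hu⟩ : W)) :)
  -- `D` is cyclic
  set Lh : Subgroup W := (Subgroup.zpowers z).comap mk with hLh
  set A : Subgroup E := Lh.map W.subtype with hA
  have hAc : Nat.card A = p ^ 2 := by
    rw [hA, Subgroup.card_map_of_injective W.subtype_injective]
    have h1 := Lh.card_mul_index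
    rw [hLh, Subgroup.index_comap_of_surjective _ (QuotientGroup.mk'_surjective _)] at h1
    have h2 := (Subgroup.zpowers z).card_mul_index
    rw [Nat.card_zpowers, orderOf_eq_prime (h.hVexp z) h.hz, h.hVcard, pow_two] at h2
    rw [Nat.eq_of_mul_eq_mul_left hpp.out.pos h2, hWcard, pow_succ p 2] at h1
    exact Nat.eq_of_mul_eq_mul_right hpp.out.pos h1
  have hLhmem : ∀ l ∈ Lh, ∃ i j : ℤ, l = zW ^ i * c ^ j := by
    intro l hl
    obtain ⟨i, hi⟩ := hl
    have h1 : (zW ^ i)⁻¹ * l ∈ Subgroup.center W := by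
      rw [← hmk1, map_mul, map_inv, map_zpow, hmk, hzW, ← hmk, inv_mul_eq_one]; exact hi
    rw [hcgen] at h1
    obtain ⟨j, hj⟩ := h1
    exact ⟨i, j, by rw [show c ^ j = _ from hj, mul_inv_cancel_left]⟩
  have hAcomm : ∀ u ∈ A, ∀ v ∈ A, u * v = v * u := by
    rintro _ ⟨u, hu, rfl⟩ _ ⟨v, hv, rfl⟩
    obtain ⟨i, j, rfl⟩ := hLhmem u hu
    obtain ⟨i', j', rfl⟩ := hLhmem v hv
    rw [← map_mul, ← map_mul]
    refine congrArg W.subtype (Commute.mul_left ?_ ?_).eq
    · exact Commute.mul_right ((Commute.refl zW).zpow_zpow i i')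
        ((show Commute (zW ^ i) (c ^ j') from Subgroup.mem_center_iff.1 (zpow_mem (hcl _ _) j') _))
    · exact (show Commute (c ^ j) (zW ^ i' * c ^ j') from
        (Subgroup.mem_center_iff.1 (zpow_mem (hcl _ _) j) _).symm)
  have hAW : ∀ u ∈ A, u ∈ W := by rintro _ ⟨u, -, rfl⟩; exact u.2
  have hDo : ∀ y ∈ D, y ^ p = 1 → ∃ hy : y ∈ W, (⟨y, hy⟩ : W) ∈ Subgroup.center W := by
    intro y hy hyp
    have hyA := hrE.mem_of_commute hAcomm (fun u hu => h.hexp u (hAW u hu)) hAc hyp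
      fun u hu => Subgroup.mem_centralizer_iff.1 hy u (hAW u hu)
    refine ⟨hAW y hyA, Subgroup.mem_center_iff.2 fun v => Subtype.ext ?_⟩
    exact Subgroup.mem_centralizer_iff.1 hy v v.2
  have hDcyc : IsCyclic D := by
    by_contra hnc
    obtain ⟨u, v, hu, hv, huv⟩ :=
      CfsgLib.PGroups.exists_orderOf_eq_notMem hp2 (hEp.to_subgroup D) hnc
    obtain ⟨hu1, hu2⟩ := hDo u u.2 (by rw [← Subgroup.coe_pow, ← hu, pow_orderOf_eq_one]; rfl)
    obtain ⟨hv1, hv2⟩ := hDo v v.2 (by rw [← Subgroup.coe_pow, ← hv, pow_orderOf_eq_one]; rfl)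
    obtain ⟨i, hi⟩ := mem_zpowers_of_prime_card (G := Subgroup.center W) hZc
      (g := ⟨_, hu2⟩) (g' := ⟨_, hv2⟩) fun h1 => by
        have h2 : u = 1 := Subtype.ext (congrArg (fun q : Subgroup.center W => ((q : W) : E)) h1)
        rw [h2, orderOf_one] at hu
        exact hpp.out.one_lt.ne hu
    exact huv ⟨i, Subtype.ext (by
      simpa using congrArg (fun q : Subgroup.center W => ((q : W) : E)) hi)⟩
  have hDc : ∀ u v : D, u * v = v * u := by
    haveI := hDcyc
    exact fun u v => IsCyclic.commGroup.mul_comm u v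
  have hDcen : ∀ (y : E), ∀ δ ∈ D, y * δ = δ * y := by
    intro y δ hδ
    obtain ⟨w, δ', hδ', rfl⟩ := hdecomp y
    have h1 : Commute (w : E) δ := Subgroup.mem_centralizer_iff.1 hδ w w.2
    have h2 : Commute δ' δ := congrArg Subtype.val (hDc ⟨δ', hδ'⟩ ⟨δ, hδ⟩)
    exact (h1.mul_left h2).eq
  have hcD : ((c : W) : E) ∈ D := Subgroup.mem_centralizer_iff.2 fun u hu =>
    congrArg Subtype.val (Subgroup.mem_center_iff.1 (hcl eW zW) ⟨u, hu⟩)
  exact ⟨zW, eW, ⟨hzW, heW, hWexp, hcl, hmk1, hcgen, hdecomp, hDo, hDcen, hcD, hLhmem, hAcomm, hAc⟩⟩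

theorem exists_torus_ext (hS : IsPGroup p S) (hp5 : 5 ≤ p) {F : FusionSystem S}
    {E : Subgroup Ω} (hES : E ≤ S) [Finite E] {W : Subgroup E} [W.Characteristic] {g : Ω}
    {z e : ↥W ⧸ frattini ↥W} {a : ℤ} (h : PlaneData F p E W g z e a) {zW eW : W}
    (hf : Frame p W z e zW eW) :
    (∀ δ ∈ Subgroup.centralizer (W : Set E), conjAut E g h.hgN δ = δ) ∧
      ∃ (d : MulAut E) (ψ : MulAut (normalizerIn S E)) (e₁ : E), plane W d z = z ^ (2 : ℤ) ∧
        (∀ δ ∈ Subgroup.centralizer (W : Set E), d δ = δ) ∧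
        (∀ y : E, ψ (Subgroup.inclusion (le_normalizerIn hES) y) =
          Subgroup.inclusion (le_normalizerIn hES) (d y)) ∧
        ψ ⟨g, h.hgS, h.hgN⟩ =
          ⟨g, h.hgS, h.hgN⟩ ^ 4 * Subgroup.inclusion (le_normalizerIn hES) e₁ := by
  obtain ⟨hzW, heW, hWexp, hcl, hmk1, hcgen, hdecomp, hDo, hDcen, hcD, hLhmem, hAcomm, hAc⟩ := hf
  have hp2 : p ≠ 2 := by omega
  have hEp : IsPGroup p E := isPGroup_of_le hS hES
  set c := ⁅eW, zW⁆ with hc
  set D := Subgroup.centralizer (W : Set E) with hD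
  set mk := (QuotientGroup.mk' (frattini W)) with hmk
  obtain ⟨m, hm⟩ : ∃ m : ℕ, 2 * m = p + 1 := by
    obtain ⟨k, hk⟩ := hpp.out.odd_of_ne_two hp2
    exact ⟨k + 1, by omega⟩
  have hm' : (2 : ℤ) * (m : ℤ) = (p : ℤ) + 1 := by exact_mod_cast hm
  obtain ⟨d, hd, hdco, hdz, hde⟩ := h.htorus 2 (m : ℤ) ⟨1, by linarith⟩
  have hdc : restrictChar W d c = c := by
    set dz := restrictChar W d zW
    set de := restrictChar W d eW
    have h1 : mk dz = mk (zW ^ (2 : ℤ)) := by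
      rw [map_zpow, hmk, hzW, ← hdz, ← hzW]; rfl
    have h2 : mk de = mk (eW ^ (m : ℤ)) := by
      rw [map_zpow, hmk, heW, ← hde, ← heW]; rfl
    have hcz : ∀ {u u' : W}, mk u = mk u' → u'⁻¹ * u ∈ Subgroup.center W := fun {u u'} hu => by
      rw [← hmk1, map_mul, map_inv, hu, inv_mul_cancel]
    have hbil : ∀ {u v u' v' : W}, mk u = mk u' → mk v = mk v' → ⁅u, v⁆ = ⁅u', v'⁆ := by
      intro u v u' v' hu hv
      obtain ⟨z₁, hz₁, rfl⟩ : ∃ z₁ ∈ Subgroup.center W, u = u' * z₁ :=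
        ⟨_, hcz hu, (mul_inv_cancel_left _ _).symm⟩
      obtain ⟨z₂, hz₂, rfl⟩ : ∃ z₂ ∈ Subgroup.center W, v = v' * z₂ :=
        ⟨_, hcz hv, (mul_inv_cancel_left _ _).symm⟩
      simp only [commutatorElement_def, mul_inv_rev]
      have e1 := Subgroup.mem_center_iff.1 hz₁
      have e2 := Subgroup.mem_center_iff.1 hz₂
      calc u' * z₁ * (v' * z₂) * (z₁⁻¹ * u'⁻¹) * (z₂⁻¹ * v'⁻¹)
          = u' * (z₁ * (v' * z₂)) * z₁⁻¹ * u'⁻¹ * z₂⁻¹ * v'⁻¹ := by group
        _ = u' * v' * z₂ * u'⁻¹ * z₂⁻¹ * v'⁻¹ := by rw [← e1 (v' * z₂)]; group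
        _ = u' * v' * (z₂ * u'⁻¹) * z₂⁻¹ * v'⁻¹ := by group
        _ = u' * v' * u'⁻¹ * v'⁻¹ := by rw [← e2 u'⁻¹]; group
    have h3 : restrictChar W d c = ⁅eW ^ (m : ℤ), zW ^ (2 : ℤ)⁆ := by
      rw [hc, map_commutatorElement]; exact hbil h2 h1
    rw [h3]
    have h4 : ⁅eW, zW ^ (2 : ℤ)⁆ = c ^ (2 : ℤ) := by
      have := zpow_commutator_of_center hcl zW eW (2 : ℤ)
      rw [← commutatorElement_inv, commutatorElement_def (zW ^ (2 : ℤ)) eW, this,
        mul_inv_cancel_right, ← commutatorElement_inv eW zW, inv_zpow, inv_inv]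
    rw [commutatorElement_def, zpow_commutator_of_center hcl eW (zW ^ (2 : ℤ)), mul_inv_cancel_right,
      h4, ← zpow_mul, show (2 : ℤ) * (m : ℤ) = (p : ℤ) + 1 from hm', zpow_add, zpow_natCast, hWexp,
      one_mul, zpow_one]
  have hdD : ∀ δ ∈ D, d δ = δ := by
    have h1 : restrictChar D d = 1 := by
      refine CfsgLib.PGroups.eq_one_of_fixed_omega hp2 (hEp.to_subgroup D) _
        (Nat.Coprime.coprime_dvd_left (orderOf_map_dvd _ _) hdco) fun y hy => ?_
      obtain ⟨hy1, hy2⟩ := hDo y y.2 (congrArg Subtype.val hy)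
      rw [hcgen] at hy2
      obtain ⟨i, hi⟩ := hy2
      refine Subtype.ext ?_
      have h2 : restrictChar W d ⟨(y : E), hy1⟩ = ⟨(y : E), hy1⟩ := by
        rw [← show c ^ i = ⟨(y : E), hy1⟩ from hi, map_zpow, hdc]
      exact (congrArg Subtype.val h2 :)
    exact fun δ hδ => (congrArg Subtype.val (DFunLike.congr_fun h1 (⟨δ, hδ⟩ : D)) :)
  obtain ⟨ψ, hψ, hψE, hψg⟩ := h.hextend d hd 2 (m : ℤ) 4 hdz hde ⟨2, by push_cast; linarith⟩
  revert ψ
  set T := normalizerIn S E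
  intro ψ hψ hψE hψg
  have hEN : E ≤ T := le_normalizerIn hES
  haveI := finite_of_le (normalizerIn_le S E)
  let ι : E →* T := Subgroup.inclusion hEN
  have hψι : ∀ y : E, ψ (ι y) = ι (d y) := fun y => Subtype.ext (hψE y (hEN y.2))
  set gT : T := ⟨g, h.hgS, h.hgN⟩ with hgT
  set κ := conjAut E g h.hgN with hκ
  have hκι : ∀ y : E, ι (κ y) = gT * ι y * gT⁻¹ := fun y => Subtype.ext (conjAut_apply E g h.hgN y)
  obtain ⟨e₁, he₁⟩ : ∃ e₁ : E, ψ gT = gT ^ 4 * ι e₁ :=
    ⟨⟨_, hψg gT.2⟩, Subtype.ext (mul_inv_cancel_left _ _).symm⟩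
  -- `D` is centralized by `g`
  have hκD : ∀ δ ∈ D, κ δ = δ := by
    intro δ hδ
    have hκδ : κ δ ∈ D :=
      ((Subgroup.characteristic_iff_map_eq.mp (inferInstance : D.Characteristic)) κ).le ⟨δ, hδ, rfl⟩
    have hit : ∀ (k : ℕ) (y : E), ι ((κ ^ k) y) = gT ^ k * ι y * (gT ^ k)⁻¹ := by
      intro k
      induction k with
      | zero => simp
      | succ k ih => intro y; rw [pow_succ, MulAut.mul_apply, ih, hκι, pow_succ]; group
    have h4 : (κ ^ 4) δ = κ δ := by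
      apply Subgroup.inclusion_injective hEN
      show ι _ = ι _
      rw [hit, ← hdD _ hκδ, ← hψι, hκι, map_mul, map_mul, map_inv, hψι, hdD δ hδ, he₁]
      have h5 : ι e₁ * ι δ = ι δ * ι e₁ := by rw [← map_mul, ← map_mul, hDcen e₁ δ hδ]
      calc gT ^ 4 * ι δ * (gT ^ 4)⁻¹ = gT ^ 4 * (ι δ * ι e₁) * (ι e₁)⁻¹ * (gT ^ 4)⁻¹ := by group
        _ = gT ^ 4 * (ι e₁ * ι δ) * (ι e₁)⁻¹ * (gT ^ 4)⁻¹ := by rw [h5]
        _ = gT ^ 4 * ι e₁ * ι δ * (gT ^ 4 * ι e₁)⁻¹ := by group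
    obtain ⟨r, hr'⟩ := Pearl.exists_pow_conjAut hS h.hgS h.hgN
    let K : Subgroup (MulAut E) :=
      { carrier := {σ | σ δ = δ}
        one_mem' := rfl
        mul_mem' := fun {σ τ} hσ hτ => by
          show (σ * τ) δ = δ
          rw [MulAut.mul_apply, hτ, hσ]
        inv_mem' := fun {σ} hσ => by
          show σ⁻¹ δ = δ
          nth_rewrite 1 [← hσ]
          rw [MulAut.inv_apply_self] }
    have hK3 : κ ^ 3 ∈ K := κ.injective (by
      rw [← MulAut.mul_apply, ← pow_succ']; exact h4)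
    have hKr : κ ^ p ^ r ∈ K := by rw [hκ, hr']; exact one_mem _
    have h3p : IsCoprime (3 : ℤ) ((p : ℤ) ^ r) := by
      refine IsCoprime.pow_right ?_
      rw [Int.isCoprime_iff_gcd_eq_one]
      exact_mod_cast (Nat.coprime_primes Nat.prime_three hpp.out).2 (by omega)
    obtain ⟨u, v, huv⟩ := h3p
    have h6 := mul_mem (K.zpow_mem hK3 u) (K.zpow_mem hKr v)
    rw [← zpow_natCast κ 3, ← zpow_natCast κ (p ^ r), ← zpow_mul, ← zpow_mul, ← zpow_add,
      Nat.cast_pow, Nat.cast_ofNat,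
      show (3 : ℤ) * u + (p : ℤ) ^ r * v = 1 by linear_combination huv, zpow_one] at h6
    exact h6
  exact ⟨hκD, d, ψ, e₁, hdz, hdD, hψι, he₁⟩

theorem mul_pow_normalizer (hp5 : 5 ≤ p) {F : FusionSystem S} {E : Subgroup Ω} (hES : E ≤ S)
    [Finite E] {W : Subgroup E} [W.Characteristic] {g : Ω} {z e : ↥W ⧸ frattini ↥W} {a : ℤ}
    (h : PlaneData F p E W g z e a) {zW eW : W} (hf : Frame p W z e zW eW)
    (hκD : ∀ δ ∈ Subgroup.centralizer (W : Set E), conjAut E g h.hgN δ = δ) :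
    (∀ j : ℤ, Subgroup.inclusion (le_normalizerIn hES) (((⁅eW, zW⁆ : W) ^ j : W) : E) ∈
      Subgroup.center (normalizerIn S E)) ∧
    ∀ x y : normalizerIn S E, (x * y) ^ p = x ^ p * y ^ p := by
  obtain ⟨hzW, heW, hWexp, hcl, hmk1, hcgen, hdecomp, hDo, hDcen, hcD, hLhmem, hAcomm, hAc⟩ := hf
  set c := ⁅eW, zW⁆ with hc
  set D := Subgroup.centralizer (W : Set E) with hD
  set mk := (QuotientGroup.mk' (frattini W)) with hmk
  set Lh := planeLine W z with hLh
  set T := normalizerIn S E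
  have hEN : E ≤ T := le_normalizerIn hES
  haveI := finite_of_le (normalizerIn_le S E)
  let ι : E →* T := Subgroup.inclusion hEN
  set gT : T := ⟨g, h.hgS, h.hgN⟩ with hgT
  set κ := conjAut E g h.hgN with hκ
  have hκι : ∀ y : E, ι (κ y) = gT * ι y * gT⁻¹ := fun y => Subtype.ext (conjAut_apply E g h.hgN y)
  -- the normalizer has class at most three
  have hgen' : ∀ u : T, ∃ (i : ℤ) (w : W) (δ : E), δ ∈ D ∧ u = gT ^ i * (ι w * ι δ) := by
    intro u
    obtain ⟨i, hi⟩ := h.hT u u.2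
    obtain ⟨w, δ, hδ, hwδ⟩ := hdecomp ⟨_, hi⟩
    exact ⟨i, w, δ, hδ, by
      rw [← map_mul, ← hwδ]
      exact Subtype.ext (by show (u : Ω) = _; simp [ι, hgT])⟩
  have hκW : ∀ w : W, ∃ l ∈ Lh, ι (κ w) = ι w * ι l := by
    intro w
    refine ⟨w⁻¹ * restrictChar W κ w, ?_, ?_⟩
    · show mk (w⁻¹ * restrictChar W κ w) ∈ Subgroup.zpowers z
      obtain ⟨i, j, hij⟩ := h.hspan (mk w)
      rw [map_mul, map_inv, show mk (restrictChar W κ w) = plane W κ (mk w) from rfl, hij, map_mul,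
        map_zpow, map_zpow, h.hte, h.htz, (show Commute e (z ^ a) from h.hcomm _ _).mul_zpow,
        ← zpow_mul]
      exact ⟨a * i, by
        rw [mul_assoc, h.hcomm (z ^ (a * i)), ← mul_assoc (e ^ i), inv_mul_cancel_left]⟩
    · rw [← map_mul]
      exact congrArg ι (by simp [restrictChar_apply])
  set LT : Subgroup T := Lh.map (ι.comp W.subtype) with hLT
  have hLTmem : ∀ {w : W}, w ∈ Lh → ι w ∈ LT := fun {w} hw => ⟨w, hw, rfl⟩
  have hcT : ∀ j : ℤ, ι ((c ^ j : W) : E) ∈ Subgroup.center T := by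
    intro j
    refine Subgroup.mem_center_iff.2 fun u => ?_
    have hcj : ((c ^ j : W) : E) ∈ D := by rw [SubgroupClass.coe_zpow]; exact zpow_mem hcD j
    obtain ⟨i, w, δ, hδ, rfl⟩ := hgen' u
    have h1 : Commute gT (ι ((c ^ j : W) : E)) := by
      have := hκι ((c ^ j : W) : E)
      rw [hκD _ hcj] at this
      exact (mul_inv_eq_iff_eq_mul.1 this.symm :)
    have h2 : Commute (ι w * ι δ) (ι ((c ^ j : W) : E)) := by
      rw [← map_mul]
      exact Commute.map (hDcen _ _ hcj) ι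
    exact ((h1.zpow_left i).mul_left h2).eq
  haveI hLTn : LT.Normal := by
    rw [← Subgroup.normalizer_eq_top_iff, eq_top_iff]
    intro u _
    obtain ⟨i, w, δ, hδ, rfl⟩ := hgen' u
    have hmem : ∀ v : T, (∀ l ∈ Lh, ∃ j : ℤ, v * ι l * v⁻¹ = ι l * ι ((c ^ j : W) : E)) →
        v ∈ Subgroup.normalizer (LT : Set T) := by
      intro v hv
      have hle : LT.map (MulAut.conj v).toMonoidHom ≤ LT := by
        rintro _ ⟨_, ⟨l, hl, rfl⟩, rfl⟩
        obtain ⟨j, hj⟩ := hv l hl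
        refine (hj.symm ▸ mul_mem (hLTmem hl) (hLTmem ?_) : v * ι l * v⁻¹ ∈ LT)
        show mk (c ^ j) ∈ Subgroup.zpowers z
        rw [(hmk1 _).2 (zpow_mem (hcl _ _) j)]
        exact one_mem _
      have heq := Subgroup.eq_of_le_of_card_ge hle
        (Subgroup.card_map_of_injective (MulAut.conj v).injective).ge
      refine Subgroup.mem_normalizer_iff.2 fun q => ⟨fun hq => hle ⟨q, hq, rfl⟩, fun hq => ?_⟩
      obtain ⟨q', hq', hqq⟩ := heq.ge hq
      exact (MulAut.conj v).injective hqq ▸ hq'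
    refine mul_mem (zpow_mem (hmem gT fun l hl => ?_) i) (mul_mem (hmem _ fun l hl => ?_) (hmem _ fun l hl => ?_))
    · obtain ⟨i', j', rfl⟩ := hLhmem l hl
      have h1 : (restrictChar W κ zW)⁻¹ * zW ∈ Subgroup.center W := by
        rw [← hmk1, map_mul, map_inv, inv_mul_eq_one]
        show plane W κ (mk zW) = mk zW
        rw [hmk, hzW, h.htz]
      rw [hcgen] at h1
      obtain ⟨j, hj⟩ := h1
      refine ⟨-j * i', ?_⟩
      have h2 : restrictChar W κ (zW ^ i' * c ^ j') = zW ^ i' * c ^ j' * c ^ (-j * i') := by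
        have h3 : restrictChar W κ zW = zW * c ^ (-j) := by
          rw [zpow_neg, show c ^ j = _ from hj, mul_inv_rev, inv_inv, ← mul_assoc, mul_inv_cancel, one_mul]
        have h4 : restrictChar W κ (c ^ j') = c ^ j' := Subtype.ext
          (hκD _ (by rw [SubgroupClass.coe_zpow]; exact zpow_mem hcD j'))
        rw [map_mul, map_zpow, h3, h4, (show Commute zW (c ^ (-j)) from
          Subgroup.mem_center_iff.1 (zpow_mem (hcl _ _) _) _).mul_zpow, ← zpow_mul, mul_assoc,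
          Subgroup.mem_center_iff.1 (zpow_mem (hcl _ _) j') (c ^ (-j * i')), ← mul_assoc]
      rw [← hκι, ← map_mul]
      exact congrArg ι (congrArg Subtype.val h2 :)
    · obtain ⟨i', j', rfl⟩ := hLhmem l hl
      obtain ⟨j, hj⟩ : ∃ j : ℤ, c ^ j = (zW ^ i' * c ^ j')⁻¹ * (w * (zW ^ i' * c ^ j') * w⁻¹) := by
        have h1 : (zW ^ i' * c ^ j')⁻¹ * (w * (zW ^ i' * c ^ j') * w⁻¹) ∈ Subgroup.center W := by
          rw [← hmk1, map_mul, map_mul, map_mul, map_inv, map_inv, h.hcomm (mk w),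
            mul_inv_cancel_right, inv_mul_cancel]
        rw [hcgen] at h1
        exact h1
      refine ⟨j, ?_⟩
      rw [← map_inv, ← map_mul, ← map_mul, ← map_mul]
      refine congrArg ι ?_
      rw [hj]
      simp [mul_assoc]
    · refine ⟨0, ?_⟩
      rw [zpow_zero, Subgroup.coe_one, map_one, mul_one, ← map_inv, ← map_mul, ← map_mul,
        ← hDcen (l : E) δ hδ, mul_inv_cancel_right]
  have hT1 : commutator T ≤ LT := by
    rw [commutator_def, Subgroup.commutator_le]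
    intro u _ v _
    set q := QuotientGroup.mk' LT
    have hmkd : ∀ x : T, x ∈ LT → q x = 1 := fun x hx => (QuotientGroup.eq_one_iff x).2 hx
    have hgw : ∀ w : W, Commute (q gT) (q (ι w)) := fun w => by
      obtain ⟨l, hl, hle⟩ := hκW w
      rw [hκι] at hle
      have := congrArg q hle
      rw [map_mul, map_mul, map_inv, map_mul, hmkd _ (hLTmem hl), mul_one] at this
      exact mul_inv_eq_iff_eq_mul.1 this
    have hgd : ∀ δ ∈ D, Commute gT (ι δ) := fun δ hδ => by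
      have := hκι δ
      rw [hκD δ hδ] at this
      exact mul_inv_eq_iff_eq_mul.1 this.symm
    have hww : ∀ w w' : W, Commute (q (ι w)) (q (ι w')) := fun w w' => by
      rw [commute_iff_eq, ← commutatorElement_eq_one_iff_mul_comm, ← map_commutatorElement,
        ← map_commutatorElement]
      refine hmkd _ (hLTmem (w := ⁅w, w'⁆) ?_)
      show mk ⁅w, w'⁆ ∈ Subgroup.zpowers z
      rw [(hmk1 _).2 (hcl w w')]
      exact one_mem _
    have hyd : ∀ (y : E), ∀ δ ∈ D, Commute (q (ι y)) (q (ι δ)) := fun y δ hδ =>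
      (Commute.map (hDcen y δ hδ) ι).map q
    obtain ⟨i, w, δ, hδ, rfl⟩ := hgen' u
    obtain ⟨i', w', δ', hδ', rfl⟩ := hgen' v
    rw [← QuotientGroup.eq_one_iff]
    show q ⁅_, _⁆ = 1
    rw [map_commutatorElement, commutatorElement_eq_one_iff_mul_comm, map_mul, map_mul, map_mul,
      map_mul, map_zpow, map_zpow]
    refine Commute.mul_left (Commute.zpow_left ?_ i) (Commute.mul_left ?_ ?_)
    · exact (Commute.zpow_right (Commute.refl _) i').mul_right ((hgw w').mul_right ((hgd δ' hδ').map q))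
    · exact (Commute.zpow_right (hgw w).symm i').mul_right ((hww w w').mul_right (hyd _ δ' hδ'))
    · exact (Commute.zpow_right ((hgd δ hδ).map q).symm i').mul_right
        ((hyd _ δ hδ).symm.mul_right (hyd _ δ' hδ'))
  have hT2 : ⁅⁅commutator T, (⊤ : Subgroup T)⁆, (⊤ : Subgroup T)⁆ = ⊥ := by
    rw [Subgroup.commutator_top_right_eq_bot_iff_le_center, Subgroup.commutator_le]
    intro x hx u _
    obtain ⟨l, hl, rfl⟩ := hT1 hx
    show ⁅ι (l : E), u⁆ ∈ Subgroup.center T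
    -- conjugation by `u` fixes `l` modulo the centre
    obtain ⟨i, hi⟩ := hl
    have hu : (u : Ω) ∈ normalizerIn S E := u.2
    set σ := conjAut E (u : Ω) hu.2
    have hσz : plane W σ z = z := by
      obtain ⟨i, w, δ, hδ, rfl⟩ := hgen' u
      have h1 : σ = κ ^ i * (MulAut.conj ((w : E) * δ)) := by
        have hit : ∀ (k : ℤ) (y : E), ι ((κ ^ k) y) = gT ^ k * ι y * (gT ^ k)⁻¹ := by
          intro k
          induction k with
          | zero => simp
          | succ k ih =>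
            intro y; rw [zpow_add_one, MulAut.mul_apply, ih, hκι, zpow_add_one]; group
          | pred k ih =>
            intro y
            have h2 := hκι (κ⁻¹ y)
            rw [MulAut.apply_inv_self] at h2
            rw [zpow_sub_one, MulAut.mul_apply, ih, h2, zpow_sub_one]; group
        refine MulEquiv.ext fun y => Subgroup.inclusion_injective hEN ?_
        show ι (σ y) = ι _
        rw [MulAut.mul_apply, hit, MulAut.conj_apply, map_mul, map_mul, map_mul, map_inv]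
        refine Subtype.ext ?_
        show ((gT ^ i * (ι w * ι δ) : T) : Ω) * (y : Ω) * ((gT ^ i * (ι w * ι δ) : T) : Ω)⁻¹ = _
        simp [mul_assoc, ι]
      rw [h1, map_mul, h.hinn, mul_one, map_zpow]
      exact (zpow_transvection h.htz h.hte i).1
    have h3 : l⁻¹ * restrictChar W σ l ∈ Subgroup.center W := by
      rw [← hmk1, map_mul, map_inv, show mk (restrictChar W σ l) = plane W σ (mk l) from rfl,
        show mk l = z ^ i from hi.symm, map_zpow, hσz, inv_mul_cancel]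
    rw [hcgen] at h3
    obtain ⟨j, hj⟩ := h3
    have h4 : u * ι l * u⁻¹ = ι l * ι ((c ^ j : W) : E) := by
      rw [show c ^ j = _ from hj, ← map_mul]
      refine Subtype.ext ?_
      show (u : Ω) * ((l : E) : Ω) * (u : Ω)⁻¹ = _
      simp [ι, σ, restrictChar_apply]
    have hcomm := Subgroup.mem_center_iff.1 (hcT j)
    have h5 : ⁅ι (l : E), u⁆ = (ι ((c ^ j : W) : E))⁻¹ := by
      rw [commutatorElement_def, mul_assoc (ι (l : E)) u, mul_assoc (ι (l : E))]
      rw [show u * (ι (l : E))⁻¹ * u⁻¹ = (u * ι l * u⁻¹)⁻¹ by group, h4, mul_inv_rev,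
        ← mul_assoc, show ι (l : E) * (ι ((c ^ j : W) : E))⁻¹ = (ι ((c ^ j : W) : E))⁻¹ * ι (l : E)
          from (show Commute (ι (l : E)) (ι ((c ^ j : W) : E)) from hcomm _).inv_right.eq,
        mul_inv_cancel_right]
    rw [h5]
    exact inv_mem (hcT j)
  have hTexp : ∀ x ∈ commutator T, x ^ p = 1 := fun x hx => by
    obtain ⟨l, -, rfl⟩ := hT1 hx
    rw [← map_pow, hWexp, map_one]
  have hmp : ∀ x y : T, (x * y) ^ p = x ^ p * y ^ p := fun x y =>
    CfsgLib.PGroups.mul_pow_of_small_class (Or.inr ⟨by omega, hT2⟩) hTexp x y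
  exact ⟨hcT, hmp⟩

/-- The detecting subgroup is never extraspecial. -/
theorem nonabelian_case (hS : IsPGroup p S) (hp5 : 5 ≤ p) (hr : RankLE2 p S) {F : FusionSystem S}
    {E : Subgroup Ω} (hE : F.IsEssential p E) {W : Subgroup E}
    [W.Characteristic] {g : Ω} {z e : ↥W ⧸ frattini ↥W} {a : ℤ} (h : PlaneData F p E W g z e a)
    (hWna : ¬ IsMulCommutative W) (hWcard : Nat.card W = p ^ 3) : False := by
  have hES : E ≤ S := hE.1.1
  haveI := finite_of_le hES
  obtain ⟨zW, eW, hf⟩ := exists_frame hS hp5 hr hES h hWna hWcard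
  obtain ⟨hκD, d, ψ, e₁, hdz, hdD, hψι, he₁⟩ := exists_torus_ext hS hp5 hES h hf
  obtain ⟨hcT, hmp⟩ := mul_pow_normalizer hp5 hES h hf hκD
  obtain ⟨hzW, heW, hWexp, hcl, hmk1, hcgen, hdecomp, hDo, hDcen, hcD, hLhmem, hAcomm, hAc⟩ := hf
  have hp2 : p ≠ 2 := by omega
  revert ψ hcT hmp
  set c := ⁅eW, zW⁆ with hc
  set D := Subgroup.centralizer (W : Set E) with hD
  set mk := (QuotientGroup.mk' (frattini W)) with hmk
  set Lh := planeLine W z with hLh
  set A := Lh.map W.subtype with hA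
  set T := normalizerIn S E
  intro ψ hψι he₁ hcT hmp
  have hEN : E ≤ T := le_normalizerIn hES
  haveI := finite_of_le (normalizerIn_le S E)
  let ι : E →* T := Subgroup.inclusion hEN
  set gT : T := ⟨g, h.hgS, h.hgN⟩ with hgT
  set κ := conjAut E g h.hgN with hκ
  have hκι : ∀ y : E, ι (κ y) = gT * ι y * gT⁻¹ := fun y => Subtype.ext (conjAut_apply E g h.hgN y)
  have hAW : ∀ u ∈ A, u ∈ W := by rintro _ ⟨u, -, rfl⟩; exact u.2
  -- the `p`-th power of `g` lies in `D`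
  set P₀ : E := ⟨g ^ p, h.hgp⟩ with hP₀
  have hPι : ι P₀ = gT ^ p := Subtype.ext rfl
  obtain ⟨w₀, δ₀, hδ₀, hP⟩ := hdecomp P₀
  have hκw₀ : restrictChar W κ w₀ = w₀ := by
    refine Subtype.ext ?_
    have h1 : κ P₀ = P₀ := Subgroup.inclusion_injective hEN (by
      show ι (κ P₀) = ι P₀
      rw [hκι, hPι]; group)
    rw [hP, map_mul, hκD δ₀ hδ₀] at h1
    exact mul_right_cancel h1
  obtain ⟨i₀, hi₀⟩ : ∃ i : ℤ, mk w₀ = z ^ i := by
    obtain ⟨i, j, hij⟩ := h.hspan (mk w₀)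
    have h1 : plane W κ (mk w₀) = mk w₀ := congrArg mk hκw₀
    rw [hij, map_mul, map_zpow, map_zpow, h.hte, h.htz,
      (show Commute e (z ^ a) from h.hcomm _ _).mul_zpow, ← zpow_mul, mul_assoc, mul_right_inj,
      mul_eq_right] at h1
    have h2 : (p : ℤ) ∣ a * i := by
      have := orderOf_dvd_iff_zpow_eq_one.2 h1
      rwa [orderOf_eq_prime (h.hVexp z) h.hz] at this
    have h3 := (Int.Prime.dvd_mul' hpp.out h2).resolve_left h.ha
    exact ⟨j, by rw [hij, zpow_eq_of_dvd h.hVexp e (i := i) (j := 0) (by simpa using h3), zpow_zero,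
      one_mul]⟩
  obtain ⟨w₁, δ₁, hδ₁, he₁'⟩ := hdecomp e₁
  have he₁p : e₁ ^ p = δ₁ ^ p := by
    rw [he₁', (show Commute (w₁ : E) δ₁ from hDcen _ _ hδ₁).mul_pow, h.hexp _ w₁.2, one_mul]
  have hdP : d P₀ = P₀ ^ 4 * δ₁ ^ p := Subgroup.inclusion_injective hEN (by
    show ι (d P₀) = ι _
    rw [← hψι, hPι, map_pow, he₁, hmp, ← pow_mul, map_mul, map_pow, hPι, ← pow_mul, mul_comm p 4,
      ← he₁p, map_pow])
  have hw₀D : (w₀ : E) ∈ D := by
    rw [hP, map_mul, hdD δ₀ hδ₀, (show Commute (w₀ : E) δ₀ from hDcen _ _ hδ₀).mul_pow] at hdP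
    have h1 : ((w₀ : E) ^ 4)⁻¹ * d w₀ = δ₀ ^ 4 * δ₁ ^ p * δ₀⁻¹ := by
      rw [inv_mul_eq_iff_eq_mul, eq_comm, ← mul_inv_eq_iff_eq_mul.2 hdP.symm]
      group
    have h2 : ((w₀ : E) ^ 4)⁻¹ * d w₀ ∈ D := h1 ▸ mul_mem (mul_mem (pow_mem hδ₀ 4)
      (pow_mem hδ₁ p)) (inv_mem hδ₀)
    have h3 : (w₀ ^ 4)⁻¹ * restrictChar W d w₀ ∈ Subgroup.center W :=
      Subgroup.mem_center_iff.2 fun v => Subtype.ext (by
        exact Subgroup.mem_centralizer_iff.1 h2 v v.2)
    rw [← hmk1, map_mul, map_inv, show mk (restrictChar W d w₀) = plane W d (mk w₀) from rfl,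
      map_pow, hi₀, map_zpow, hdz, ← zpow_natCast (z ^ i₀) 4, ← zpow_mul, ← zpow_mul,
      inv_mul_eq_one, zpow_eq_zpow_iff_modEq, orderOf_eq_prime (h.hVexp z) h.hz,
      Int.modEq_iff_dvd] at h3
    have h4 : (p : ℤ) ∣ 2 * i₀ := by
      obtain ⟨k, hk⟩ := h3
      exact ⟨-k, by push_cast at hk; linarith⟩
    have h5 : (p : ℤ) ∣ i₀ := (Int.Prime.dvd_mul' hpp.out h4).resolve_left fun hh => by
      have := Int.le_of_dvd (by norm_num) hh
      omega
    have h6 : w₀ ∈ Subgroup.center W := by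
      rw [← hmk1, hi₀, zpow_eq_of_dvd h.hVexp z (i := i₀) (j := 0) (by simpa using h5), zpow_zero]
    exact Subgroup.mem_centralizer_iff.2 fun v hv =>
      congrArg Subtype.val (Subgroup.mem_center_iff.1 h6 ⟨v, hv⟩)
  have hPD : P₀ ∈ D := hP ▸ mul_mem hw₀D hδ₀
  obtain ⟨ε, hεD, hε⟩ : ∃ ε ∈ D, ε ^ p = P₀ := by
    rw [hdD P₀ hPD, pow_succ' P₀ 3, mul_assoc, left_eq_mul] at hdP
    have h3p : IsCoprime (3 : ℤ) (p : ℤ) := by
      rw [Int.isCoprime_iff_gcd_eq_one]
      exact_mod_cast (Nat.coprime_primes Nat.prime_three hpp.out).2 (by omega)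
    obtain ⟨u, v, huv⟩ := h3p
    refine ⟨δ₁ ^ (-u) * P₀ ^ v, mul_mem (zpow_mem hδ₁ _) (zpow_mem hPD _), ?_⟩
    rw [(show Commute (δ₁ ^ (-u)) (P₀ ^ v) from hDcen _ _ (zpow_mem hPD _)).mul_pow,
      ← zpow_natCast (δ₁ ^ (-u)) p, ← zpow_natCast (P₀ ^ v) p, ← zpow_mul, ← zpow_mul,
      mul_comm (-u) (p : ℤ), zpow_mul, zpow_natCast δ₁ p, eq_inv_of_mul_eq_one_right hdP,
      inv_zpow', neg_neg, ← zpow_natCast P₀ 3, ← zpow_mul, ← zpow_add]
    rw [show ((3 : ℕ) : ℤ) * u + v * (p : ℤ) = 1 by push_cast; linarith, zpow_one]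
  -- an element of order `p` outside, and too large a rank
  set x : T := gT * (ι ε)⁻¹ with hx
  have hxp : x ^ p = 1 := by
    rw [hx, hmp, inv_pow, ← map_pow, hε, hPι, mul_inv_cancel]
  have hxz : ∃ j : ℤ, x * ι zW * x⁻¹ = ι zW * ι ((c ^ j : W) : E) := by
    have h1 : zW⁻¹ * restrictChar W κ zW ∈ Subgroup.center W := by
      rw [← hmk1, map_mul, map_inv, show mk (restrictChar W κ zW) = plane W κ (mk zW) from rfl,
        hmk, hzW, h.htz, inv_mul_cancel]
    rw [hcgen] at h1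
    obtain ⟨j, hj⟩ := h1
    refine ⟨j, ?_⟩
    have h2 : (ι ε)⁻¹ * ι zW * (ι ε) = ι zW := by
      rw [← map_inv, ← map_mul, ← map_mul, mul_assoc, hDcen (zW : E) ε hεD, inv_mul_cancel_left]
    rw [show c ^ j = _ from hj, ← map_mul]
    calc x * ι zW * x⁻¹ = gT * ((ι ε)⁻¹ * ι zW * (ι ε)) * gT⁻¹ := by rw [hx]; group
      _ = ι (κ zW) := by rw [h2, hκι]
      _ = _ := congrArg ι (by simp [restrictChar_apply])
  obtain ⟨j, hj⟩ := hxz
  set x' : T := x * ι ((eW ^ (-j) : W) : E) with hx'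
  have hx'p : x' ^ p = 1 := by
    rw [hx', hmp, hxp, one_mul, ← map_pow, h.hexp _ (eW ^ (-j)).2, map_one]
  have hx'z : x' * ι zW = ι zW * x' := by
    have h1 : ((eW ^ (-j) : W) : E) * zW * ((eW ^ (-j) : W) : E)⁻¹ = ((c ^ (-j) : W) : E) * zW :=
      congrArg Subtype.val (zpow_commutator_of_center hcl eW zW (-j))
    have h2 : x' * ι zW * x'⁻¹ = ι zW := by
      calc x' * ι zW * x'⁻¹
          = x * (ι ((eW ^ (-j) : W) : E) * ι zW * (ι ((eW ^ (-j) : W) : E))⁻¹) * x⁻¹ := by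
            rw [hx']; group
        _ = x * (ι ((c ^ (-j) : W) : E) * ι zW) * x⁻¹ := by
            rw [← map_inv, ← map_mul, ← map_mul, h1, map_mul]
        _ = ι ((c ^ (-j) : W) : E) * (x * ι zW * x⁻¹) := by
            rw [← mul_assoc x, Subgroup.mem_center_iff.1 (hcT (-j)) x]
            simp only [mul_assoc]
            rfl
        _ = ι zW * (ι ((c ^ (-j) : W) : E) * ι ((c ^ j : W) : E)) := by
            rw [hj, ← mul_assoc, ← Subgroup.mem_center_iff.1 (hcT (-j)) (ι zW), mul_assoc]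
        _ = ι zW := by
            rw [← map_mul, ← Subgroup.coe_mul, ← zpow_add, neg_add_cancel, zpow_zero,
              Subgroup.coe_one, map_one, mul_one]
    exact mul_inv_eq_iff_eq_mul.1 h2
  have hrT : RankLE2 p T := hr.of_injective (Subgroup.inclusion (normalizerIn_le S E))
    (Subgroup.inclusion_injective _)
  have hmem : x' ∈ A.map ι := by
    refine hrT.mem_of_commute ?_ ?_ ?_ hx'p ?_
    · rintro _ ⟨u, hu, rfl⟩ _ ⟨v, hv, rfl⟩
      rw [← map_mul, ← map_mul, hAcomm u hu v hv]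
    · rintro _ ⟨u, hu, rfl⟩
      rw [← map_pow, h.hexp u (hAW u hu), map_one]
    · rw [Subgroup.card_map_of_injective (Subgroup.inclusion_injective hEN), hAc]
    · rintro _ ⟨_, ⟨l, hl, rfl⟩, rfl⟩
      obtain ⟨i, j', rfl⟩ := hLhmem l hl
      show ι ((zW ^ i * c ^ j' : W) : E) * x' = x' * ι ((zW ^ i * c ^ j' : W) : E)
      rw [Subgroup.coe_mul, map_mul, SubgroupClass.coe_zpow zW, map_zpow]
      exact (Commute.mul_left ((show Commute (ι zW) x' from hx'z.symm).zpow_left i)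
        (show Commute (ι ((c ^ j' : W) : E)) x' from (Subgroup.mem_center_iff.1 (hcT j') x').symm)).eq
  obtain ⟨u, -, hu⟩ := hmem
  apply h.hgE
  have h7 : gT = ι (u * ((eW ^ (-j) : W) : E)⁻¹ * ε) := by
    rw [map_mul, map_mul, map_inv, hu, hx', hx]
    group
  have h8 : g = ((u * ((eW ^ (-j) : W) : E)⁻¹ * ε : E) : Ω) := congrArg Subtype.val h7
  rw [h8]
  exact SetLike.coe_mem _

end CfsgLib.FusionModels.RankTwo
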