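/-
p-groups of p-rank two, p at least 5, other than the extraspecial group of order p^3 and exponent p,
are resistant.
-/
import Cfsg.Agent.Lib.FusionModels.RankTwoExtraspecial
import Cfsg.Agent.Lib.FusionModels.MaxClassEssential
import Cfsg.Agent.Lib.FusionExamples.Basic

set_option autoImplicit false
set_option linter.style.haveILetI false
set_option linter.unusedSectionVars false

open scoped commutatorElement

namespace CfsgLib.FusionModels.RankTwo

open Cfsg Cfsg.FusionSystem CfsgLib.Alperin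

variable {Ω : Type*} [Group Ω] {S : Subgroup Ω} [Finite S] {p : ℕ} [hpp : Fact p.Prime]

/-- An essential subgroup is an elementary abelian pearl. -/
theorem essential_shape (hS : IsPGroup p S) (hp5 : 5 ≤ p) (hr : RankLE2 p S) {F : FusionSystem S}
    (hF : F.IsSaturated p) {E : Subgroup Ω} (hE : F.IsEssential p E) :
    Nat.card E = p ^ 2 ∧ (∀ y ∈ E, y ^ p = 1) ∧ IsMulCommutative ↥E ∧
      ∃ (W : Subgroup E) (_ : W.Characteristic) (g : Ω) (z e : ↥W ⧸ frattini ↥W) (a : ℤ),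
        PlaneData F p E W g z e a ∧ W = ⊤ ∧ frattini ↥W = ⊥ ∧
          ∃ x ∈ normalizerIn S E, x ∉ E ∧ x ^ p = 1 := by
  have hES := hE.1.1
  haveI := finite_of_le hES
  obtain ⟨W, hWc, g, z, e, a, hd⟩ := exists_planeData hS (by omega) hr hF hE
  haveI := hWc
  rcases hd.hcase with ⟨hcomm, hcard⟩ | ⟨hna, hcard⟩
  · obtain ⟨hW, hx⟩ := abelian_case hS hp5 hr hF hE hd hcomm hcard
    haveI := hcomm
    have hΦ : frattini W = ⊥ := frattini_of_isMulCommutative
      ((isPGroup_of_le hS hES).to_subgroup W) fun w => Subtype.ext (hd.hexp _ w.2)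
    have hmem : ∀ y : E, y ∈ W := fun y => hW.ge (Subgroup.mem_top y)
    refine ⟨?_, fun y hy => congrArg Subtype.val (hd.hexp ⟨y, hy⟩ (hmem _)), ⟨⟨fun u v => ?_⟩⟩,
      W, hWc, g, z, e, a, hd, hW, hΦ, hx⟩
    · rw [← hcard, hW, Subgroup.card_top]
    · exact congrArg Subtype.val (mul_comm' (⟨u, hmem u⟩ : W) ⟨v, hmem v⟩)
  · exact absurd (nonabelian_case hS hp5 hr hE hd hna hcard) not_false

/-- In a group of maximal class of order at least `p ^ 5`, the elementary abelian rank is at least 3. -/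
theorem not_five_le {G : Type*} [Group G] [Finite G] {n : ℕ} (h : MaxClassP.MC p n G) (hp5 : 5 ≤ p)
    (hr : RankLE2 p G) : n ≤ 4 := by
  by_contra hn
  obtain ⟨s, hs, -⟩ := MaxClassP.exists_small h ⊥ (fun hb => by
    have h1 := h.card
    rw [← Subgroup.card_top, ← hb, Subgroup.card_bot] at h1
    exact absurd h1.symm (Nat.one_lt_pow (by omega) hpp.out.one_lt).ne')
  have hcomm : ∀ u ∈ MaxClassP.L G (n - 4), ∀ v ∈ MaxClassP.L G (n - 4), u * v = v * u := by
    intro u hu v hv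
    rcases Nat.lt_or_ge n 6 with hn5 | hn6
    · obtain rfl : n = 5 := by omega
      obtain ⟨y, hy, hy'⟩ := Set.exists_of_ssubset
        (show (MaxClassP.L G 2 : Set G) ⊂ (MaxClassP.L G 1 : Set G) from
          MaxClassP.L_succ_lt h (by omega))
      rw [MaxClassP.layer_eq h le_rfl (by omega) hy hy', Subgroup.mem_sup_of_normal_right] at hu hv
      obtain ⟨_, ⟨i, rfl⟩, u₂, hu₂, rfl⟩ := hu
      obtain ⟨_, ⟨j, rfl⟩, v₂, hv₂, rfl⟩ := hv
      have hz : ∀ {u v : G}, u ∈ MaxClassP.L G 1 → v ∈ MaxClassP.L G 2 → Commute u v :=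
        fun {u v} hu hv => commutatorElement_eq_one_iff_mul_comm.1 (Subgroup.mem_bot.1
          (MaxClassP.L_eq_bot h (j := 1 + 2 + 1) (by omega) ▸ MaxClassP.commutator_mem hu hv))
      have hL12 : MaxClassP.L G 2 ≤ MaxClassP.L G 1 := MaxClassP.L_mono (by omega)
      exact (((((Commute.refl y).zpow_zpow i j).mul_right (hz (zpow_mem hy i) hv₂)).mul_left
        (((hz (zpow_mem hy j) hu₂).symm).mul_right (hz (hL12 hu₂) hv₂)))).eq
    · exact commutatorElement_eq_one_iff_mul_comm.1 (Subgroup.mem_bot.1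
        (MaxClassP.L_eq_bot h (j := n - 4 + (n - 4) + 1) (by omega) ▸ MaxClassP.commutator_mem hu hv))
  have hexp : ∀ u ∈ MaxClassP.L G (n - 4), u ^ p = 1 := fun u hu => Subgroup.mem_bot.1
    (MaxClassP.L_eq_bot h (j := n - 4 + p - 1) (by omega) ▸
      (MaxClassP.pow_layer h hs (n - 4) (by omega) u hu).1)
  have h1 := hr _ hcomm hexp
  rw [MaxClassP.card_L h (by omega) (by omega)] at h1
  have := (Nat.pow_le_pow_iff_right hpp.out.one_lt).1 h1
  omega

theorem mem_L_of_aut {G : Type*} [Group G] (σ : MulAut G) {j : ℕ} {x : G}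
    (hx : x ∈ MaxClassP.L G j) : σ x ∈ MaxClassP.L G j := by
  have h := Subgroup.map_lowerCentralSeries (⊤ : Subgroup G) σ.toMonoidHom j
  rw [Subgroup.map_top_of_surjective _ σ.surjective] at h
  exact h.le ⟨x, hx, rfl⟩

set_option maxHeartbeats 1600000 in
/-- No essential subgroup. -/
theorem not_isEssential (hS : IsPGroup p S) (hp5 : 5 ≤ p) (hr : RankLE2 p S)
    (hnotE : ¬ (Nat.card S = p ^ 3 ∧ Monoid.exponent ↥S = p)) {F : FusionSystem S}
    (hF : F.IsSaturated p) (E : Subgroup Ω) : ¬ F.IsEssential p E := by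
  intro hE
  have hES := hE.1.1
  haveI := finite_of_le hES
  have hp2 : p ≠ 2 := by omega
  obtain ⟨hEc, hEexp, hEcomm, W, hWc, g, z, e, a, hd, hW, hΦ, x, hxN, hxE, hxp⟩ :=
    essential_shape hS hp5 hr hF hE
  haveI := hWc
  haveI := hEcomm
  obtain ⟨n, hmc, -⟩ := Pearl.exists_mc_of_pearl hS hF hE (Or.inl ⟨hEc, fun y hy => ⟨hEexp y hy, hEcomm⟩⟩)
  have hn3 := hmc.three_le
  have hn4 := not_five_le hmc hp5 hr
  set T := normalizerIn S E with hT
  have hTS : T ≤ S := normalizerIn_le S E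
  haveI := finite_of_le hTS
  have hEN : E ≤ T := le_normalizerIn hES
  have hgT : g ∈ T := ⟨hd.hgS, hd.hgN⟩
  haveI hEn : (E.subgroupOf T).Normal := ⟨fun u hu v => mem_normalizer_conj (hd.hN v v.2) hu⟩
  -- the normalizer has order `p ^ 3` and exponent `p`
  have hTi : (E.subgroupOf T).index = p := by
    rw [Subgroup.index_eq_card]
    set q := QuotientGroup.mk' (E.subgroupOf T)
    have htop : Subgroup.zpowers (q ⟨g, hgT⟩) = ⊤ := by
      refine (Subgroup.eq_top_iff' _).2 fun v => ?_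
      obtain ⟨u, rfl⟩ := QuotientGroup.mk'_surjective _ v
      obtain ⟨i, hi⟩ := hd.hT u u.2
      refine ⟨i, ?_⟩
      show q ⟨g, hgT⟩ ^ i = q u
      rw [← map_zpow, QuotientGroup.mk'_eq_mk']
      exact ⟨_, (show (⟨g, hgT⟩ ^ i)⁻¹ * u ∈ E.subgroupOf T from hi), mul_inv_cancel_left _ _⟩
    rw [← Subgroup.card_top, ← htop, Nat.card_zpowers]
    refine orderOf_eq_prime ?_ fun h1 => hd.hgE ?_
    · rw [← map_pow]; exact (QuotientGroup.eq_one_iff _).2 hd.hgp
    · exact (QuotientGroup.eq_one_iff (⟨g, hgT⟩ : T)).1 h1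
  have hTc : Nat.card T = p ^ 3 := by
    rw [← (E.subgroupOf T).card_mul_index, hTi,
      Nat.card_congr (Subgroup.subgroupOfEquivOfLe hEN).toEquiv, hEc, ← pow_succ]
  have hTna : ¬ IsMulCommutative T := fun hh => by
    haveI := hh
    refine hd.hgE (hE.1.2 E (isConj_refl F hES) ⟨hd.hgS, Subgroup.mem_centralizer_iff.2 fun y hy => ?_⟩)
    exact congrArg Subtype.val (mul_comm' (⟨y, hEN hy⟩ : T) ⟨g, hgT⟩)
  obtain ⟨hTZ, -, hTcom⟩ := Pearl.cube_facts hTc hTna
  have hTcl : ⁅commutator T, (⊤ : Subgroup T)⁆ = ⊥ := by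
    rw [Subgroup.commutator_top_right_eq_bot_iff_le_center, hTcom]
  have hTexp : ∀ u : T, u ^ p = 1 := by
    intro u
    refine CfsgLib.PGroups.pow_eq_one_of_mem_omega (Or.inl ⟨hp2, hTcl⟩) ?_
    have htop : Subgroup.closure {v : T | v ^ p = 1} = ⊤ := by
      have hle : E.subgroupOf T ≤ Subgroup.closure {v : T | v ^ p = 1} := fun v hv =>
        Subgroup.subset_closure (Subtype.ext (hEexp _ hv))
      have hxm : (⟨x, hxN⟩ : T) ∈ Subgroup.closure {v : T | v ^ p = 1} :=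
        Subgroup.subset_closure (Subtype.ext hxp)
      have hlt : E.subgroupOf T < Subgroup.closure {v : T | v ^ p = 1} :=
        lt_of_le_of_ne hle fun he => hxE (he.ge hxm)
      refine Subgroup.index_eq_one.1 ?_
      rcases hpp.out.eq_one_or_self_of_dvd _ (hTi ▸ Subgroup.index_dvd_of_le hle) with h1 | h1
      · exact h1
      · exfalso
        refine hlt.ne (Subgroup.eq_of_le_of_card_ge hle ?_)
        have h2 := (E.subgroupOf T).card_mul_index
        have h3 := (Subgroup.closure {v : T | v ^ p = 1}).card_mul_index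
        rw [hTi] at h2
        rw [h1, ← h2] at h3
        exact (Nat.eq_of_mul_eq_mul_right hpp.out.pos h3).le
    exact htop.ge (Subgroup.mem_top u)
  rcases (show n = 3 ∨ n = 4 by omega) with rfl | rfl
  · have hTeq : T = S := Subgroup.eq_of_le_of_card_ge hTS (by rw [hmc.card, hTc])
    haveI : Nontrivial S := Finite.one_lt_card_iff_nontrivial.mp
      (hmc.card ▸ Nat.one_lt_pow (by omega) hpp.out.one_lt)
    refine hnotE ⟨hmc.card, (Monoid.exponent_eq_prime_iff hpp.out).2 fun u hu => ?_⟩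
    exact orderOf_eq_prime (Subtype.ext (congrArg Subtype.val (hTexp ⟨u, hTeq.ge u.2⟩) :)) hu
  -- order `p ^ 4`
  have hTlt : T < S := lt_of_le_of_ne hTS fun he => by
    have h1 := hmc.card
    rw [← he, hTc] at h1
    exact absurd (Nat.pow_right_injective hpp.out.two_le h1) (by omega)
  have hTN : normalizerIn S T = S := by
    refine Subgroup.eq_of_le_of_card_ge (normalizerIn_le S T) ?_
    haveI := finite_of_le (normalizerIn_le S T)
    obtain ⟨k, hk⟩ := IsPGroup.iff_card.mp (isPGroup_of_le hS (normalizerIn_le S T))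
    have h1 : Nat.card T < Nat.card (normalizerIn S T) := lt_of_le_of_ne
      (Subgroup.card_le_of_le (le_normalizerIn hTS)) fun he =>
        (lt_normalizerIn hS hTlt).ne (Subgroup.eq_of_le_of_card_ge (le_normalizerIn hTS) he.ge)
    rw [hTc, hk] at h1
    rw [hmc.card, hk]
    exact Nat.pow_le_pow_right hpp.out.pos ((Nat.pow_lt_pow_iff_right hpp.out.one_lt).1 h1)
  have hTn : F.IsFullyNormalized T :=
    isFullyNormalized_of_le_normalizer F hTS fun u hu => (hTN.ge hu).2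
  have hText : extendableAut F T = F.autGroup T := by
    by_contra hne
    have h1 := (essential_shape hS hp5 hr hF (essential_of_extendableAut_ne hS hF hTlt hTn hne)).1
    rw [hTc] at h1
    exact absurd (Nat.pow_right_injective hpp.out.two_le h1) (by omega)
  -- the torus extends to `S`
  obtain ⟨m, hm⟩ : ∃ m : ℕ, 2 * m = p + 1 := by
    obtain ⟨k, hk⟩ := hpp.out.odd_of_ne_two hp2
    exact ⟨k + 1, by omega⟩
  have hm' : (2 : ℤ) * (m : ℤ) = (p : ℤ) + 1 := by exact_mod_cast hm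
  obtain ⟨d, hdF, -, hdz, hde⟩ := hd.htorus 2 (m : ℤ) ⟨1, by linarith⟩
  obtain ⟨ψ, hψ, hψE, hψg⟩ := hd.hextend d hdF 2 (m : ℤ) 4 hdz hde ⟨2, by push_cast; linarith⟩
  obtain ⟨Φ, hΦx⟩ : ∃ Φ : MulAut S, ∀ u : T, Φ ⟨u, hTS u.2⟩ = ⟨(ψ u : T), hTS (ψ u).2⟩ := by
    let K : Subgroup (MulAut T) :=
      { carrier := {σ | ∃ Φ : MulAut S, ∀ u : T, Φ ⟨u, hTS u.2⟩ = ⟨(σ u : T), hTS (σ u).2⟩}
        one_mem' := ⟨1, fun u => rfl⟩
        mul_mem' := by
          rintro σ τ ⟨A, hA⟩ ⟨B, hB⟩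
          exact ⟨A * B, fun u => by rw [MulAut.mul_apply, hB, hA]; rfl⟩
        inv_mem' := by
          rintro σ ⟨A, hA⟩
          refine ⟨A⁻¹, fun u => A.injective ?_⟩
          rw [MulAut.apply_inv_self, hA]
          exact Subtype.ext (congrArg (fun q : T => (q : Ω)) (MulAut.apply_inv_self _ σ u).symm) }
    have hK : extendableAut F T ≤ K := by
      refine (Subgroup.closure_le K).2 ?_
      rintro σ ⟨Q, hTQ, χ, hχ, hχx⟩
      have hQS : Q = S := by
        refine Subgroup.eq_of_le_of_card_ge (dom_le hχ) ?_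
        haveI := finite_of_le (dom_le hχ)
        obtain ⟨k, hk⟩ := IsPGroup.iff_card.mp (isPGroup_of_le hS (dom_le hχ))
        have h1 : Nat.card T < Nat.card Q := lt_of_le_of_ne (Subgroup.card_le_of_le hTQ.le)
          fun he => hTQ.ne (Subgroup.eq_of_le_of_card_ge hTQ.le he.ge)
        rw [hTc, hk] at h1
        rw [hmc.card, hk]
        exact Nat.pow_le_pow_right hpp.out.pos ((Nat.pow_lt_pow_iff_right hpp.out.one_lt).1 h1)
      subst hQS
      obtain ⟨A, -, hA⟩ := exists_aut_of_hom' F hχ fun u => apply_mem hχ u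
      exact ⟨A, fun u => Subtype.ext ((hA _).trans (hχx u))⟩
    exact hK (hText.ge hψ)
  -- representatives of the plane in `S`
  set G := (↥S)
  obtain ⟨zW, hzW⟩ := QuotientGroup.mk'_surjective (frattini W) z
  obtain ⟨eW, heW⟩ := QuotientGroup.mk'_surjective (frattini W) e
  have hinj : ∀ {u v : W}, QuotientGroup.mk' (frattini W) u = QuotientGroup.mk' (frattini W) v →
      u = v := fun {u v} huv => by
    have h1 := QuotientGroup.eq.1 (huv : (QuotientGroup.mk u : ↥W ⧸ frattini W) = QuotientGroup.mk v)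
    rw [hΦ, Subgroup.mem_bot, inv_mul_eq_one] at h1
    exact h1
  let j : E →* S := Subgroup.inclusion hES
  have hjinj : Function.Injective j := Subgroup.inclusion_injective hES
  set zs : S := j zW
  set es : S := j eW
  set gs : S := ⟨g, hd.hgS⟩
  have hΦE : ∀ y : E, Φ (j y) = j (d y) := fun y => by
    refine Eq.trans (hΦx ⟨(y : Ω), hEN y.2⟩) (Subtype.ext ?_)
    exact hψE y (hEN y.2)
  have hΦz : Φ zs = zs ^ (2 : ℤ) := by
    rw [hΦE, ← map_zpow, ← SubgroupClass.coe_zpow]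
    refine congrArg j (congrArg Subtype.val (hinj (u := restrictChar W d zW) (v := zW ^ (2 : ℤ)) ?_) :)
    rw [map_zpow, hzW, ← hdz, ← hzW]; rfl
  have hΦe : Φ es = es ^ (m : ℤ) := by
    rw [hΦE, ← map_zpow, ← SubgroupClass.coe_zpow]
    refine congrArg j (congrArg Subtype.val (hinj (u := restrictChar W d eW) (v := eW ^ (m : ℤ)) ?_) :)
    rw [map_zpow, heW, ← hde, ← heW]; rfl
  have hspanE : ∀ y : E, ∃ i k : ℤ, j y = es ^ i * zs ^ k := fun y => by
    obtain ⟨i, k, hik⟩ := hd.hspan (QuotientGroup.mk' (frattini W) ⟨y, hW.ge (Subgroup.mem_top y)⟩)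
    refine ⟨i, k, ?_⟩
    rw [← map_zpow, ← map_zpow, ← map_mul, ← SubgroupClass.coe_zpow, ← SubgroupClass.coe_zpow,
      ← Subgroup.coe_mul]
    refine congrArg j (congrArg Subtype.val (hinj (u := ⟨y, hW.ge (Subgroup.mem_top y)⟩)
      (v := eW ^ i * zW ^ k) ?_) :)
    rw [hik, map_mul, map_zpow, map_zpow, heW, hzW]
  set L1 := MaxClassP.L S 1 with hL1
  set L2 := MaxClassP.L S 2 with hL2
  -- the centralizer of `g` in `E` is `⟨zs⟩`
  have hfix : ∀ y : E, Commute gs (j y) → j y ∈ Subgroup.zpowers zs := by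
    intro y hy
    obtain ⟨i, k, hik⟩ := hspanE y
    have h1 : plane W (conjAut E g hd.hgN) (QuotientGroup.mk' (frattini W) ⟨y, hW.ge (Subgroup.mem_top y)⟩)
        = QuotientGroup.mk' (frattini W) ⟨y, hW.ge (Subgroup.mem_top y)⟩ := by
      refine congrArg (QuotientGroup.mk' (frattini W)) (Subtype.ext (Subtype.ext ?_))
      show g * (y : Ω) * g⁻¹ = y
      have h2 : g * (y : Ω) = y * g := congrArg Subtype.val hy.eq
      rw [h2, mul_inv_cancel_right]
    have h3 : QuotientGroup.mk' (frattini W) ⟨y, hW.ge (Subgroup.mem_top y)⟩ = e ^ i * z ^ k := by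
      rw [← heW, ← hzW, ← map_zpow, ← map_zpow, ← map_mul]
      refine congrArg _ (Subtype.ext (hjinj ?_))
      rw [Subgroup.coe_mul, map_mul, SubgroupClass.coe_zpow, SubgroupClass.coe_zpow, map_zpow, map_zpow]
      exact hik
    rw [h3, map_mul, map_zpow, map_zpow, hd.hte, hd.htz,
      (show Commute e (z ^ a) from hd.hcomm _ _).mul_zpow, ← zpow_mul, mul_assoc, mul_right_inj,
      mul_eq_right] at h1
    have h4 : (p : ℤ) ∣ a * i := by
      have := orderOf_dvd_iff_zpow_eq_one.2 h1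
      rwa [orderOf_eq_prime (hd.hVexp z) hd.hz] at this
    have h5 := (Int.Prime.dvd_mul' hpp.out h4).resolve_left hd.ha
    have hes : es ^ i = 1 := by
      obtain ⟨q, rfl⟩ := h5
      rw [zpow_mul, zpow_natCast, show es ^ p = 1 from Subtype.ext (hEexp _ (eW : E).2), one_zpow]
    rw [hik, hes, one_mul]
    exact ⟨k, rfl⟩
  have hz2 : zs ∈ L2 ∧ L2 = Subgroup.zpowers zs := by
    have hc2 : Nat.card L2 = p := by
      rw [hL2, MaxClassP.card_L hmc (by omega) (by omega), show 4 - 1 - 2 = 1 from rfl, pow_one]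
    have hle : L2 ≤ Subgroup.zpowers zs := by
      intro u hu
      have huc : ∀ v : S, v * u = u * v := Subgroup.mem_center_iff.1
        (MaxClassP.L_last_le_center hmc (show u ∈ MaxClassP.L S (4 - 2) from hu))
      have huE : (u : Ω) ∈ E := hE.1.2 E (isConj_refl F hES) ⟨u.2, Subgroup.mem_centralizer_iff.2
        fun y hy => congrArg Subtype.val (huc ⟨y, hES hy⟩)⟩
      exact hfix ⟨u, huE⟩ (huc gs)
    have hzo : Nat.card (Subgroup.zpowers zs) ≤ p := by
      rw [Nat.card_zpowers]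
      exact Nat.le_of_dvd hpp.out.pos (orderOf_dvd_of_pow_eq_one (Subtype.ext (hEexp _ (zW : E).2)))
    have heq := Subgroup.eq_of_le_of_card_ge hle (by rw [hc2]; exact hzo)
    exact ⟨heq ▸ Subgroup.mem_zpowers zs, heq⟩
  have hL1T : ∀ u ∈ L1, (u : Ω) ∈ T := by
    haveI : (T.subgroupOf S).Normal := ⟨fun u hu v => mem_normalizer_conj (hTN.ge v.2).2 hu⟩
    have h1 : (T.subgroupOf S).index = p := by
      have h2 := (T.subgroupOf S).card_mul_index
      rw [Nat.card_congr (Subgroup.subgroupOfEquivOfLe hTS).toEquiv, hTc, hmc.card, pow_succ p 3] at h2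
      exact Nat.eq_of_mul_eq_mul_left (pow_pos hpp.out.pos _) h2
    have h3 : frattini S ≤ T.subgroupOf S :=
      frattini_le_coatom (TwoGroups.isCoatom_of_index_prime (h1 ▸ hpp.out))
    rw [MaxClassP.frattini_eq hmc] at h3
    exact fun u hu => h3 hu
  have hL21 : L2 ≤ L1 := MaxClassP.L_mono (by omega)
  have hL1c : Nat.card L1 = p ^ 2 := by
    rw [hL1, MaxClassP.card_L hmc le_rfl (by omega)]
  have hzo : orderOf zs = p := by
    rw [← Nat.card_zpowers, ← hz2.2, hL2, MaxClassP.card_L hmc (by omega) (by omega),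
      show 4 - 1 - 2 = 1 from rfl, pow_one]
  have heL : es ∉ L1 := by
    intro hh
    have hle : j.range ≤ L1 := by
      rintro _ ⟨y, rfl⟩
      obtain ⟨i, k, hik⟩ := hspanE y
      rw [hik]
      exact mul_mem (zpow_mem hh i) (zpow_mem (hL21 hz2.1) k)
    have heq : j.range = L1 := Subgroup.eq_of_le_of_card_ge hle (by
      rw [hL1c, Nat.card_congr (MonoidHom.ofInjective hjinj).toEquiv.symm, hEc])
    refine hTlt.not_ge fun v hv => ⟨hv, ?_⟩
    have hle' : E.map (MulAut.conj v).toMonoidHom ≤ E := by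
      rintro _ ⟨y, hy, rfl⟩
      have h1 : (⟨v, hv⟩ : S) * j ⟨y, hy⟩ * (⟨v, hv⟩ : S)⁻¹ ∈ j.range := by
        rw [heq]
        exact (inferInstance : L1.Normal).conj_mem _ (heq ▸ ⟨_, rfl⟩) _
      obtain ⟨y', hy'⟩ := h1
      show v * y * v⁻¹ ∈ E
      have hy'' : (y' : Ω) = v * y * v⁻¹ := congrArg Subtype.val hy'
      exact hy'' ▸ y'.2
    have heq' := Subgroup.eq_of_le_of_card_ge hle'
      (Subgroup.card_map_of_injective (MulAut.conj v).injective).ge
    refine Subgroup.mem_normalizer_iff.2 fun q => ⟨fun hq => hle' ⟨q, hq, rfl⟩, fun hq => ?_⟩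
    obtain ⟨q', hq', hqq⟩ := heq'.ge hq
    exact (MulAut.conj v).injective hqq ▸ hq'
  have hpe : ∀ i : ℤ, es ^ i ∈ L1 → (p : ℤ) ∣ i := by
    intro i hi
    by_contra hdv
    obtain ⟨u, v, huv⟩ : IsCoprime i p :=
      (((Nat.prime_iff_prime_int.1 hpp.out).coprime_iff_not_dvd).2 hdv).symm
    have h1 := L1.zpow_mem hi u
    have hesp : es ^ (p : ℤ) = 1 := by
      rw [zpow_natCast]; exact Subtype.ext (hEexp _ (eW : E).2)
    rw [← zpow_mul, show i * u = 1 + (p : ℤ) * (-v) by linarith, zpow_add, zpow_one, zpow_mul, hesp,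
      one_zpow, mul_one] at h1
    exact heL h1
  have hEL : ∀ y : E, j y ∈ L1 → j y ∈ L2 := by
    intro y hy
    obtain ⟨i, k, hik⟩ := hspanE y
    rw [hik] at hy ⊢
    have h1 : es ^ i = 1 := by
      obtain ⟨q, rfl⟩ := hpe i ((L1.mul_mem_cancel_right (zpow_mem (hL21 hz2.1) k)).1 hy)
      rw [zpow_mul, zpow_natCast, show es ^ p = 1 from Subtype.ext (hEexp _ (eW : E).2), one_zpow]
    rw [h1, one_mul]
    exact zpow_mem hz2.1 k
  -- an element of `L1` in the coset `E g`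
  obtain ⟨y₀, l, hl, hgl⟩ : ∃ y₀ : E, ∃ l ∈ L1, gs = j y₀ * l := by
    have hle : j.range ⊔ L1 ≤ T.subgroupOf S := sup_le (by rintro _ ⟨y, rfl⟩; exact hEN y.2) hL1T
    have hKeq : j.range ⊔ L1 = T.subgroupOf S := by
      refine Subgroup.eq_of_le_of_card_ge hle ?_
      rw [Nat.card_congr (Subgroup.subgroupOfEquivOfLe hTS).toEquiv, hTc]
      obtain ⟨k, hk⟩ := IsPGroup.iff_card.mp (hS.to_subgroup (j.range ⊔ L1))
      have h1 : Nat.card L1 < Nat.card (j.range ⊔ L1 : Subgroup S) := lt_of_le_of_ne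
        (Subgroup.card_le_of_le le_sup_right) fun he => heL
          ((Subgroup.eq_of_le_of_card_ge (le_sup_right : L1 ≤ j.range ⊔ L1) he.ge).ge
            (Subgroup.mem_sup_left ⟨_, rfl⟩))
      rw [hL1c, hk] at h1
      rw [hk]
      exact Nat.pow_le_pow_right hpp.out.pos ((Nat.pow_lt_pow_iff_right hpp.out.one_lt).1 h1)
    have hg := hKeq.ge (show gs ∈ T.subgroupOf S from hgT)
    rw [Subgroup.mem_sup_of_normal_right] at hg
    obtain ⟨_, ⟨y, rfl⟩, l, hl, h⟩ := hg
    exact ⟨y, l, hl, h.symm⟩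
  have hl2 : l ∉ L2 := fun hh => hd.hgE (by
    rw [hz2.2] at hh
    obtain ⟨k, hk⟩ := hh
    have h1 : (gs : Ω) = ((y₀ * (zW : E) ^ k : E) : Ω) := by
      have h2 : gs = j (y₀ * (zW : E) ^ k) := by
        rw [hgl, map_mul, map_zpow]
        exact congrArg (j y₀ * ·) hk.symm
      exact congrArg Subtype.val h2
    show g ∈ E
    rw [show g = ((y₀ * (zW : E) ^ k : E) : Ω) from h1]
    exact (y₀ * (zW : E) ^ k : E).2)
  have hΦl : (l ^ 4)⁻¹ * Φ l ∈ L2 := by
    have hlT : (l : Ω) ∈ T := hL1T l hl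
    set q := QuotientGroup.mk' (E.subgroupOf T)
    have h1 : q ⟨g, hgT⟩ = q ⟨(l : Ω), hlT⟩ := by
      have h2 : (⟨g, hgT⟩ : T) = ⟨(y₀ : Ω), hEN y₀.2⟩ * ⟨(l : Ω), hlT⟩ :=
        Subtype.ext (congrArg Subtype.val hgl :)
      rw [h2, map_mul, (QuotientGroup.eq_one_iff _).2 y₀.2 |> (fun h => show q ⟨(y₀ : Ω), hEN y₀.2⟩ = 1 from h),
        one_mul]
    have h3 : q (ψ ⟨(l : Ω), hlT⟩) = q ⟨(l : Ω), hlT⟩ ^ 4 := by
      have h2 : (⟨(l : Ω), hlT⟩ : T) = ⟨(y₀ : Ω), hEN y₀.2⟩⁻¹ * ⟨g, hgT⟩ :=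
        Subtype.ext (by
          show (l : Ω) = (y₀ : Ω)⁻¹ * g
          rw [show g = (y₀ : Ω) * (l : Ω) from congrArg Subtype.val hgl, inv_mul_cancel_left])
      have h4 : q (ψ ⟨(y₀ : Ω), hEN y₀.2⟩) = 1 := (QuotientGroup.eq_one_iff _).2 (by
        show ((ψ ⟨(y₀ : Ω), hEN y₀.2⟩ : T) : Ω) ∈ E
        rw [hψE]; exact (d y₀).2)
      have h5 : q (ψ ⟨g, hgT⟩) = q ⟨g, hgT⟩ ^ 4 := by
        rw [← map_pow, eq_comm, QuotientGroup.mk'_eq_mk']
        exact ⟨((⟨g, hgT⟩ : T) ^ 4)⁻¹ * ψ ⟨g, hgT⟩, hψg hgT, mul_inv_cancel_left _ _⟩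
      rw [h2, map_mul ψ, map_inv ψ, map_mul q, map_inv q, h4, inv_one, one_mul, h5, ← h2, h1]
    have h6 : ((⟨(l : Ω), hlT⟩ : T) ^ 4)⁻¹ * ψ ⟨(l : Ω), hlT⟩ ∈ E.subgroupOf T :=
      (QuotientGroup.eq_one_iff _).1 (by
        show q _ = 1
        rw [map_mul, map_inv, map_pow, h3, inv_mul_cancel])
    have h7 : (l ^ 4)⁻¹ * Φ l = j ⟨_, h6⟩ := by
      rw [show Φ l = _ from hΦx ⟨(l : Ω), hlT⟩]
      exact Subtype.ext rfl
    rw [h7]
    refine hEL _ ?_
    rw [← h7]
    exact mul_mem (inv_mem (pow_mem hl 4)) (mem_L_of_aut Φ hl)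
  -- the two-step centralizer
  set Γ := MaxClassP.B S 1 with hΓ
  have hΓi : Γ.index = p := MaxClassP.index_B hmc le_rfl (by omega)
  have hΓc : ∀ u ∈ Γ, ∀ v ∈ L1, Commute v u := fun u hu v hv =>
    commutatorElement_eq_one_iff_mul_comm.1 (Subgroup.mem_bot.1
      (MaxClassP.L_eq_bot hmc (j := 1 + 2) (by omega) ▸ hu v hv))
  have heΓ : es ∉ Γ := fun hh => by
    have h1 : Commute gs es := by
      rw [hgl]
      refine Commute.mul_left ?_ (hΓc _ hh l hl)
      exact congrArg j (mul_comm' y₀ (eW : E)) |> (fun h => show j y₀ * es = es * j y₀ by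
        rw [← map_mul, ← map_mul]; exact h)
    have h2 := hfix (eW : E) h1
    exact heL (Subgroup.zpowers_le.2 (hL21 hz2.1) h2)
  obtain ⟨s, hsΓ, hsL⟩ : ∃ s ∈ Γ, s ∉ L1 := by
    by_contra hh
    push Not at hh
    have h1 := Subgroup.index_dvd_of_le (show Γ ≤ L1 from hh)
    rw [hΓi, hL1, MaxClassP.index_L_one hmc] at h1
    have h2 := Nat.le_of_dvd hpp.out.pos h1
    nlinarith [hpp.out.two_le]
  have hΓgen : Γ = Subgroup.zpowers s ⊔ L1 := by
    set K := Subgroup.zpowers s ⊔ L1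
    have hKle : K ≤ Γ := sup_le (Subgroup.zpowers_le.2 hsΓ) (MaxClassP.L_one_le_B 1)
    have h1 : K.index = p := by
      have hd1 : Γ.index ∣ K.index := Subgroup.index_dvd_of_le hKle
      have hd2 : K.index ∣ p ^ 2 := by
        rw [← MaxClassP.index_L_one hmc]; exact Subgroup.index_dvd_of_le le_sup_right
      rw [hΓi] at hd1
      obtain ⟨k, hk, hkc⟩ := (Nat.dvd_prime_pow hpp.out).1 hd2
      have hk2 : k ≠ 2 := fun hk2 => by
        refine hsL ((Subgroup.eq_of_le_of_card_ge (le_sup_right : L1 ≤ K) ?_).ge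
          (Subgroup.mem_sup_left (Subgroup.mem_zpowers s)))
        have h2 := K.card_mul_index
        have h3 := L1.card_mul_index
        rw [hkc, hk2] at h2
        rw [hL1, MaxClassP.index_L_one hmc] at h3
        exact (Nat.eq_of_mul_eq_mul_right (pow_pos hpp.out.pos 2) (h2.trans h3.symm)).le
      have hk0 : k ≠ 0 := fun hk0 => by
        rw [hkc, hk0, pow_zero, Nat.dvd_one] at hd1
        exact hpp.out.one_lt.ne' hd1
      rw [hkc, show k = 1 by omega, pow_one]
    refine (Subgroup.eq_of_le_of_card_ge hKle ?_).symm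
    have h2 := K.card_mul_index
    have h3 := Γ.card_mul_index
    rw [h1] at h2
    rw [hΓi] at h3
    exact (Nat.eq_of_mul_eq_mul_right hpp.out.pos (h3.trans h2.symm)).le
  have hΦΓ : Φ s ∈ Γ := by
    intro v hv
    have h1 := hsΓ _ (mem_L_of_aut Φ.symm hv)
    have h2 := mem_L_of_aut Φ h1
    rwa [map_commutatorElement, MulEquiv.apply_symm_apply] at h2
  obtain ⟨c, u, hu, hΦs⟩ : ∃ c : ℤ, ∃ u ∈ L1, Φ s = s ^ c * u := by
    have h1 := hΓgen.le hΦΓ
    rw [Subgroup.mem_sup_of_normal_right] at h1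
    obtain ⟨_, ⟨c, rfl⟩, u, hu, h⟩ := h1
    exact ⟨c, u, hu, h.symm⟩
  -- everything happens in `S / L2`
  set q := QuotientGroup.mk' L2 with hq
  have hq1 : ∀ v : S, q v = 1 ↔ v ∈ L2 := fun v => QuotientGroup.eq_one_iff v
  have hqc : ∀ v ∈ L1, ∀ w : S ⧸ L2, w * q v = q v * w := fun v hv w => by
    obtain ⟨w, rfl⟩ := QuotientGroup.mk'_surjective L2 w
    exact (MaxClassP.mk_commute hv w).symm
  have hqcl : ∀ v w : S ⧸ L2, ⁅v, w⁆ ∈ Subgroup.center (S ⧸ L2) := fun v w => by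
    obtain ⟨v, rfl⟩ := QuotientGroup.mk'_surjective L2 v
    obtain ⟨w, rfl⟩ := QuotientGroup.mk'_surjective L2 w
    rw [← map_commutatorElement]
    refine Subgroup.mem_center_iff.2 (hqc _ ?_)
    exact MaxClassP.commutator_mem (i := 0) (j := 0) trivial trivial
  have hlayer : ∀ v ∈ L1, ∃ i : ℤ, q v = q l ^ i := fun v hv => by
    rw [hL1, MaxClassP.layer_eq hmc le_rfl (by omega) hl hl2, Subgroup.mem_sup_of_normal_right] at hv
    obtain ⟨_, ⟨i, rfl⟩, w, hw, rfl⟩ := hv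
    exact ⟨i, by rw [map_mul, map_zpow, (hq1 w).2 hw, mul_one]⟩
  have hlp : ∀ i k : ℤ, q l ^ i = q l ^ k → (p : ℤ) ∣ k - i := fun i k h => by
    have hlo : orderOf (q l) = p := orderOf_eq_prime (by
      rw [← map_pow, show l ^ p = 1 from Subtype.ext (congrArg Subtype.val
        (hTexp ⟨(l : Ω), hL1T l hl⟩) :), map_one]) fun h1 => hl2 ((hq1 l).1 h1)
    rw [zpow_eq_zpow_iff_modEq, hlo, Int.modEq_iff_dvd] at h
    exact h
  have hΦl' : q (Φ l) = q l ^ (4 : ℤ) := by
    rw [zpow_ofNat, ← map_pow, eq_comm, ← inv_mul_eq_one, ← map_inv, ← map_mul]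
    exact (hq1 _).2 hΦl
  obtain ⟨i, hi⟩ := hlayer ⁅es, s⁆ (MaxClassP.commutator_mem (i := 0) (j := 0) trivial trivial)
  have hip : ¬ (p : ℤ) ∣ i := by
    intro hh
    have h1 : q ⁅es, s⁆ = 1 := by
      rw [hi]
      refine orderOf_dvd_iff_zpow_eq_one.1 ?_
      have hlo : orderOf (q l) ∣ p := orderOf_dvd_of_pow_eq_one (by
        rw [← map_pow, show l ^ p = 1 from Subtype.ext (congrArg Subtype.val
          (hTexp ⟨(l : Ω), hL1T l hl⟩) :), map_one])
      exact (Int.natCast_dvd_natCast.2 hlo).trans hh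
    rw [map_commutatorElement, commutatorElement_eq_one_iff_mul_comm] at h1
    have hgen : Subgroup.zpowers es ⊔ Γ = ⊤ := by
      refine Subgroup.index_eq_one.1 ?_
      rcases hpp.out.eq_one_or_self_of_dvd _
        (hΓi ▸ Subgroup.index_dvd_of_le (le_sup_right : Γ ≤ Subgroup.zpowers es ⊔ Γ)) with h2 | h2
      · exact h2
      · exfalso
        have h3 := (Subgroup.zpowers es ⊔ Γ).card_mul_index
        have h4 := Γ.card_mul_index
        rw [h2] at h3
        rw [hΓi] at h4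
        exact heΓ ((Subgroup.eq_of_le_of_card_ge (le_sup_right : Γ ≤ Subgroup.zpowers es ⊔ Γ)
          (Nat.eq_of_mul_eq_mul_right hpp.out.pos (h3.trans h4.symm)).le).ge
            (Subgroup.mem_sup_left (Subgroup.mem_zpowers es)))
    have hcen : ∀ v : S, Commute (q v) (q es) ∧ Commute (q v) (q s) := by
      intro v
      have hv := hgen.ge (Subgroup.mem_top v)
      haveI : Γ.Normal := Subgroup.normal_of_index_eq_minFac_card (by
        rw [hΓi, hmc.card, Nat.pow_minFac (by omega), hpp.out.minFac_eq])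
      rw [Subgroup.mem_sup_of_normal_right] at hv
      obtain ⟨_, ⟨a', rfl⟩, w, hw, rfl⟩ := hv
      have hw' := hΓgen.le hw
      rw [Subgroup.mem_sup_of_normal_right] at hw'
      obtain ⟨_, ⟨b, rfl⟩, w', hw', rfl⟩ := hw'
      rw [map_mul, map_mul, map_zpow, map_zpow]
      have h5 : ∀ x : S ⧸ L2, Commute (q w') x := fun x => (hqc _ hw' x).symm
      have h6 : Commute (q es) (q s) := h1
      exact ⟨((Commute.refl (q es)).zpow_left a').mul_left ((h6.symm.zpow_left b).mul_left (h5 _)),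
        (h6.zpow_left a').mul_left (((Commute.refl (q s)).zpow_left b).mul_left (h5 _))⟩
    have h7 : commutator S ≤ L2 := by
      rw [commutator_def, Subgroup.commutator_le]
      intro v _ w _
      rw [← hq1, map_commutatorElement, commutatorElement_eq_one_iff_mul_comm]
      have hw := hgen.ge (Subgroup.mem_top w)
      haveI : Γ.Normal := Subgroup.normal_of_index_eq_minFac_card (by
        rw [hΓi, hmc.card, Nat.pow_minFac (by omega), hpp.out.minFac_eq])
      rw [Subgroup.mem_sup_of_normal_right] at hw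
      obtain ⟨_, ⟨a', rfl⟩, w₁, hw₁, rfl⟩ := hw
      have hw₁' := hΓgen.le hw₁
      rw [Subgroup.mem_sup_of_normal_right] at hw₁'
      obtain ⟨_, ⟨b, rfl⟩, w₂, hw₂, rfl⟩ := hw₁'
      rw [map_mul, map_mul, map_zpow, map_zpow]
      exact (((hcen v).1.zpow_right a').mul_right (((hcen v).2.zpow_right b).mul_right
        (hqc _ hw₂ _ : Commute (q v) (q w₂)))).eq
    refine hl2 (h7 ?_)
    rw [← Subgroup.top_lowerCentralSeries_one]
    exact hl
  have hmc' : (p : ℤ) ∣ i * ((m : ℤ) * c - 4) := by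
    have h1 : q (Φ ⁅es, s⁆) = q l ^ (4 * i) := by
      obtain ⟨w, hw, hwe⟩ : ∃ w ∈ L2, ⁅es, s⁆ = l ^ i * w := by
        refine ⟨(l ^ i)⁻¹ * ⁅es, s⁆, (hq1 _).1 ?_, (mul_inv_cancel_left _ _).symm⟩
        rw [map_mul, map_inv, map_zpow, hi, inv_mul_cancel]
      rw [hwe, map_mul, map_mul, map_zpow, map_zpow, hΦl', (hq1 _).2 (mem_L_of_aut Φ hw), mul_one,
        ← zpow_mul]
    have h2 : q (Φ ⁅es, s⁆) = q l ^ (i * ((m : ℤ) * c)) := by
      rw [map_commutatorElement, hΦe, hΦs, map_commutatorElement, map_zpow, map_mul, map_zpow]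
      have hcu : ⁅q es ^ (m : ℤ), q s ^ c * q u⁆ = ⁅q es ^ (m : ℤ), q s ^ c⁆ := by
        have h3 := hqc u hu
        rw [commutatorElement_def, commutatorElement_def, mul_inv_rev]
        calc q es ^ (m : ℤ) * (q s ^ c * q u) * (q es ^ (m : ℤ))⁻¹ * ((q u)⁻¹ * (q s ^ c)⁻¹)
            = q es ^ (m : ℤ) * q s ^ c * (q u * (q es ^ (m : ℤ))⁻¹) * ((q u)⁻¹ * (q s ^ c)⁻¹) := by
              group
          _ = _ := by rw [← h3 (q es ^ (m : ℤ))⁻¹]; group
      rw [hcu, commutatorElement_def, zpow_commutator_of_center hqcl, mul_inv_cancel_right,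
        ← commutatorElement_inv, commutatorElement_def (q s ^ c) (q es),
        zpow_commutator_of_center hqcl, mul_inv_cancel_right, ← commutatorElement_inv (q es) (q s),
        inv_zpow, inv_zpow, inv_zpow, inv_inv, ← map_commutatorElement, hi, ← zpow_mul, ← zpow_mul]
      ring_nf
    have h3 := hlp _ _ (h1.symm.trans h2)
    obtain ⟨k, hk⟩ := h3
    exact ⟨k, by linear_combination hk⟩
  have hmc4 : (p : ℤ) ∣ (m : ℤ) * c - 4 := (Int.Prime.dvd_mul' hpp.out hmc').resolve_left hip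
  have hsmall : ∀ r : ℤ, 1 ≤ r → r ≤ 3 → ¬ (p : ℤ) ∣ r := fun r h1 h2 hh => by
    have := Int.le_of_dvd (by omega) hh
    omega
  have hΦsp : Φ (s ^ p) = (s ^ p) ^ c := by
    rw [map_pow, hΦs, ((show Commute u s from hΓc s hsΓ u hu).zpow_right c).symm.mul_pow,
      show u ^ p = 1 from Subtype.ext (congrArg Subtype.val (hTexp ⟨(u : Ω), hL1T u hu⟩) :),
      mul_one, ← zpow_natCast (s ^ c) p, ← zpow_natCast s p, ← zpow_mul, ← zpow_mul, mul_comm c]
  obtain ⟨k, hk⟩ := hlayer (s ^ p) (MaxClassP.pow_mem_L_one hmc s)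
  by_cases hkp : (p : ℤ) ∣ k
  · -- `s ^ p` is central
    have hsp2 : s ^ p ∈ L2 := (hq1 _).1 (by
      rw [hk]
      refine orderOf_dvd_iff_zpow_eq_one.1 ?_
      have hlo : orderOf (q l) ∣ p := orderOf_dvd_of_pow_eq_one (by
        rw [← map_pow, show l ^ p = 1 from Subtype.ext (congrArg Subtype.val
          (hTexp ⟨(l : Ω), hL1T l hl⟩) :), map_one])
      exact (Int.natCast_dvd_natCast.2 hlo).trans hkp)
    rw [hz2.2] at hsp2
    obtain ⟨k', hk'⟩ := hsp2
    have hk'' : zs ^ k' = s ^ p := hk'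
    have h1 : zs ^ (2 * k') = zs ^ (k' * c) := by
      rw [zpow_mul, zpow_mul, ← hΦz, ← map_zpow, hk'', hΦsp]
    rw [zpow_eq_zpow_iff_modEq, hzo, Int.modEq_iff_dvd] at h1
    by_cases hk'p : (p : ℤ) ∣ k'
    · -- `Γ` is elementary abelian
      have hs1 : s ^ p = 1 := by
        rw [← hk'']
        exact orderOf_dvd_iff_zpow_eq_one.1 (by rwa [hzo])
      have hL1comm : ∀ v ∈ L1, ∀ w ∈ L1, Commute v w := fun v hv w hw =>
        hΓc w (MaxClassP.L_one_le_B 1 hw) v hv
      have h2 := hr Γ (fun v hv w hw => by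
          have hv' := hΓgen.le hv
          have hw' := hΓgen.le hw
          rw [Subgroup.mem_sup_of_normal_right] at hv' hw'
          obtain ⟨_, ⟨a', rfl⟩, v₁, hv₁, rfl⟩ := hv'
          obtain ⟨_, ⟨b, rfl⟩, w₁, hw₁, rfl⟩ := hw'
          exact ((((Commute.refl s).zpow_zpow a' b).mul_right
            ((hΓc s hsΓ w₁ hw₁).symm.zpow_left a')).mul_left
              (((hΓc s hsΓ v₁ hv₁).zpow_right b).mul_right (hL1comm v₁ hv₁ w₁ hw₁))).eq)
        fun v hv => by
          have hv' := hΓgen.le hv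
          rw [Subgroup.mem_sup_of_normal_right] at hv'
          obtain ⟨_, ⟨a', rfl⟩, v₁, hv₁, rfl⟩ := hv'
          rw [((hΓc s hsΓ v₁ hv₁).symm.zpow_left a').mul_pow,
            show v₁ ^ p = 1 from Subtype.ext (congrArg Subtype.val (hTexp ⟨(v₁ : Ω), hL1T v₁ hv₁⟩) :),
            mul_one, ← zpow_natCast (s ^ a') p, ← zpow_mul, mul_comm, zpow_mul, zpow_natCast, hs1,
            one_zpow]
      have h3 := Γ.card_mul_index
      rw [hΓi, hmc.card, pow_succ p 3] at h3
      rw [Nat.eq_of_mul_eq_mul_right hpp.out.pos h3] at h2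
      have := (Nat.pow_le_pow_iff_right hpp.out.one_lt).1 h2
      omega
    · have h2 : (p : ℤ) ∣ c - 2 := by
        refine (Int.Prime.dvd_mul' hpp.out ?_).resolve_left hk'p
        obtain ⟨r, hr'⟩ := h1
        exact ⟨r, by linear_combination hr'⟩
      refine hsmall 3 (by omega) le_rfl ?_
      obtain ⟨r, hr'⟩ := h2
      obtain ⟨r', hr''⟩ := hmc4
      exact ⟨(m : ℤ) * r - r' + 1, by linear_combination (-1 : ℤ) * hr'' + (m : ℤ) * hr' + hm'⟩
  · have h1 : q l ^ (4 * k) = q l ^ (k * c) := by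
      obtain ⟨w, hw, hwe⟩ : ∃ w ∈ L2, s ^ p = l ^ k * w := by
        refine ⟨(l ^ k)⁻¹ * s ^ p, (hq1 _).1 ?_, (mul_inv_cancel_left _ _).symm⟩
        rw [map_mul, map_inv, map_zpow, hk, inv_mul_cancel]
      have h2 : q (Φ (s ^ p)) = q l ^ (4 * k) := by
        rw [hwe, map_mul, map_mul, map_zpow, map_zpow, hΦl', (hq1 _).2 (mem_L_of_aut Φ hw), mul_one,
          ← zpow_mul]
      rw [← h2, hΦsp, map_zpow, hk, ← zpow_mul]
    have h2 : (p : ℤ) ∣ c - 4 := by
      refine (Int.Prime.dvd_mul' hpp.out ?_).resolve_left hkp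
      obtain ⟨r, hr'⟩ := hlp _ _ h1
      exact ⟨r, by linear_combination hr'⟩
    -- now `m ≡ 1`, so `2 ≡ 1`
    obtain ⟨r, hr'⟩ := h2
    obtain ⟨r', hr''⟩ := hmc4
    have h3 : (p : ℤ) ∣ 4 * ((m : ℤ) - 1) := ⟨r' - (m : ℤ) * r, by linear_combination hr'' - (m : ℤ) * hr'⟩
    have h4 : (p : ℤ) ∣ (m : ℤ) - 1 := (Int.Prime.dvd_mul' hpp.out h3).resolve_left fun hh => by
      have := Int.le_of_dvd (by omega) hh
      omega
    obtain ⟨r₂, hr₂⟩ := h4
    exact hsmall 1 le_rfl (by omega) ⟨1 - 2 * r₂, by linear_combination (-2 : ℤ) * hr₂ + hm'⟩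

/-- Resistance. -/
theorem isNormal_of_rankTwo (hS : IsPGroup p S) {F : FusionSystem S} (hF : F.IsSaturated p)
    (hp5 : 5 ≤ p) (hr : RankLE2 p S) (hnotE : ¬ (Nat.card S = p ^ 3 ∧ Monoid.exponent ↥S = p)) :
    F.IsNormal S := by
  refine ⟨le_rfl, fun P φ hφ => ?_⟩
  have hall := CfsgLib.Alperin.alperin hS hF (CfsgLib.FusionExamples.topSystem F) fun Q hQ => by
    rcases hQ with rfl | hQ
    · intro α hα
      have hm := (mem_autGroup_iff F le_rfl).mp hα
      exact (mem_autGroup_iff _ le_rfl).mpr ⟨hm, _, hm, fun x hx => rfl⟩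
    · exact absurd hQ (not_isEssential hS hp5 hr hnotE hF Q)
  obtain ⟨-, ψ, hψ, hx⟩ := hall P hφ
  have e : P ⊔ S ≤ S := sup_le (dom_le hφ) le_rfl
  refine ⟨_, restrict_mem hψ e, fun x => hx x _, ?_⟩
  ext y
  constructor
  · rintro ⟨b, -, rfl⟩
    exact apply_mem hψ _
  · intro hy
    rw [← eq_self_of_isConj (isConj_of_hom hψ)] at hy
    obtain ⟨a, rfl⟩ := hy
    exact ⟨Subgroup.inclusion le_sup_right a, a.2, congrArg ψ (Subtype.ext rfl)⟩

end CfsgLib.FusionModels.RankTwo
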