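import Cfsg.Agent.Lib.FusionModels.Transvection
import Cfsg.Agent.Lib.FusionBasics.Normal
import Cfsg.Agent.Lib.FusionBasics.Focal
import Cfsg.Agent.Lib.FusionExamples.Basic
import Cfsg.Agent.Lib.FusionSub.NormalCriterion
import Cfsg.Agent.Lib.PGroups.ClassTwo
import Cfsg.Agent.Lib.PGroups.Frattini
import Cfsg.Agent.Lib.Cores.Basic
import Cfsg.Agent.Lib.TwoGroups.Basic
import Cfsg.Prelude.Def_LocalEven

/-!
Reduced fusion systems over `p`-groups whose centre has index at most `p²`.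
-/

set_option autoImplicit false
set_option linter.style.haveILetI false
set_option linter.unusedSectionVars false

namespace CfsgLib.FusionModels

open Cfsg Cfsg.FusionSystem CfsgLib.Alperin CfsgLib.FusionSub
open scoped commutatorElement

variable {Ω : Type*} [Group Ω] {S : Subgroup Ω}

/-- Standing facts about a `p`-group `S` with `[S : Z(S)] = p²`; `Z` is `Z(S)` and `D` its derived group. -/
structure IsSmallCenter (p : ℕ) (S Z D : Subgroup Ω) : Prop where
  D_le : D ≤ Z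
  Z_le : Z ≤ S
  card_S : Nat.card S = p ^ 2 * Nat.card Z
  card_D : Nat.card D = p
  central : ∀ z ∈ Z, ∀ s ∈ S, s * z = z * s
  mem_Z : ∀ z ∈ S, (∀ s ∈ S, s * z = z * s) → z ∈ Z
  comm_mem : ∀ a ∈ S, ∀ b ∈ S, a * b * a⁻¹ * b⁻¹ ∈ D
  pow_mem : ∀ s ∈ S, s ^ p ∈ Z

variable [Finite S] {p : ℕ} [Fact p.Prime]

theorem exists_smallCenter (hS : IsPGroup p S) (hne : ∃ x : S, ∃ y : S, x * y ≠ y * x)
    (hidx : (Subgroup.center S).index ≤ p ^ 2) :
    IsSmallCenter p S ((Subgroup.center S).map S.subtype) ⁅S, S⁆ ∧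
      (Subgroup.center S).index = p ^ 2 := by
  classical
  set C := Subgroup.center S
  obtain ⟨x, y, hxy⟩ := hne
  have hab : (∃ g : S ⧸ C, ∀ q : S ⧸ C, q ∈ Subgroup.zpowers g) → False := by
    intro h
    haveI : IsCyclic (S ⧸ C) := ⟨h⟩
    exact hxy (commutative_of_cyclic_center_quotient (QuotientGroup.mk' C)
      (by rw [QuotientGroup.ker_mk']) x y)
  have hnc : ¬ IsCyclic (S ⧸ C) := fun h => hab h.exists_generator
  have hidx2 : C.index = p ^ 2 := by
    obtain ⟨k, hk⟩ := hS.index C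
    rw [hk] at hidx ⊢
    have := (Nat.pow_le_pow_iff_right (Fact.out : p.Prime).one_lt).mp hidx
    rcases k with _ | _ | _ | k
    · exfalso
      haveI : Subsingleton (S ⧸ C) :=
        (Nat.card_eq_one_iff_unique.mp (by rw [← Subgroup.index_eq_card, hk, pow_zero])).1
      exact hnc isCyclic_of_subsingleton
    · exact absurd (isCyclic_of_prime_card (p := p) (by rw [← Subgroup.index_eq_card, hk, zero_add, pow_one])) hnc
    · rfl
    · omega
  have hQ : Nat.card (S ⧸ C) = p ^ 2 := by rw [← Subgroup.index_eq_card, hidx2]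
  have hQcomm := IsPGroup.commutative_of_card_eq_prime_sq hQ
  have hQexp : ∀ q : S ⧸ C, q ^ p = 1 := by
    intro q
    have h1 : orderOf q ∣ p ^ 2 := hQ ▸ orderOf_dvd_natCard q
    obtain ⟨k, hk, he⟩ := (Nat.dvd_prime_pow (Fact.out : p.Prime)).mp h1
    rcases k with _ | _ | _ | k
    · rw [(orderOf_eq_one_iff (x := q)).mp (by simpa using he)]; exact one_pow p
    · rw [show p = orderOf q by simpa using he.symm]; exact pow_orderOf_eq_one q
    · exact absurd (isCyclic_of_orderOf_eq_card q (by rw [he, hQ])) hnc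
    · omega
  have hcomm : ∀ a b : S, ⁅a, b⁆ ∈ C := fun a b => by
    rw [← QuotientGroup.eq_one_iff]
    show QuotientGroup.mk' C ⁅a, b⁆ = 1
    rw [map_commutatorElement, commutatorElement_eq_one_iff_mul_comm]
    exact hQcomm _ _
  have hpow : ∀ a : S, a ^ p ∈ C := fun a => by
    rw [← QuotientGroup.eq_one_iff]
    show QuotientGroup.mk' C (a ^ p) = 1
    rw [map_pow]
    exact hQexp _
  set c := ⁅x, y⁆
  set U := Subgroup.zpowers c
  have hc1 : c ≠ 1 := fun h => hxy (commutatorElement_eq_one_iff_mul_comm.mp h)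
  have hUC : U ≤ C := Subgroup.zpowers_le.mpr (hcomm x y)
  let Cof : S → Subgroup S := fun a =>
    { carrier := {b | ⁅a, b⁆ ∈ U}
      one_mem' := by simp
      mul_mem' := fun {b b'} hb hb' => by
        show ⁅a, b * b'⁆ ∈ U
        rw [CfsgLib.PGroups.commutatorElement_mul_right (hcomm a b')]
        exact U.mul_mem hb hb'
      inv_mem' := fun {b} hb => by
        show ⁅a, b⁻¹⁆ ∈ U
        rw [CfsgLib.PGroups.commutatorElement_inv_right' (hcomm a b)]
        exact U.inv_mem hb }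
  have hgen : ∀ a, x ∈ Cof a → y ∈ Cof a → ∀ b, b ∈ Cof a := by
    intro a hx hy b
    have hCle : C ≤ Cof a := fun z hz => by
      show ⁅a, z⁆ ∈ U
      rw [commutatorElement_eq_one_iff_mul_comm.mpr (Subgroup.mem_center_iff.mp hz a)]
      exact U.one_mem
    let q := QuotientGroup.mk' C
    have hxQ : q x ≠ 1 := fun h => hxy (Subgroup.mem_center_iff.mp ((QuotientGroup.eq_one_iff x).mp h) y).symm
    have hlt : Subgroup.zpowers (q x) < (Cof a).map q := by
      refine lt_of_le_of_ne (Subgroup.zpowers_le.mpr ⟨x, hx, rfl⟩) fun h => ?_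
      obtain ⟨i, hi⟩ := h.ge (⟨y, hy, rfl⟩ : q y ∈ (Cof a).map q)
      have hz : (x ^ i)⁻¹ * y ∈ C := (QuotientGroup.eq_one_iff _).mp (by
        show q ((x ^ i)⁻¹ * y) = 1
        rw [map_mul, map_inv, map_zpow, show q x ^ i = q y from hi, inv_mul_cancel])
      apply hxy
      have h1 : y = x ^ i * ((x ^ i)⁻¹ * y) := by group
      rw [h1]
      have h2 := Subgroup.mem_center_iff.mp hz x
      calc x * (x ^ i * ((x ^ i)⁻¹ * y)) = x ^ i * (x * ((x ^ i)⁻¹ * y)) := by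
            rw [← mul_assoc, (Commute.self_zpow x i).eq, mul_assoc]
        _ = x ^ i * ((x ^ i)⁻¹ * y) * x := by rw [h2, mul_assoc (x ^ i)]
    have htop : (Cof a).map q = ⊤ := by
      refine Subgroup.eq_top_of_le_card _ ?_
      obtain ⟨m, hm⟩ := ((hS.to_quotient C).to_subgroup ((Cof a).map q)).exists_card_eq
      obtain ⟨n, hn⟩ := ((hS.to_quotient C).to_subgroup (Subgroup.zpowers (q x))).exists_card_eq
      have hn0 : n ≠ 0 := fun h => hxQ (Subgroup.zpowers_eq_bot.mp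
        (Subgroup.card_eq_one.mp (by rw [hn, h, pow_zero])))
      have hlt' : Nat.card (Subgroup.zpowers (q x)) < Nat.card ((Cof a).map q) :=
        lt_of_le_of_ne (Subgroup.card_le_of_le hlt.le)
          fun h => hlt.ne (Subgroup.eq_of_le_of_card_ge hlt.le h.ge)
      rw [hn, hm, Nat.pow_lt_pow_iff_right (Fact.out : p.Prime).one_lt] at hlt'
      rw [hQ, hm]
      exact Nat.pow_le_pow_right (Fact.out : p.Prime).pos (by omega)
    obtain ⟨w, hw, he⟩ := htop.ge (Subgroup.mem_top (q b))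
    have : w⁻¹ * b ∈ C := (QuotientGroup.eq_one_iff _).mp (by
      show q (w⁻¹ * b) = 1
      rw [map_mul, map_inv, he, inv_mul_cancel])
    have := (Cof a).mul_mem hw (hCle this)
    simpa using this
  have hall : ∀ a b : S, ⁅a, b⁆ ∈ U := by
    have hswap : ∀ a b : S, ⁅a, b⁆ ∈ U → ⁅b, a⁆ ∈ U := fun a b h => by
      rw [← commutatorElement_inv]; exact U.inv_mem h
    have hx' : ∀ b, ⁅x, b⁆ ∈ U := hgen x (show ⁅x, x⁆ ∈ U by simp) (Subgroup.mem_zpowers c)
    have hy' : ∀ b, ⁅y, b⁆ ∈ U :=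
      hgen y (hswap x y (Subgroup.mem_zpowers c)) (show ⁅y, y⁆ ∈ U by simp)
    exact fun a b => hgen a (hswap x a (hx' a)) (hswap y a (hy' a)) b
  have hD : ⁅S, S⁆ = U.map S.subtype := by
    refine le_antisymm (Subgroup.commutator_le.mpr fun a ha b hb =>
      ⟨⁅(⟨a, ha⟩ : S), ⟨b, hb⟩⁆, hall _ _, map_commutatorElement _ _ _⟩) ?_
    rw [MonoidHom.map_zpowers, Subgroup.zpowers_le]
    rw [show S.subtype c = ⁅(x : Ω), (y : Ω)⁆ from map_commutatorElement _ _ _]
    exact Subgroup.commutator_mem_commutator x.2 y.2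
  have hcp : c ^ p = 1 := CfsgLib.PGroups.commutatorElement_pow_eq_one (hcomm x y) (hpow x)
  refine ⟨⟨?_, Subgroup.map_subtype_le _, ?_, ?_, ?_, ?_, ?_, ?_⟩, hidx2⟩
  · rw [hD]; exact Subgroup.map_mono hUC
  · rw [Subgroup.card_map_of_injective S.subtype_injective, ← hidx2, Subgroup.index_mul_card]
  · rw [hD, Subgroup.card_map_of_injective S.subtype_injective, Nat.card_zpowers]
    exact orderOf_eq_prime hcp hc1
  · rintro _ ⟨z, hz, rfl⟩ s hs
    exact congrArg Subtype.val (Subgroup.mem_center_iff.mp hz ⟨s, hs⟩)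
  · intro z hz h
    exact ⟨⟨z, hz⟩, Subgroup.mem_center_iff.mpr fun s => Subtype.ext (h s s.2), rfl⟩
  · intro a ha b hb
    have := Subgroup.commutator_mem_commutator (H₁ := S) (H₂ := S) ha hb
    rwa [commutatorElement_def] at this
  · intro s hs
    exact ⟨(⟨s, hs⟩ : S) ^ p, hpow _, rfl⟩

/-- An element of a finite group whose `p`-th power lies in a normal subgroup containing a Sylow
`p`-subgroup lies in it. -/
theorem mem_of_pow_prime_mem {G : Type*} [Group G] [Finite G] (N : Subgroup G) [N.Normal]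
    (R : Sylow p G) (hR : (R : Subgroup G) ≤ N) {g : G} (hg : g ^ p ∈ N) : g ∈ N := by
  rw [← QuotientGroup.eq_one_iff]
  have h1 : orderOf (QuotientGroup.mk g : G ⧸ N) ∣ p := orderOf_dvd_of_pow_eq_one (by
    rw [← QuotientGroup.mk_pow, QuotientGroup.eq_one_iff]
    exact hg)
  have h2 : orderOf (QuotientGroup.mk g : G ⧸ N) ∣ N.index := by
    rw [Subgroup.index_eq_card]; exact orderOf_dvd_natCard _
  refine orderOf_eq_one_iff.mp ?_
  rcases (Nat.dvd_prime (Fact.out : p.Prime)).mp h1 with h | h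
  · exact h
  · rw [h] at h2
    exact absurd (h2.trans (Subgroup.index_dvd_of_le hR)) R.not_dvd_index

variable {F : FusionSystem S} {Z D : Subgroup Ω}

theorem sylow_autGroup_top (hS : IsPGroup p S) (hF : F.IsSaturated p) :
    ∃ R : Sylow p (F.autGroup S),
      (R : Subgroup (F.autGroup S)) = (autInducedBy S S).subgroupOf (F.autGroup S) :=
  ((centralized_automized_of_fullyNormalized hS hF (isFullyNormalized_top F)).2).2

namespace IsSmallCenter

variable (hz : IsSmallCenter p S Z D)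

include hz

theorem D_le_S : D ≤ S := hz.D_le.trans hz.Z_le

theorem D_pow {d : Ω} (hd : d ∈ D) : d ^ p = 1 := by
  have := pow_card_eq_one' (x := (⟨d, hd⟩ : D))
  rw [hz.card_D] at this
  exact congrArg Subtype.val this

theorem aut_Z (h : MulAut S) (z : S) (hzZ : (z : Ω) ∈ Z) : ((h z : S) : Ω) ∈ Z := by
  refine hz.mem_Z _ (h z).2 fun s hs => ?_
  obtain ⟨s', hs'⟩ := h.surjective ⟨s, hs⟩
  have h1 : s' * z = z * s' := Subtype.ext (hz.central z hzZ s' s'.2)
  have h2 := congrArg (fun w : S => (w : Ω)) (congrArg h h1)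
  simpa [hs'] using h2

theorem aut_D (hD : D = ⁅S, S⁆) (h : MulAut S) (d : S) (hd : (d : Ω) ∈ D) : ((h d : S) : Ω) ∈ D := by
  have hle : ⁅S, S⁆ ≤ (((⁅S, S⁆ : Subgroup Ω).subgroupOf S).comap h.toMonoidHom).map S.subtype := by
    refine Subgroup.commutator_le.mpr fun a ha b hb => ?_
    refine ⟨⁅(⟨a, ha⟩ : S), ⟨b, hb⟩⁆, ?_, map_commutatorElement _ _ _⟩
    show ((h ⁅(⟨a, ha⟩ : S), ⟨b, hb⟩⁆ : S) : Ω) ∈ ⁅S, S⁆
    rw [map_commutatorElement]
    exact Subgroup.commutator_mem_commutator (h ⟨a, ha⟩).2 (h ⟨b, hb⟩).2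
  subst hD
  obtain ⟨w, hw, he⟩ := hle hd
  rw [show d = w from Subtype.ext he.symm]
  exact hw

theorem conj_mem_Z {s x : Ω} (hs : s ∈ S) (hx : x ∈ S) : x⁻¹ * (s * x * s⁻¹) ∈ Z := by
  have h := hz.D_le (hz.comm_mem x⁻¹ (S.inv_mem hx) s hs)
  simpa [mul_assoc] using h

/-- A member of `Aut_F(S)` fixing `D` and acting trivially on `Z / D` fixes `Z`. -/
theorem aut_fix_Z (hS : IsPGroup p S) (hF : F.IsSaturated p) (g : F.autGroup S)
    (hfix : ∀ d : S, (d : Ω) ∈ D → (g : MulAut S) d = d)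
    (hmod : ∀ z : S, (z : Ω) ∈ Z → ((z⁻¹ * (g : MulAut S) z : S) : Ω) ∈ D) :
    ∀ z : S, (z : Ω) ∈ Z → (g : MulAut S) z = z := by
  haveI := finite_autGroup F (le_refl S)
  obtain ⟨R, hR⟩ := sylow_autGroup_top hS hF
  let N : Subgroup (F.autGroup S) :=
    { carrier := {a | ∀ z : S, (z : Ω) ∈ Z → (a : MulAut S) z = z}
      one_mem' := fun _ _ => rfl
      mul_mem' := fun {a b} ha hb z hzZ => by
        show (a : MulAut S) ((b : MulAut S) z) = z
        rw [hb z hzZ, ha z hzZ]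
      inv_mem' := fun {a} ha z hzZ => by
        show (a : MulAut S)⁻¹ z = z
        conv_lhs => rw [← ha z hzZ]
        simp }
  haveI : N.Normal := ⟨fun a ha b z hzZ => by
    show (b : MulAut S) ((a : MulAut S) ((b : MulAut S)⁻¹ z)) = z
    rw [ha _ (hz.aut_Z _ z hzZ)]
    simp⟩
  refine mem_of_pow_prime_mem N R ?_ ?_
  · rw [hR]
    intro a ha z hzZ
    obtain ⟨s, hs, hx⟩ := mem_autInducedBy_iff.mp (Subgroup.mem_subgroupOf.mp ha)
    exact Subtype.ext (by rw [hx, hz.central z hzZ s hs, mul_inv_cancel_right])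
  · intro z hzZ
    have hpow : ∀ n : ℕ, ((g : MulAut S) ^ n) z = z * (z⁻¹ * (g : MulAut S) z) ^ n := by
      intro n
      induction n with
      | zero => simp
      | succ n ih =>
        rw [pow_succ', MulAut.mul_apply, ih, map_mul, map_pow, hfix _ (hmod z hzZ), pow_succ',
          ← mul_assoc, mul_inv_cancel_left]
    show ((g ^ p : F.autGroup S) : MulAut S) z = z
    rw [Subgroup.coe_pow, hpow,
      show (z⁻¹ * (g : MulAut S) z) ^ p = 1 from Subtype.ext (hz.D_pow (hmod z hzZ)), mul_one]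

theorem sub_eq {A : Subgroup Ω} (hAS : A ≤ S) (hZA : Z ≤ A) (hne : A ≠ Z) (hneS : A ≠ S)
    (hS : IsPGroup p S) : Nat.card A = p * Nat.card Z := by
  haveI := finite_of_le hAS
  haveI := finite_of_le hz.Z_le
  obtain ⟨i, hi⟩ := (isPGroup_of_le hS hz.Z_le).exists_card_eq
  obtain ⟨j, hj⟩ := (isPGroup_of_le hS hAS).exists_card_eq
  have h1 := (Fact.out : p.Prime).one_lt
  have hlt1 : Nat.card Z < Nat.card A := lt_of_le_of_ne (Subgroup.card_le_of_le hZA)
    fun h => hne (Subgroup.eq_of_le_of_card_ge hZA h.ge).symm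
  have hlt2 : Nat.card A < Nat.card S := lt_of_le_of_ne (Subgroup.card_le_of_le hAS)
    fun h => hneS (Subgroup.eq_of_le_of_card_ge hAS h.ge)
  rw [hz.card_S] at hlt2
  rw [hi, hj, Nat.pow_lt_pow_iff_right h1] at hlt1
  rw [hi, hj, ← pow_add, Nat.pow_lt_pow_iff_right h1] at hlt2
  rw [hi, hj, ← pow_succ', show j = i + 1 by omega]

theorem eq_top_of_lt {A B : Subgroup Ω} (hcA : Nat.card A = p * Nat.card Z) (hAB : A < B)
    (hBS : B ≤ S) (hS : IsPGroup p S) : B = S := by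
  haveI := finite_of_le hBS
  haveI := finite_of_le hz.Z_le
  refine Subgroup.eq_of_le_of_card_ge hBS ?_
  obtain ⟨i, hi⟩ := (isPGroup_of_le hS hz.Z_le).exists_card_eq
  obtain ⟨j, hj⟩ := (isPGroup_of_le hS hBS).exists_card_eq
  have hlt : Nat.card A < Nat.card B := lt_of_le_of_ne (Subgroup.card_le_of_le hAB.le)
    fun h => hAB.ne (Subgroup.eq_of_le_of_card_ge hAB.le h.ge)
  have h1 := (Fact.out : p.Prime).one_lt
  rw [hcA, hi, hj, ← pow_succ', Nat.pow_lt_pow_iff_right h1] at hlt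
  rw [hz.card_S, hi, hj, ← pow_add]
  exact Nat.pow_le_pow_right (Fact.out : p.Prime).pos (by omega)

theorem normal_of_Z_le {A : Subgroup Ω} (hAS : A ≤ S) (hZA : Z ≤ A) :
    S ≤ Subgroup.normalizer (A : Set Ω) := by
  intro s hs
  have key : ∀ s ∈ S, ∀ a ∈ A, s * a * s⁻¹ ∈ A := fun s hs a ha => by
    have := A.mul_mem ha (hZA (hz.conj_mem_Z hs (hAS ha)))
    simpa using this
  refine Subgroup.mem_normalizer_iff.mpr fun a => ⟨key s hs a, fun h => ?_⟩
  have := key s⁻¹ (S.inv_mem hs) _ h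
  simpa [mul_assoc] using this

/-- Elements of an index `p` subgroup above the centre commute. -/
theorem comm_of_card {A : Subgroup Ω} (hAS : A ≤ S) (hZA : Z ≤ A) (hcA : Nat.card A = p * Nat.card Z)
    {a : Ω} (ha : a ∈ A) {b : Ω} (hb : b ∈ A) : a * b = b * a := by
  by_cases haZ : a ∈ Z
  · exact (hz.central a haZ b (hAS hb)).symm
  haveI := finite_of_le hAS
  haveI := finite_of_le hz.Z_le
  have hi : (Z.subgroupOf A).index = p := by
    have h := (Z.subgroupOf A).index_mul_card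
    rw [Nat.card_congr (Subgroup.subgroupOfEquivOfLe hZA).toEquiv, hcA] at h
    exact Nat.eq_of_mul_eq_mul_right Nat.card_pos h
  haveI : (Z.subgroupOf A).Normal := ⟨fun z hzZ g => by
    show (g : Ω) * z * (g : Ω)⁻¹ ∈ Z
    rw [hz.central (z : Ω) hzZ g (hAS g.2), mul_inv_cancel_right]
    exact hzZ⟩
  have hne : (QuotientGroup.mk ⟨a, ha⟩ : A ⧸ Z.subgroupOf A) ≠ 1 := fun h =>
    haZ ((QuotientGroup.eq_one_iff (⟨a, ha⟩ : A)).mp h)
  obtain ⟨i, hi'⟩ := mem_zpowers_of_prime_card (p := p) (g' := (QuotientGroup.mk ⟨b, hb⟩ : A ⧸ Z.subgroupOf A))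
    (by rw [← Subgroup.index_eq_card, hi]) hne
  have hmem : (a ^ i)⁻¹ * b ∈ Z := by
    have : ((⟨a, ha⟩ : A) ^ i)⁻¹ * ⟨b, hb⟩ ∈ Z.subgroupOf A := QuotientGroup.eq.mp (by
      rw [QuotientGroup.mk_zpow]; exact hi')
    exact this
  have h := hz.central _ hmem a (hAS ha)
  calc a * b = a ^ i * (a * ((a ^ i)⁻¹ * b)) := by
        rw [← mul_assoc (a ^ i), ← (Commute.self_zpow a i).eq, mul_assoc a, mul_inv_cancel_left]
    _ = a ^ i * ((a ^ i)⁻¹ * b * a) := by rw [h]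
    _ = b * a := by group

end IsSmallCenter

/-- An automorphism of a normal fully normalized subgroup normalizing `Aut_S` extends to `S`. -/
theorem exists_extend_top (hS : IsPGroup p S) (hF : F.IsSaturated p) {A : Subgroup Ω}
    (hA : F.IsFullyNormalized A) (hn : S ≤ Subgroup.normalizer (A : Set Ω)) {α : MulAut A}
    (hα : α ∈ F.autGroup A) (hT : ∀ u ∈ autInducedBy S A, α * u * α⁻¹ ∈ autInducedBy S A) :
    ∃ h ∈ F.autGroup S, ∀ a : A, ((h ⟨a, hA.1 a.2⟩ : S) : Ω) = ((α a : A) : Ω) := by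
  have hφ := (mem_autGroup_iff F hA.1).mp hα
  have hr : (A.subtype.comp α.toMonoidHom).range = A := by
    ext y
    exact ⟨fun ⟨a, ha⟩ => ha ▸ (α a).2, fun hy => ⟨α.symm ⟨y, hy⟩, by simp⟩⟩
  obtain ⟨ψ, hψ, hext⟩ := (receptive_of_fullyNormalized hS hF hA).2 A _ hφ hr
  have hle : S ≤ extender S A (A.subtype.comp α.toMonoidHom) := fun g hg => by
    obtain ⟨s, hs, hx⟩ := mem_autInducedBy_iff.mp (hT _ (conjAut_mem hg (hn hg)))
    refine mem_extender_iff.mpr ⟨hg, hn hg, s, hs, fun x hx' => ?_⟩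
    have h := hx (α x)
    simp only [MulAut.mul_apply, MulAut.inv_apply_self] at h
    exact h
  obtain ⟨h, hh, hhx⟩ := exists_aut_of_hom' F (restrict_mem hψ hle) fun x => apply_mem hψ _
  exact ⟨h, hh, fun a => by rw [hhx]; exact hext a a.2 _⟩

/-- What an essential subgroup `A` of a system with small centre gives. -/
structure EssData (p : ℕ) (F : FusionSystem S) (Z D A K M : Subgroup Ω) : Prop where
  A_le : A ≤ S
  Z_le : Z ≤ A
  card_A : Nat.card A = p * Nat.card Z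
  K_le : K ≤ Z
  D_le : D ≤ M
  M_le : M ≤ A
  card_M : Nat.card M = p ^ 2
  MK : ∀ a ∈ A, ∃ m ∈ M, ∃ k ∈ K, m * k = a
  DK : ∀ z ∈ Z, ∃ d ∈ D, ∃ k ∈ K, d * k = z
  MZ : M ⊓ Z = D
  KD : K ⊓ D = ⊥
  M_pow : ∀ m ∈ M, m ^ p = 1
  K_inv : ∀ g ∈ F.autGroup A, ∀ a : A, (a : Ω) ∈ K → ((g a : A) : Ω) ∈ K
  M_inv : ∀ g ∈ F.autGroup A, ∀ a : A, (a : Ω) ∈ M → ((g a : A) : Ω) ∈ M
  factor : ∀ g ∈ F.autGroup A, ∀ a : A, ∃ h ∈ F.autGroup S, ∃ b : A,
    (∀ h' : (a : Ω) ∈ S, ((h ⟨a, h'⟩ : S) : Ω) = b) ∧ (b : Ω)⁻¹ * ((g a : A) : Ω) ∈ M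
  invol : p ≠ 2 → ∃ β ∈ F.autGroup S, (∀ d : S, (d : Ω) ∈ D → β d = d⁻¹) ∧
    (∀ k : S, (k : Ω) ∈ K → β k = k) ∧ ∀ s : S, ((s⁻¹ * β s : S) : Ω) ∈ A

theorem ne_top_of_essential (hS : IsPGroup p S) (hF : F.IsSaturated p) {A : Subgroup Ω}
    (hA : F.IsEssential p A) : A ≠ S := by
  rintro rfl
  obtain ⟨-, -, hnorm, E, hdvd, -⟩ := hA
  haveI := hnorm
  haveI := finite_autGroup F (le_refl A)
  obtain ⟨R, hR⟩ := sylow_autGroup_top hS hF
  rw [← Subgroup.index_eq_card] at hdvd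
  refine R.not_dvd_index (hdvd.trans (Subgroup.index_dvd_of_le ?_))
  rw [hR]
  intro α hα
  obtain ⟨g, hg, hx⟩ := mem_autInducedBy_iff.mp (Subgroup.mem_subgroupOf.mp hα)
  exact ⟨⟨g, hg⟩, MulEquiv.ext fun x => Subtype.ext (hx x).symm⟩

set_option maxHeartbeats 800000 in
theorem exists_essData (hS : IsPGroup p S) (hF : F.IsSaturated p) (hz : IsSmallCenter p S Z D)
    {A : Subgroup Ω} (hA : F.IsEssential p A) : ∃ K M : Subgroup Ω, EssData p F Z D A K M := by
  obtain ⟨hAc, hAn, -⟩ := id hA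
  have hAS := hAn.1
  haveI := finite_of_le hAS
  haveI := finite_of_le hz.Z_le
  haveI := finite_of_le hz.D_le_S
  haveI := finite_autGroup F hAS
  have hC : centralizerIn S A ≤ A := hAc.2 A (isConj_refl F hAS)
  have hZA : Z ≤ A := fun z hzZ => hC ⟨hz.Z_le hzZ, fun a ha => hz.central z hzZ a (hAS ha)⟩
  have hrad := CfsgLib.Alperin.isRadical_of_essential hS hA
  have hne : A ≠ Z := by
    rintro rfl
    have hSZ : A = S := le_antisymm hAS fun s hs => hC ⟨hs, fun a ha => (hz.central a ha s hs).symm⟩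
    exact ne_top_of_essential hS hF hA hSZ
  have hneS : A ≠ S := ne_top_of_essential hS hF hA
  have hcA := hz.sub_eq hAS hZA hne hneS hS
  have hcomm : ∀ a b : A, a * b = b * a := fun a b =>
    Subtype.ext (hz.comm_of_card hAS hZA hcA a.2 b.2)
  have hn := hz.normal_of_Z_le hAS hZA
  have hDA : D ≤ A := hz.D_le.trans hZA
  set G := F.autGroup A
  set T := autInducedBy S A
  set Zc := Z.subgroupOf A
  set Dc := D.subgroupOf A
  have hTG : T ≤ G := autInducedBy_le_autGroup F hAS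
  have hcardT : Nat.card T = p := by
    have h := card_centralizerIn_mul_autInducedBy (S := S) A
    rw [show centralizerIn S A = A from le_antisymm hC fun a ha =>
        ⟨hAS ha, fun b hb => hz.comm_of_card hAS hZA hcA hb ha⟩,
      show normalizerIn S A = S from le_antisymm (normalizerIn_le S A) fun g hg => ⟨hg, hn hg⟩,
      hz.card_S, hcA, ← mul_assoc, pow_two] at h
    exact Nat.eq_of_mul_eq_mul_right (Fact.out : p.Prime).pos (Nat.eq_of_mul_eq_mul_right Nat.card_pos h)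
  obtain ⟨R, hR⟩ := (centralized_automized_of_fullyNormalized hS hF hAn).2.2
  have hs : IsTransvectionSetting p G T Zc Dc := by
    refine ⟨hcomm, fun H hH hHp => ?_, hTG, hcardT, ?_, ?_, ?_, ?_, ?_, ?_, ?_⟩
    · obtain ⟨Q, hQ⟩ := (hHp.of_equiv (Subgroup.subgroupOfEquivOfLe hH).symm).exists_le_sylow
      have h1 := Subgroup.card_le_of_le hQ
      rw [Nat.card_congr (Subgroup.subgroupOfEquivOfLe hH).toEquiv, Sylow.card_eq_multiplicity,
        ← Sylow.card_eq_multiplicity R, hR,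
        Nat.card_congr (Subgroup.subgroupOfEquivOfLe hTG).toEquiv, hcardT] at h1
      exact h1
    · by_contra hno
      push Not at hno
      haveI : (T.subgroupOf G).Normal := ⟨fun u hu g =>
        Subgroup.mem_subgroupOf.mpr (hno g g.2 u hu)⟩
      have hTp : IsPGroup p (T.subgroupOf G) := hR ▸ R.2
      have hle : T ≤ Inn A := by
        intro u hu
        rw [← hrad.2]
        exact ⟨⟨u, hTG hu⟩, le_sSup (show T.subgroupOf G ∈
          {N : Subgroup G | N.Normal ∧ IsPGroup p N} from ⟨inferInstance, hTp⟩) hu, rfl⟩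
      have hbot : T = ⊥ := (Subgroup.eq_bot_iff_forall T).mpr fun u hu => by
        obtain ⟨q, hq⟩ := hle hu
        rw [← hq]
        exact MulEquiv.ext fun a => by
          show q * a * q⁻¹ = a
          rw [hcomm q a, mul_inv_cancel_right]
      rw [hbot, Subgroup.card_bot] at hcardT
      exact (Fact.out : p.Prime).ne_one hcardT.symm
    · exact fun d hd => hz.D_le hd
    · rw [Nat.card_congr (Subgroup.subgroupOfEquivOfLe hDA).toEquiv, hz.card_D]
    · have h := Zc.index_mul_card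
      rw [Nat.card_congr (Subgroup.subgroupOfEquivOfLe hZA).toEquiv, hcA] at h
      exact Nat.eq_of_mul_eq_mul_right Nat.card_pos h
    · intro u hu z hzZ
      obtain ⟨g, hg, hx⟩ := mem_autInducedBy_iff.mp hu
      exact Subtype.ext (by rw [hx, hz.central (z : Ω) hzZ g hg, mul_inv_cancel_right])
    · intro u hu a
      obtain ⟨g, hg, hx⟩ := mem_autInducedBy_iff.mp hu
      show (a : Ω)⁻¹ * ((u a : A) : Ω) ∈ D
      rw [hx]
      have h := hz.comm_mem (a : Ω)⁻¹ (S.inv_mem (hAS a.2)) g hg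
      simpa [mul_assoc] using h
    · intro u hu hu1 a ha
      obtain ⟨g, hg, hx⟩ := mem_autInducedBy_iff.mp hu
      have hgA : g ∉ A := fun hgA => hu1 (MulEquiv.ext fun b => Subtype.ext (by
        rw [hx, hz.comm_of_card hAS hZA hcA hgA b.2, mul_inv_cancel_right]; rfl))
      let B := centralizerIn S (Subgroup.zpowers (a : Ω))
      have hAB : A ≤ B := fun b hb => ⟨hAS hb, fun c hc =>
        hz.comm_of_card hAS hZA hcA ((Subgroup.zpowers_le.mpr a.2) hc) hb⟩
      have hgB : g ∈ B := by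
        refine ⟨hg, fun c hc => ?_⟩
        obtain ⟨i, rfl⟩ := hc
        have h1 := hx a
        rw [ha] at h1
        have h2 : Commute g (a : Ω) := (mul_inv_eq_iff_eq_mul.mp h1.symm)
        exact (h2.zpow_right i).eq.symm
      have hlt : A < B := lt_of_le_of_ne hAB fun h => hgA (h ▸ hgB)
      have hBS := hz.eq_top_of_lt hcA hlt (centralizerIn_le S _) hS
      exact hz.mem_Z a (hAS a.2) fun s hsS =>
        ((hBS.ge hsS).2 _ (Subgroup.mem_zpowers _)).symm
  obtain ⟨K, M, hKZ, hDM, hMc, hMK, hMKtop, hDKZ, hMZ, hKinv, hMinv, hMp, hfac, hν⟩ :=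
    hs.exists_decomposition (isPGroup_of_le hS hAS)
  have hnorm : ∀ X Y : Subgroup A, X ≤ Subgroup.normalizer (Y : Set A) := fun X Y x _ =>
    Subgroup.mem_normalizer_iff.mpr fun y => by rw [hcomm x y, mul_inv_cancel_right]
  have hmul : ∀ {X Y : Subgroup A} {a : A}, a ∈ X ⊔ Y → ∃ x ∈ X, ∃ y ∈ Y, x * y = a := by
    intro X Y a ha
    have ha' : a ∈ ((X ⊔ Y : Subgroup A) : Set A) := ha
    rw [Subgroup.coe_mul_of_left_le_normalizer_right X Y (hnorm _ _)] at ha'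
    exact Set.mem_mul.mp ha'
  refine ⟨K.map A.subtype, M.map A.subtype, hAS, hZA, hcA, ?_, fun d hd => ⟨⟨d, hDA hd⟩, hDM hd, rfl⟩,
    Subgroup.map_subtype_le M, by rw [Subgroup.card_map_of_injective A.subtype_injective, hMc],
    fun a ha => ?_, fun z hzZ => ?_, ?_, ?_, ?_, ?_, ?_, ?_, ?_⟩
  · rintro _ ⟨k, hk, rfl⟩
    exact hKZ hk
  · obtain ⟨m, hm, k, hk, he⟩ := hmul (hMKtop ▸ Subgroup.mem_top (⟨a, ha⟩ : A) : _ ∈ M ⊔ K)
    exact ⟨m, ⟨m, hm, rfl⟩, k, ⟨k, hk, rfl⟩, congrArg Subtype.val he⟩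
  · obtain ⟨d, hd, k, hk, he⟩ := hmul (hDKZ.ge (show (⟨z, hZA hzZ⟩ : A) ∈ Zc from hzZ))
    exact ⟨d, hd, k, ⟨k, hk, rfl⟩, congrArg Subtype.val he⟩
  · refine le_antisymm ?_ fun d hd => ⟨⟨⟨d, hDA hd⟩, hDM hd, rfl⟩, hz.D_le hd⟩
    rintro _ ⟨⟨m, hm, rfl⟩, hmZ⟩
    exact hMZ.le ⟨hm, hmZ⟩
  · refine (Subgroup.eq_bot_iff_forall _).mpr ?_
    rintro _ ⟨⟨k, hk, rfl⟩, hkD⟩
    have : k ∈ M ⊓ K := ⟨hDM hkD, hk⟩
    rw [hMK, Subgroup.mem_bot] at this
    rw [this, map_one]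
  · rintro _ ⟨m, hm, rfl⟩
    rw [← map_pow, hMp m hm, map_one]
  · rintro g hg a ⟨k, hk, he⟩
    rw [show a = k from Subtype.ext he.symm]
    exact ⟨g k, hKinv g hg k hk, rfl⟩
  · rintro g hg a ⟨k, hk, he⟩
    rw [show a = k from Subtype.ext he.symm]
    exact ⟨g k, hMinv g hg k hk, rfl⟩
  · intro g hg a
    obtain ⟨l, hl, hlM, hlT⟩ := hfac g hg
    obtain ⟨h, hh, hhx⟩ := exists_extend_top hS hF hAn hn (G.mul_mem (G.inv_mem hl) hg) hlT
    refine ⟨h, hh, (l⁻¹ * g) a, fun h' => hhx a, ((l⁻¹ * g) a)⁻¹ * g a, ?_, rfl⟩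
    have h1 := hlM ((l⁻¹ * g) a)
    rw [MulAut.mul_apply, MulAut.apply_inv_self] at h1
    exact h1
  · intro hp
    obtain ⟨ν, hνG, hνM, hνK, hνT⟩ := hν hp
    obtain ⟨β, hβ, hβx⟩ := exists_extend_top hS hF hAn hn hνG fun u hu => by
      rw [hνT u hu]; exact hu
    refine ⟨β, hβ, fun d hd => ?_, fun k hk => ?_, fun s => ?_⟩
    · apply Subtype.ext
      have h := hβx ⟨d, hDA hd⟩
      rw [hνM _ (hDM hd)] at h
      exact h
    · obtain ⟨k', hk', he⟩ := hk
      apply Subtype.ext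
      rw [show k = ⟨(k' : Ω), hAS k'.2⟩ from Subtype.ext he.symm, hβx, hνK k' hk']
    · have hu : conjAut A (s : Ω) (hn s.2) ∈ T := conjAut_mem s.2 (hn s.2)
      have hβA : ∀ a : A, ((β ⟨a, hAS a.2⟩ : S) : Ω) = ν a := hβx
      refine hC ⟨((s⁻¹ * β s : S)).2, fun a ha => ?_⟩
      obtain ⟨a', ha'⟩ := ν.surjective ⟨a, ha⟩
      have h1 := congrArg (fun f : MulAut A => ((f ⟨a, ha⟩ : A) : Ω)) (hνT _ hu)
      have h2 : ν⁻¹ ⟨a, ha⟩ = a' := by rw [← ha', MulAut.inv_apply_self]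
      simp only [MulAut.mul_apply, h2] at h1
      have h3 : ((ν (conjAut A (s : Ω) (hn s.2) a') : A) : Ω) =
          (β s : S) * a * ((β s : S) : Ω)⁻¹ := by
        rw [← hβA]
        have e : (⟨((conjAut A (s : Ω) (hn s.2) a' : A) : Ω), hAS (conjAut A (s : Ω) (hn s.2) a').2⟩ : S) =
            s * ⟨a', hAS a'.2⟩ * s⁻¹ := Subtype.ext rfl
        rw [e, map_mul, map_mul, map_inv, Subgroup.coe_mul, Subgroup.coe_mul, Subgroup.coe_inv, hβA,
          show ((ν a' : A) : Ω) = a from congrArg Subtype.val ha']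
      rw [h3] at h1
      have h4 : ((conjAut A (s : Ω) (hn s.2) ⟨a, ha⟩ : A) : Ω) = (s : Ω) * a * (s : Ω)⁻¹ := rfl
      rw [h4] at h1
      show a * ((s : Ω)⁻¹ * (β s : S)) = ((s : Ω)⁻¹ * (β s : S)) * a
      calc a * ((s : Ω)⁻¹ * (β s : S)) = (s : Ω)⁻¹ * ((s : Ω) * a * (s : Ω)⁻¹) * (β s : S) := by group
        _ = (s : Ω)⁻¹ * ((β s : S) * a * ((β s : S) : Ω)⁻¹) * (β s : S) := by rw [h1]
        _ = ((s : Ω)⁻¹ * (β s : S)) * a := by group

theorem EssData.diff_mem (hz : IsSmallCenter p S Z D) {A K M : Subgroup Ω}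
    (hd : EssData p F Z D A K M) (γ : MulAut S) (hγD : ∀ d : S, (d : Ω) ∈ D → γ d = d⁻¹)
    (hγK : ∀ k : S, (k : Ω) ∈ K → γ k = k) (z : S) (hzZ : (z : Ω) ∈ Z) :
    ((z⁻¹ * γ z : S) : Ω) ∈ D := by
  obtain ⟨d, hdD, k, hk, he⟩ := hd.DK z hzZ
  rw [show z = ⟨d, hz.D_le_S hdD⟩ * ⟨k, hz.Z_le (hd.K_le hk)⟩ from Subtype.ext he.symm, map_mul,
    hγD _ hdD, hγK _ hk]
  show ((d * k)⁻¹ * (d⁻¹ * k) : Ω) ∈ D
  have hc : Commute k d := hz.central d (hz.D_le hdD) k (hz.Z_le (hd.K_le hk))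
  have e : (d * k)⁻¹ * (d⁻¹ * k) = d⁻¹ * d⁻¹ := by
    rw [← hc.inv_right.eq, ← mul_assoc, mul_inv_rev, mul_assoc k⁻¹, hc.symm.inv_left.eq,
      inv_mul_cancel_left]
  rw [e]
  exact D.mul_mem (D.inv_mem hdD) (D.inv_mem hdD)

section Main

variable (hS : IsPGroup p S) (hF : F.IsSaturated p) (hz : IsSmallCenter p S Z D)

include hS hF in
theorem exists_essential (hS1 : S ≠ ⊥) (hcore : F.core = ⊥) : ∃ A, F.IsEssential p A := by
  by_contra h
  push Not at h
  refine hS1 (le_bot_iff.mp (hcore ▸ CfsgLib.FusionBasics.le_core ?_))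
  refine CfsgLib.FusionBasics.isNormal_of_generators hS hF fun P hP => ?_
  rcases hP with rfl | hP
  · exact ⟨le_rfl, fun α _ x _ => (α x).2⟩
  · exact absurd hP (h P)

include hS hF hz in
/-- Odd `p`: the centre is the derived group and the exponent is `p`. -/
theorem small_center_odd (hD : D = ⁅S, S⁆) (hcore : F.core = ⊥) (hp : p ≠ 2) {A K M : Subgroup Ω}
    (hd : EssData p F Z D A K M) : Z = D ∧ ∀ s ∈ S, s ^ p = 1 := by
  haveI := finite_autGroup F (le_refl S)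
  obtain ⟨β, hβ, hβD, hβK, hβA⟩ := hd.invol hp
  have hodd : ∀ d ∈ D, d⁻¹ = d → d = 1 := fun d hdD h => by
    have h2 : d ^ 2 = 1 := by rw [pow_two]; nth_rw 1 [← h]; exact inv_mul_cancel d
    exact orderOf_eq_one_iff.mp (Nat.eq_one_of_dvd_coprimes
      ((Fact.out : p.Prime).coprime_iff_not_dvd.mpr fun h3 =>
        hp ((Nat.prime_dvd_prime_iff_eq Fact.out Nat.prime_two).mp h3))
      (orderOf_dvd_of_pow_eq_one (hz.D_pow hdD)) (orderOf_dvd_of_pow_eq_one h2))
  -- characterisation of `K`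
  have hK : ∀ γ : MulAut S, γ ∈ F.autGroup S → (∀ d : S, (d : Ω) ∈ D → γ d = d⁻¹) →
      (∀ z : S, (z : Ω) ∈ Z → ((z⁻¹ * γ z : S) : Ω) ∈ D) →
      ∀ z : S, (z : Ω) ∈ Z → (γ z = z ↔ (z : Ω) ∈ K) := by
    intro γ hγ hγD hγZ z hzZ
    have hβZ : ∀ z : S, (z : Ω) ∈ Z → ∃ d : S, (d : Ω) ∈ D ∧ ∃ k : S, (k : Ω) ∈ K ∧ d * k = z := by
      intro z hzZ
      obtain ⟨d, hdD, k, hk, he⟩ := hd.DK z hzZ
      exact ⟨⟨d, hz.D_le_S hdD⟩, hdD, ⟨k, hz.Z_le (hd.K_le hk)⟩, hk, Subtype.ext he⟩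
    have hβmod : ∀ z : S, (z : Ω) ∈ Z → ((z⁻¹ * β z : S) : Ω) ∈ D := hd.diff_mem hz β hβD hβK
    have heq : ∀ z : S, (z : Ω) ∈ Z → (β⁻¹ * γ) z = z := by
      refine hz.aut_fix_Z hS hF ⟨β⁻¹ * γ, (F.autGroup S).mul_mem ((F.autGroup S).inv_mem hβ) hγ⟩
        (fun d hdD => ?_) fun z hzZ => ?_
      · show β⁻¹ (γ d) = d
        rw [hγD d hdD, show d⁻¹ = β d from (hβD d hdD).symm, MulAut.inv_apply_self]
      · show ((z⁻¹ * β⁻¹ (γ z) : S) : Ω) ∈ D
        have h1 := hγZ z hzZ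
        have hzw : ((β⁻¹ (γ z) : S) : Ω) ∈ Z := hz.aut_Z _ _ (hz.aut_Z _ _ hzZ)
        have h2 := hβmod _ hzw
        rw [MulAut.apply_inv_self] at h2
        have h3 := D.mul_mem h1 (D.inv_mem h2)
        simpa [mul_assoc] using h3
    have hγβ : γ z = β z := by
      conv_rhs => rw [← heq z hzZ]
      rw [MulAut.mul_apply, MulAut.apply_inv_self]
    rw [hγβ]
    refine ⟨fun h => ?_, hβK z⟩
    obtain ⟨d, hdD, k, hk, rfl⟩ := hβZ z hzZ
    rw [map_mul, hβD d hdD, hβK k hk, mul_left_inj] at h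
    rw [show d = 1 from Subtype.ext (hodd _ hdD (congrArg Subtype.val h)), one_mul]
    exact hk
  have hinvK : ∀ {γ : MulAut S}, γ ∈ F.autGroup S → ∀ k : S, (k : Ω) ∈ K → ((γ k : S) : Ω) ∈ K := by
    intro γ hγ k hk
    have hkZ : (k : Ω) ∈ Z := hd.K_le hk
    refine ((hK β hβ hβD (hd.diff_mem hz β hβD hβK)) (γ k) (hz.aut_Z γ k hkZ)).mp ?_
    have hmem : γ⁻¹ * β * γ ∈ F.autGroup S :=
      (F.autGroup S).mul_mem ((F.autGroup S).mul_mem ((F.autGroup S).inv_mem hγ) hβ) hγ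
    have h1 : (γ⁻¹ * β * γ) k = k := by
      refine (hK _ hmem (fun d hdD => ?_) (fun z hzZ => ?_) k hkZ).mpr hk
      · show γ⁻¹ (β (γ d)) = d⁻¹
        rw [hβD _ (hz.aut_D hD γ d hdD), map_inv, MulAut.inv_apply_self]
      · show ((z⁻¹ * γ⁻¹ (β (γ z)) : S) : Ω) ∈ D
        have hγz := hz.aut_Z γ z hzZ
        have h2 : z⁻¹ * γ⁻¹ (β (γ z)) = γ⁻¹ ((γ z)⁻¹ * β (γ z)) := by
          rw [map_mul, map_inv, MulAut.inv_apply_self]
        rw [h2]
        exact hz.aut_D hD _ _ (hd.diff_mem hz β hβD hβK _ hγz)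
    have h2 := congrArg γ h1
    rw [MulAut.mul_apply, MulAut.mul_apply, MulAut.apply_inv_self] at h2
    exact h2
  have hKnormal : F.IsNormal K := by
    refine CfsgLib.FusionBasics.isNormal_of_generators hS hF fun P hP => ?_
    rcases hP with rfl | hP
    · exact ⟨hd.K_le.trans hz.Z_le, fun α hα x hx => hinvK hα x hx⟩
    · obtain ⟨K', M', hd'⟩ := exists_essData hS hF hz hP
      refine ⟨hd.K_le.trans hd'.Z_le, fun α hα x hx => ?_⟩
      obtain ⟨β', hβ', hβ'D, hβ'K, -⟩ := hd'.invol hp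
      have key : ∀ z : S, (z : Ω) ∈ Z → ((z : Ω) ∈ K ↔ (z : Ω) ∈ K') := by
        intro z hzZ
        have hmod := hd'.diff_mem hz β' hβ'D hβ'K
        rw [← hK β' hβ' hβ'D hmod z hzZ]
        refine ⟨fun h => ?_, hβ'K z⟩
        obtain ⟨d, hdD, k', hk', he⟩ := hd'.DK z hzZ
        rw [show z = ⟨d, hz.D_le_S hdD⟩ * ⟨k', hz.Z_le (hd'.K_le hk')⟩ from Subtype.ext he.symm,
          map_mul, hβ'D _ hdD, hβ'K _ hk', mul_left_inj] at h
        rw [← he, hodd d hdD (congrArg Subtype.val h), one_mul]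
        exact hk'
      have hxZ : (x : Ω) ∈ Z := hd.K_le hx
      have h1 := hd'.K_inv α hα x ((key ⟨x, hz.Z_le hxZ⟩ hxZ).mp hx)
      exact (key ⟨(α x : P), hz.Z_le (hd'.K_le h1)⟩ (hd'.K_le h1)).mpr h1
  have hKbot : K = ⊥ := le_bot_iff.mp (hcore ▸ CfsgLib.FusionBasics.le_core hKnormal)
  have hAM : A ≤ M := fun a ha => by
    obtain ⟨m, hm, k, hk, rfl⟩ := hd.MK a ha
    rw [hKbot, Subgroup.mem_bot] at hk
    rw [hk, mul_one]
    exact hm
  have hZD : Z = D := by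
    refine le_antisymm (fun z hzZ => ?_) hz.D_le
    obtain ⟨d, hdD, k, hk, rfl⟩ := hd.DK z hzZ
    rw [hKbot, Subgroup.mem_bot] at hk
    rw [hk, mul_one]
    exact hdD
  refine ⟨hZD, fun s hs => ?_⟩
  have haM := hAM (hβA ⟨s, hs⟩)
  set a : S := (⟨s, hs⟩ : S)⁻¹ * β ⟨s, hs⟩
  have hap : a ^ p = 1 := Subtype.ext (hd.M_pow _ haM)
  have hsp : ((⟨s, hs⟩ : S) ^ p : S).1 ∈ D := hZD ▸ hz.pow_mem s hs
  have hcent : ⁅a, (⟨s, hs⟩ : S)⁆ ∈ Subgroup.center S := Subgroup.mem_center_iff.mpr fun t =>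
    Subtype.ext (hz.central _ (hz.D_le (by
      have := hz.comm_mem a a.2 s hs
      simpa [commutatorElement_def] using this)) t t.2)
  have h1 := CfsgLib.PGroups.mul_pow_of_central_odd hcent ((Fact.out : p.Prime).odd_of_ne_two hp)
    (Subtype.ext (hz.D_pow (by
      have := hz.comm_mem a a.2 s hs
      simpa [commutatorElement_def] using this)))
  have h2 : β ((⟨s, hs⟩ : S) ^ p) = (⟨s, hs⟩ : S) ^ p := by
    rw [map_pow, show β ⟨s, hs⟩ = ⟨s, hs⟩ * a by simp [a], h1, hap, mul_one]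
  rw [hβD _ hsp] at h2
  exact hodd _ hsp (congrArg Subtype.val h2)

end Main

section Two

variable [Fact (Nat.Prime 2)] (hS : IsPGroup 2 S) (hF : F.IsSaturated 2)
  (hz : IsSmallCenter 2 S Z D)

include hz in
theorem mul_self_of_pow {x : Ω} (h : x ^ 2 = 1) : x * x = 1 := by rw [← pow_two]; exact h

include hz in
/-- An element of `A` outside `Z` in a `p = 2` setting, of order `2`. -/
theorem EssData.exists_invol {A K M : Subgroup Ω} (hd : EssData 2 F Z D A K M) :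
    ∃ x ∈ M, x ∉ Z ∧ x * x = 1 := by
  haveI := finite_of_le (hd.M_le.trans hd.A_le)
  haveI := finite_of_le hz.D_le_S
  by_contra h
  push Not at h
  have hle : M ≤ D := fun x hx => by
    by_contra hxD
    exact h x hx (fun hxZ => hxD (hd.MZ.le ⟨hx, hxZ⟩)) (mul_self_of_pow hz (hd.M_pow x hx))
  have h1 := Subgroup.card_le_of_le hle
  rw [hd.card_M, hz.card_D] at h1
  omega

include hz hS in
/-- Two elements outside `Z` in the same `A` differ by an element of `Z`. -/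
theorem EssData.diff_mem_Z {A K M : Subgroup Ω} (hd : EssData 2 F Z D A K M) {x y : Ω} (hx : x ∈ A)
    (hxZ : x ∉ Z) (hy : y ∈ A) (hyZ : y ∉ Z) : x⁻¹ * y ∈ Z := by
  haveI := finite_of_le hd.A_le
  haveI := finite_of_le hz.Z_le
  have hi : (Z.subgroupOf A).index = 2 := by
    have h := (Z.subgroupOf A).index_mul_card
    rw [Nat.card_congr (Subgroup.subgroupOfEquivOfLe hd.Z_le).toEquiv, hd.card_A] at h
    exact Nat.eq_of_mul_eq_mul_right Nat.card_pos h
  have h := (Subgroup.mul_mem_iff_of_index_two hi (a := (⟨x, hx⟩ : A)⁻¹) (b := ⟨y, hy⟩)).mpr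
    (iff_of_false (fun h => hxZ ((Z.subgroupOf A).inv_mem_iff.mp h)) hyZ)
  exact h

include hz hS in
theorem EssData.diff_mem_A {A K M : Subgroup Ω} (hd : EssData 2 F Z D A K M) {x y : Ω} (hx : x ∈ S)
    (hxA : x ∉ A) (hy : y ∈ S) (hyA : y ∉ A) : x⁻¹ * y ∈ A := by
  haveI := finite_of_le hd.A_le
  haveI := finite_of_le hz.Z_le
  have hi : (A.subgroupOf S).index = 2 := by
    have h := (A.subgroupOf S).index_mul_card
    rw [Nat.card_congr (Subgroup.subgroupOfEquivOfLe hd.A_le).toEquiv, hz.card_S, hd.card_A,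
      pow_two, mul_assoc] at h
    exact Nat.eq_of_mul_eq_mul_right (Nat.mul_pos two_pos Nat.card_pos) h
  have h := (Subgroup.mul_mem_iff_of_index_two hi (a := (⟨x, hx⟩ : S)⁻¹) (b := ⟨y, hy⟩)).mpr
    (iff_of_false (fun h => hxA ((A.subgroupOf S).inv_mem_iff.mp h)) hyA)
  exact h

include hz hS in
/-- There are no involutions in all three cosets of `Z` outside `Z`. -/
theorem EssData.no_three {A K M : Subgroup Ω} (hd : EssData 2 F Z D A K M) {x y : Ω} (hx : x ∈ A)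
    (hxZ : x ∉ Z) (hx2 : x * x = 1) (hy : y ∈ S) (hyA : y ∉ A) (hy2 : y * y = 1) {z : Ω}
    (hzZ : z ∈ Z) : (x * y * z) * (x * y * z) ≠ 1 := by
  intro h
  have hxS := hd.A_le hx
  have hc : (x * y) * z = z * (x * y) := hz.central z hzZ _ (S.mul_mem hxS hy)
  have h1 : (x * y) * (x * y) * (z * z) = 1 := by
    rw [← h]
    calc x * y * (x * y) * (z * z) = x * y * ((x * y) * z) * z := by simp only [mul_assoc]
      _ = x * y * (z * (x * y)) * z := by rw [hc]
      _ = x * y * z * (x * y * z) := by simp only [mul_assoc]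
  obtain ⟨d, hdD, k, hk, rfl⟩ := hd.DK z hzZ
  have hdk : Commute d k := (hz.central d (hz.D_le hdD) k (hz.Z_le (hd.K_le hk))).symm
  have h2 : d * k * (d * k) = k * k := by
    have hd2 := mul_self_of_pow hz (hz.D_pow hdD)
    calc d * k * (d * k) = d * (k * d) * k := by simp only [mul_assoc]
      _ = d * (d * k) * k := by rw [hdk.symm.eq]
      _ = k * k := by rw [← mul_assoc d d, hd2, one_mul]
  rw [h2] at h1
  have hcD : x * y * (x * y) ∈ D := by
    have := hz.comm_mem x hxS y hy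
    rwa [inv_eq_of_mul_eq_one_left hx2, inv_eq_of_mul_eq_one_left hy2, mul_assoc (x * y)] at this
  have hkk : k * k ∈ K ⊓ D := ⟨K.mul_mem hk hk,
    (eq_inv_of_mul_eq_one_right h1) ▸ D.inv_mem hcD⟩
  rw [hd.KD, Subgroup.mem_bot] at hkk
  rw [hkk, mul_one] at h1
  -- hence `x` and `y` commute
  have hxy : y * x = x * y := by
    calc y * x = (x * x) * y * x * (y * y) := by rw [hx2, hy2, one_mul, mul_one]
      _ = x * (x * y * (x * y)) * y := by simp only [mul_assoc]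
      _ = x * y := by rw [h1, mul_one]
  let B := centralizerIn S (Subgroup.zpowers x)
  have hAB : A ≤ B := fun b hb => ⟨hd.A_le hb, fun c hc =>
    hz.comm_of_card hd.A_le hd.Z_le hd.card_A ((Subgroup.zpowers_le.mpr hx) hc) hb⟩
  have hyB : y ∈ B := by
    refine ⟨hy, fun c hc => ?_⟩
    obtain ⟨i, rfl⟩ := hc
    exact ((show Commute y x from hxy).zpow_right i).eq.symm
  have hlt : A < B := lt_of_le_of_ne hAB fun h => hyA (h ▸ hyB)
  have hBS := hz.eq_top_of_lt hd.card_A hlt (centralizerIn_le S _) hS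
  exact hxZ (hz.mem_Z x hxS fun s hsS => ((hBS.ge hsS).2 _ (Subgroup.mem_zpowers _)).symm)

include hz hS hF in
/-- `Aut_F(S)` acts trivially on `S / Z`. -/
theorem aut_mod_Z {A K M : Subgroup Ω} (hd : EssData 2 F Z D A K M) {h : MulAut S}
    (hh : h ∈ F.autGroup S) (s : S) : ((s⁻¹ * h s : S) : Ω) ∈ Z := by
  haveI := finite_autGroup F (le_refl S)
  let N : Subgroup (F.autGroup S) :=
    { carrier := {a | ∀ s : S, ((s⁻¹ * (a : MulAut S) s : S) : Ω) ∈ Z}
      one_mem' := fun s => by simp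
      mul_mem' := fun {a b} ha hb s => by
        show ((s⁻¹ * (a : MulAut S) ((b : MulAut S) s) : S) : Ω) ∈ Z
        have := Z.mul_mem (hb s) (ha ((b : MulAut S) s))
        simpa [mul_assoc] using this
      inv_mem' := fun {a} ha s => by
        show ((s⁻¹ * (a : MulAut S)⁻¹ s : S) : Ω) ∈ Z
        have := Z.inv_mem (ha ((a : MulAut S)⁻¹ s))
        simpa using this }
  haveI : N.Normal := ⟨fun a ha b s => by
    show ((s⁻¹ * (b : MulAut S) ((a : MulAut S) ((b : MulAut S)⁻¹ s)) : S) : Ω) ∈ Z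
    have h1 := hz.aut_Z (b : MulAut S) _ (ha ((b : MulAut S)⁻¹ s))
    rwa [map_mul, map_inv, MulAut.apply_inv_self] at h1⟩
  obtain ⟨R, hR⟩ := sylow_autGroup_top hS hF
  have hRN : (R : Subgroup (F.autGroup S)) ≤ N := by
    rw [hR]
    intro a ha t
    obtain ⟨g, hg, hx⟩ := mem_autInducedBy_iff.mp (Subgroup.mem_subgroupOf.mp ha)
    show (t : Ω)⁻¹ * (((a : MulAut S) t : S) : Ω) ∈ Z
    rw [hx]
    exact hz.conj_mem_Z hg t.2
  suffices hfx : ∀ x : S, (x : Ω) ∈ A → (x : Ω) ∉ Z → (x : Ω) * x = 1 →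
      ((x⁻¹ * h x : S) : Ω) ∈ Z by
    obtain ⟨x₀, hx₀M, hx₀Z, hx₀2⟩ := hd.exists_invol hz
    let x : S := ⟨x₀, hd.A_le (hd.M_le hx₀M)⟩
    have hxh := hfx x (hd.M_le hx₀M) hx₀Z hx₀2
    have hA : ∀ t : S, (t : Ω) ∈ A → ((h t : S) : Ω) ∈ A := by
      intro t ht
      by_cases htZ : (t : Ω) ∈ Z
      · exact hd.Z_le (hz.aut_Z h t htZ)
      · have hd' := hd.diff_mem_Z hS hz (hd.M_le hx₀M) hx₀Z ht htZ
        have e : h t = x * (x⁻¹ * h x) * h (x⁻¹ * t) := by rw [map_mul, map_inv]; group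
        rw [e]
        exact A.mul_mem (A.mul_mem (hd.M_le hx₀M) (hd.Z_le hxh))
          (hd.Z_le (hz.aut_Z h (x⁻¹ * t) hd'))
    have hA' : ∀ t : S, ((h t : S) : Ω) ∈ A → (t : Ω) ∈ A := by
      intro t ht
      haveI := finite_of_le hd.A_le
      let f : A → A := fun a => ⟨h ⟨a, hd.A_le a.2⟩, hA _ a.2⟩
      have hf : Function.Injective f := fun a b hab => by
        have h1 : (⟨a, hd.A_le a.2⟩ : S) = ⟨b, hd.A_le b.2⟩ :=
          h.injective (Subtype.ext (congrArg (fun w : A => (w : Ω)) hab))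
        exact Subtype.ext (congrArg (fun w : S => (w : Ω)) h1)
      obtain ⟨a, ha⟩ := (Finite.injective_iff_bijective.mp hf).2 ⟨h t, ht⟩
      have : (⟨a, hd.A_le a.2⟩ : S) = t := h.injective (Subtype.ext (congrArg (fun w : A => (w : Ω)) ha))
      rw [← this]
      exact a.2
    -- `h²` fixes `S/Z`, hence so does `h`
    have hsq : (⟨h, hh⟩ : F.autGroup S) ^ 2 ∈ N := by
      intro t
      have hd1 : ∀ t : S, ((t⁻¹ * h t : S) : Ω) ∈ A := by
        intro t
        by_cases htA : (t : Ω) ∈ A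
        · exact A.mul_mem (A.inv_mem htA) (hA t htA)
        · exact hd.diff_mem_A hS hz t.2 htA (h t).2 fun h' => htA (hA' t h')
      have hhZ : ∀ a : S, (a : Ω) ∈ A → ((a⁻¹ * h a : S) : Ω) ∈ Z := by
        intro a ha
        by_cases haZ : (a : Ω) ∈ Z
        · exact Z.mul_mem (Z.inv_mem haZ) (hz.aut_Z h a haZ)
        · refine hd.diff_mem_Z hS hz ha haZ (hA a ha) fun h' => haZ ?_
          have h1 := hz.aut_Z h⁻¹ (h a) h'
          rwa [MulAut.inv_apply_self] at h1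
      show ((t⁻¹ * h (h t) : S) : Ω) ∈ Z
      have h1 := hhZ _ (hd1 t)
      have h2 := hd1 t
      have e : t⁻¹ * h (h t) = (t⁻¹ * h t) * (t⁻¹ * h t) * ((t⁻¹ * h t)⁻¹ * h (t⁻¹ * h t)) := by
        rw [map_mul, map_inv]; group
      rw [e]
      refine Z.mul_mem ?_ h1
      have h3 := hz.pow_mem _ (t⁻¹ * h t).2
      rwa [pow_two] at h3
    exact mem_of_pow_prime_mem N R hRN hsq s
  intro x hxA hxZ hx2
  by_contra hne
  set y := h x with hy
  have hy2 : (y : Ω) * y = 1 := by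
    rw [hy, ← Subgroup.coe_mul, ← map_mul, show x * x = 1 from Subtype.ext hx2, map_one]; rfl
  have hyZ : (y : Ω) ∉ Z := fun h' => hxZ (by
    have h1 := hz.aut_Z h⁻¹ y h'
    rwa [hy, MulAut.inv_apply_self] at h1)
  have hyA : (y : Ω) ∉ A := fun h' => hne (hd.diff_mem_Z hS hz hxA hxZ h' hyZ)
  set w := h y with hw
  have hw2 : (w : Ω) * w = 1 := by
    rw [hw, ← Subgroup.coe_mul, ← map_mul, show y * y = 1 from Subtype.ext hy2, map_one]; rfl
  have hwZ : (w : Ω) ∉ Z := fun h' => hyZ (by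
    have h1 := hz.aut_Z h⁻¹ w h'
    rwa [hw, MulAut.inv_apply_self] at h1)
  by_cases hwA : (w : Ω) ∈ A
  · -- `h²` is trivial modulo `Z`
    have hxw := hd.diff_mem_Z hS hz hxA hxZ hwA hwZ
    have hsq : (⟨h, hh⟩ : F.autGroup S) ^ 2 ∈ N := by
      intro t
      show ((t⁻¹ * h (h t) : S) : Ω) ∈ Z
      have hgen : ∀ u : S, (u : Ω) ∈ A → ((u⁻¹ * h (h u) : S) : Ω) ∈ Z := by
        intro u hu
        by_cases huZ : (u : Ω) ∈ Z
        · exact Z.mul_mem (Z.inv_mem huZ) (hz.aut_Z h _ (hz.aut_Z h u huZ))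
        · have hd' := hd.diff_mem_Z hS hz hxA hxZ hu huZ
          have e : u⁻¹ * h (h u) = (x⁻¹ * u)⁻¹ * (x⁻¹ * h (h x)) * h (h (x⁻¹ * u)) := by
            simp only [map_mul, map_inv]; group
          rw [e]
          exact Z.mul_mem (Z.mul_mem (Z.inv_mem hd') hxw) (hz.aut_Z h _ (hz.aut_Z h _ hd'))
      by_cases htA : (t : Ω) ∈ A
      · exact hgen t htA
      · have hd' := hd.diff_mem_A hS hz y.2 hyA t.2 htA
        have hy' : ((y⁻¹ * h (h y) : S) : Ω) ∈ Z := by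
          have h1 := hz.aut_Z h (x⁻¹ * h (h x)) hxw
          rwa [map_mul, map_inv] at h1
        have h2 := hgen (y⁻¹ * t) hd'
        have hc : (y⁻¹ * h (h y)) * (y⁻¹ * t) = (y⁻¹ * t) * (y⁻¹ * h (h y)) :=
          Subtype.ext (hz.central _ hy' _ (y⁻¹ * t).2).symm
        have e : t⁻¹ * h (h t) =
            (y⁻¹ * h (h y)) * ((y⁻¹ * t)⁻¹ * h (h (y⁻¹ * t))) := by
          calc t⁻¹ * h (h t) = (y⁻¹ * t)⁻¹ * ((y⁻¹ * h (h y)) * (y⁻¹ * t)) *
                ((y⁻¹ * t)⁻¹ * h (h (y⁻¹ * t))) := by simp only [map_mul, map_inv]; group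
            _ = _ := by rw [hc]; group
        rw [e]
        exact Z.mul_mem hy' h2
    exact hne (mem_of_pow_prime_mem N R hRN hsq x)
  · have hd' := hd.diff_mem_A hS hz y.2 hyA w.2 hwA
    by_cases hdz : ((y⁻¹ * w : S) : Ω) ∈ Z
    · have h1 := hz.aut_Z h⁻¹ (y⁻¹ * w) hdz
      rw [map_mul, map_inv, hw, MulAut.inv_apply_self, hy, MulAut.inv_apply_self] at h1
      exact hne h1
    · have h1 : (x : Ω)⁻¹ * ((y : Ω)⁻¹ * w) ∈ Z := hd.diff_mem_Z hS hz hxA hxZ hd' hdz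
      have e : (w : Ω) = (y : Ω) * x * ((x : Ω)⁻¹ * ((y : Ω)⁻¹ * w)) := by group
      have hcD : ((x : Ω) * y)⁻¹ * ((y : Ω) * x) ∈ Z := by
        have := hz.D_le (hz.comm_mem (y : Ω)⁻¹ (S.inv_mem y.2) (x : Ω)⁻¹ (S.inv_mem x.2))
        simpa [mul_assoc] using this
      refine hd.no_three hS hz hxA hxZ hx2 y.2 hyA hy2 (Z.mul_mem hcD h1) ?_
      have e2 : (x : Ω) * y * (((x : Ω) * y)⁻¹ * ((y : Ω) * x) * ((x : Ω)⁻¹ * ((y : Ω)⁻¹ * w))) = w := by
        group
      rw [e2]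
      exact hw2

include hz hS hF in
theorem aut_A_mem {A K M : Subgroup Ω} (hd : EssData 2 F Z D A K M) {h : MulAut S}
    (hh : h ∈ F.autGroup S) :
    ∃ g ∈ F.autGroup A, ∀ a : A, ((g a : A) : Ω) = (h ⟨a, hd.A_le a.2⟩ : S) := by
  haveI := finite_of_le hd.A_le
  let φ : A →* Ω := (S.subtype.comp h.toMonoidHom).comp (Subgroup.inclusion hd.A_le)
  have hφ : φ ∈ F.Hom A := restrict_mem ((mem_autGroup_iff F le_rfl).mp hh) hd.A_le
  exact exists_aut_of_hom' F hφ fun a => by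
    have := A.mul_mem a.2 (hd.Z_le (aut_mod_Z hS hF hz hd hh (⟨a, hd.A_le a.2⟩ : S)))
    simp only [φ, MonoidHom.comp_apply]
    simpa [Subgroup.inclusion] using this

include hz hS in
theorem EssData.eq_of_mem {A K M B K' M' : Subgroup Ω} (hA : EssData 2 F Z D A K M)
    (hB : EssData 2 F Z D B K' M') {w : Ω} (hwA : w ∈ A) (hwB : w ∈ B) (hwZ : w ∉ Z) : A = B := by
  haveI := finite_of_le hA.A_le
  haveI := finite_of_le hB.A_le
  refine Subgroup.eq_of_le_of_card_ge (fun a ha => ?_) (by rw [hA.card_A, hB.card_A])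
  by_cases haZ : a ∈ Z
  · exact hB.Z_le haZ
  · have h1 := hA.diff_mem_Z hS hz hwA hwZ ha haZ
    have := B.mul_mem hwB (hB.Z_le h1)
    simpa using this

include hz hS hF in
set_option maxHeartbeats 800000 in
/-- For `p = 2` all essential subgroups have the same complement `K`. -/
theorem EssData.K_eq (hhyp : F.hyperfocalSubgroup 2 = S) {A K M B K' M' : Subgroup Ω}
    (hA : EssData 2 F Z D A K M) (hB : EssData 2 F Z D B K' M') (hAB : A ≠ B) : K = K' := by
  haveI := finite_of_le hz.Z_le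
  haveI := finite_of_le (hA.K_le.trans hz.Z_le)
  haveI := finite_of_le (hB.K_le.trans hz.Z_le)
  by_contra hne
  obtain ⟨x, hxM, hxZ, hx2⟩ := hA.exists_invol hz
  obtain ⟨y, hyM, hyZ, hy2⟩ := hB.exists_invol hz
  have hxA := hA.M_le hxM
  have hxS := hA.A_le hxA
  have hyS := hB.A_le (hB.M_le hyM)
  -- `U`
  set K₀ := K ⊓ K'
  set H₀ := D ⊔ K₀
  have hH₀Z : H₀ ≤ Z := sup_le hz.D_le (inf_le_left.trans hA.K_le)
  have hH₀lt : H₀ ≠ Z := by
    intro he
    apply hne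
    have hle : K ≤ K' := by
      intro k hk
      have hkH : k ∈ H₀ := he.ge (hA.K_le hk)
      have hkH' : k ∈ ((D ⊔ K₀ : Subgroup Ω) : Set Ω) := hkH
      rw [Subgroup.coe_mul_of_left_le_normalizer_right D K₀ fun d hd =>
        Subgroup.mem_normalizer_iff.mpr fun a => by
          refine ⟨fun ha => ?_, fun ha => ?_⟩
          · rwa [hz.central a (hA.K_le ha.1) d (hz.D_le_S hd), mul_inv_cancel_right]
          · have hc := hz.central _ (hA.K_le ha.1) d (hz.D_le_S hd)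
            have hc' : d * a * d⁻¹ = a := mul_left_cancel (hc.trans (by group))
            rwa [hc'] at ha] at hkH'
      obtain ⟨d, hd, k₀, hk₀, rfl⟩ := Set.mem_mul.mp hkH'
      have hd1 : d ∈ K ⊓ D := ⟨by simpa using K.mul_mem hk (K.inv_mem hk₀.1), hd⟩
      rw [hA.KD, Subgroup.mem_bot] at hd1
      rw [hd1, one_mul]
      exact hk₀.2
    refine le_antisymm hle fun k hk => ?_
    obtain ⟨d, hd, k₁, hk₁, rfl⟩ := hA.DK k (hB.K_le hk)
    have hd1 : d ∈ K' ⊓ D := ⟨by simpa using K'.mul_mem hk (K'.inv_mem (hle hk₁)), hd⟩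
    rw [hB.KD, Subgroup.mem_bot] at hd1
    rw [hd1, one_mul]
    exact hk₁
  set N := H₀.subgroupOf S
  have hcN : ∀ n : S, (n : Ω) ∈ H₀ → ∀ s : S, s * n = n * s := fun n hn s =>
    Subtype.ext (hz.central n (hH₀Z hn) s s.2)
  haveI hNn : N.Normal := ⟨fun n hn g => by rwa [hcN n hn g, mul_inv_cancel_right]⟩
  let q := QuotientGroup.mk' N
  have hqcomm : ∀ a b : S ⧸ N, a * b = b * a := by
    intro a b
    obtain ⟨a, rfl⟩ := QuotientGroup.mk'_surjective N a
    obtain ⟨b, rfl⟩ := QuotientGroup.mk'_surjective N b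
    rw [← map_mul, ← map_mul]
    refine QuotientGroup.eq.mpr ?_
    show (((a * b)⁻¹ * (b * a) : S) : Ω) ∈ H₀
    have := hz.comm_mem (b : Ω)⁻¹ (S.inv_mem b.2) (a : Ω)⁻¹ (S.inv_mem a.2)
    exact Subgroup.mem_sup_left (by simpa [mul_assoc] using this)
  let X := Subgroup.zpowers (q ⟨x, hxS⟩)
  let Y := Subgroup.zpowers (q ⟨y, hyS⟩)
  haveI : Y.Normal := ⟨fun n hn g => by rwa [hqcomm g n, mul_inv_cancel_right]⟩
  have hcard2 : ∀ (w : Ω) (hw : w ∈ S), w * w = 1 →
      Nat.card (Subgroup.zpowers (q ⟨w, hw⟩)) ≤ 2 := fun w hw hw2 => by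
    rw [Nat.card_zpowers]
    refine Nat.le_of_dvd two_pos (orderOf_dvd_of_pow_eq_one ?_)
    rw [← map_pow, pow_two, show (⟨w, hw⟩ : S) * ⟨w, hw⟩ = 1 from Subtype.ext hw2, map_one]
  have hXY : Nat.card (X ⊔ Y : Subgroup (S ⧸ N)) ≤ 4 :=
    (Nat.le_of_dvd (Nat.mul_pos Nat.card_pos Nat.card_pos) (CfsgLib.Cores.card_sup_dvd X Y)).trans
      (Nat.mul_le_mul (hcard2 x hxS hx2) (hcard2 y hyS hy2))
  set U := ((X ⊔ Y).comap q).map S.subtype with hU
  have hUS : U ≠ S := by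
    intro he
    have h1 : Nat.card U = Nat.card N * Nat.card (X ⊔ Y : Subgroup (S ⧸ N)) := by
      rw [hU, Subgroup.card_map_of_injective S.subtype_injective]
      exact CfsgLib.Cores.card_comap_mk' N (X ⊔ Y)
    have h2 : Nat.card N < Nat.card Z := by
      rw [Nat.card_congr (Subgroup.subgroupOfEquivOfLe (hH₀Z.trans hz.Z_le)).toEquiv]
      exact lt_of_le_of_ne (Subgroup.card_le_of_le hH₀Z)
        fun h => hH₀lt (Subgroup.eq_of_le_of_card_ge hH₀Z h.ge)
    rw [he, hz.card_S] at h1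
    have h3 : Nat.card N * Nat.card (X ⊔ Y : Subgroup (S ⧸ N)) ≤ Nat.card N * 4 :=
      Nat.mul_le_mul_left _ hXY
    omega
  have hUmem : ∀ {a : Ω} (ha : a ∈ S), q ⟨a, ha⟩ ∈ X ⊔ Y → a ∈ U :=
    fun ha h => ⟨⟨_, ha⟩, h, rfl⟩
  have hH₀U : H₀ ≤ U := fun a ha => hUmem (hz.Z_le (hH₀Z ha)) (by
    rw [show q ⟨a, hz.Z_le (hH₀Z ha)⟩ = 1 from (QuotientGroup.eq_one_iff _).mpr ha]
    exact one_mem _)
  have hxU : x ∈ U := hUmem hxS (Subgroup.mem_sup_left (Subgroup.mem_zpowers _))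
  have hyU : y ∈ U := hUmem hyS (Subgroup.mem_sup_right (Subgroup.mem_zpowers _))
  have hMU : ∀ {C L N' : Subgroup Ω}, EssData 2 F Z D C L N' → ∀ {w : Ω}, w ∈ N' → w ∉ Z → w ∈ U →
      N' ≤ U := by
    intro C L N' hC w hw hwZ hwU m hm
    by_cases hmZ : m ∈ Z
    · exact hH₀U (Subgroup.mem_sup_left (hC.MZ.le ⟨hm, hmZ⟩))
    · have h1 : w⁻¹ * m ∈ D := hC.MZ.le ⟨N'.mul_mem (N'.inv_mem hw) hm,
        hC.diff_mem_Z hS hz (hC.M_le hw) hwZ (hC.M_le hm) hmZ⟩
      have := U.mul_mem hwU (hH₀U (Subgroup.mem_sup_left h1))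
      simpa using this
  -- the maps of `Aut_F(S)`
  have hhD : ∀ {C L N' : Subgroup Ω}, EssData 2 F Z D C L N' → ∀ {w : Ω} (hw : w ∈ N'), w ∉ Z →
      ∀ h ∈ F.autGroup S, ∀ (hwS : w ∈ S), ((⟨w, hwS⟩⁻¹ * h ⟨w, hwS⟩ : S) : Ω) ∈ D := by
    intro C L N' hC w hw hwZ h hh hwS
    obtain ⟨g, hg, hgx⟩ := aut_A_mem hS hF hz hC hh
    refine hC.MZ.le ⟨N'.mul_mem (N'.inv_mem hw) ?_, aut_mod_Z hS hF hz hC hh _⟩
    have := hC.M_inv g hg ⟨w, hC.M_le hw⟩ hw
    rwa [hgx] at this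
  have hhU : ∀ h ∈ F.autGroup S, ∀ s : S, ((s⁻¹ * h s : S) : Ω) ∈ U := by
    intro h hh s
    let x' : S := ⟨x, hxS⟩
    let y' : S := ⟨y, hyS⟩
    have hZU : ∀ z : S, (z : Ω) ∈ Z → ((z⁻¹ * h z : S) : Ω) ∈ U := by
      intro z hzZ
      have key : ∀ {C L N' : Subgroup Ω}, EssData 2 F Z D C L N' →
          ((z⁻¹ * h z : S) : Ω) ∈ L := by
        intro C L N' hC
        obtain ⟨d, hd, k, hk, he⟩ := hC.DK z hzZ
        obtain ⟨g, hg, hgx⟩ := aut_A_mem hS hF hz hC hh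
        have hkS : k ∈ S := hz.Z_le (hC.K_le hk)
        have e1 : z = ⟨d, hz.D_le_S hd⟩ * ⟨k, hkS⟩ := Subtype.ext he.symm
        have hdd : h ⟨d, hz.D_le_S hd⟩ = ⟨d, hz.D_le_S hd⟩ := by
          by_cases hd1 : d = 1
          · rw [show (⟨d, hz.D_le_S hd⟩ : S) = 1 from Subtype.ext hd1, map_one]
          · have hmem : ((h ⟨d, hz.D_le_S hd⟩ : S) : Ω) ∈ D := by
              obtain ⟨g', hg', hg'x⟩ := aut_A_mem hS hF hz hC hh
              refine hC.MZ.le ⟨?_, hz.aut_Z h _ (hz.D_le hd)⟩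
              have := hC.M_inv g' hg' ⟨d, hC.M_le (hC.D_le hd)⟩ (hC.D_le hd)
              rwa [hg'x] at this
            haveI := finite_of_le hz.D_le_S
            obtain ⟨i, hi⟩ := mem_zpowers_of_prime_card (G := D) hz.card_D (g := ⟨d, hd⟩)
              (g' := ⟨_, hmem⟩) fun h' => hd1 (congrArg Subtype.val h')
            have hi' : d ^ i = (h ⟨d, hz.D_le_S hd⟩ : S) := congrArg Subtype.val hi
            have hd2 : d * d = 1 := mul_self_of_pow hz (hz.D_pow hd)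
            rcases Int.even_or_odd' i with ⟨j, rfl | rfl⟩
            · exfalso
              rw [zpow_mul, zpow_two, hd2, one_zpow] at hi'
              have : (⟨d, hz.D_le_S hd⟩ : S) = 1 := h.injective (by
                rw [map_one]; exact Subtype.ext hi'.symm)
              exact hd1 (congrArg Subtype.val this)
            · rw [zpow_add, zpow_mul, zpow_two, hd2, one_zpow, one_mul, zpow_one] at hi'
              exact Subtype.ext hi'.symm
        have hkk : ((h ⟨k, hkS⟩ : S) : Ω) ∈ L := by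
          have := hC.K_inv g hg ⟨k, hC.Z_le (hC.K_le hk)⟩ hk
          rwa [hgx] at this
        have e2 : z⁻¹ * h z = ⟨k, hkS⟩⁻¹ * h ⟨k, hkS⟩ := by
          rw [e1, map_mul, hdd]; group
        rw [e2]
        exact L.mul_mem (L.inv_mem hk) hkk
      exact hH₀U (Subgroup.mem_sup_right ⟨key hA, key hB⟩)
    -- the set of good elements is a subgroup
    let V : Subgroup S :=
      { carrier := {t | ((t⁻¹ * h t : S) : Ω) ∈ U}
        one_mem' := by simp
        mul_mem' := fun {a b} ha hb => by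
          have hc : ((a⁻¹ * h a : S) : Ω) ∈ Z := aut_mod_Z hS hF hz hA hh a
          have e : (a * b)⁻¹ * h (a * b) = (a⁻¹ * h a) * (b⁻¹ * h b) := by
            rw [map_mul, show (a * b)⁻¹ * (h a * h b) = b⁻¹ * (a⁻¹ * h a) * h b by group,
              show b⁻¹ * (a⁻¹ * h a) = (a⁻¹ * h a) * b⁻¹ from Subtype.ext
                (hz.central _ hc _ (b⁻¹).2), mul_assoc]
          show (((a * b)⁻¹ * h (a * b) : S) : Ω) ∈ U
          rw [e]
          exact U.mul_mem ha hb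
        inv_mem' := fun {a} ha => by
          have hc : ((a⁻¹ * h a : S) : Ω) ∈ Z := aut_mod_Z hS hF hz hA hh a
          have e : a⁻¹⁻¹ * h a⁻¹ = (a⁻¹ * h a)⁻¹ := by
            rw [inv_inv, map_inv, mul_inv_rev, inv_inv]
            have h1 : a * (a⁻¹ * h a) = (a⁻¹ * h a) * a := Subtype.ext (hz.central _ hc a a.2)
            rw [mul_inv_cancel_left] at h1
            calc a * (h a)⁻¹ = a * ((a⁻¹ * h a) * a)⁻¹ := by rw [← h1]
              _ = (h a)⁻¹ * a := by group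
          show ((a⁻¹⁻¹ * h a⁻¹ : S) : Ω) ∈ U
          rw [e]
          exact U.inv_mem ha }
    have hxV : x' ∈ V := hH₀U (Subgroup.mem_sup_left (hhD hA hxM hxZ h hh hxS))
    have hyV : y' ∈ V := hH₀U (Subgroup.mem_sup_left (hhD hB hyM hyZ h hh hyS))
    have hyA : y ∉ A := fun hyA => hAB (hA.eq_of_mem hS hz hB hyA (hB.M_le hyM) hyZ)
    have htop : ∀ t : S, t ∈ V := by
      intro t
      have hVA : ∀ a : S, (a : Ω) ∈ A → a ∈ V := by
        intro a ha
        by_cases haZ : (a : Ω) ∈ Z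
        · exact hZU a haZ
        · have h1 := hA.diff_mem_Z hS hz hxA hxZ ha haZ
          have := V.mul_mem hxV (hZU (x'⁻¹ * a) h1)
          simpa using this
      by_cases htA : (t : Ω) ∈ A
      · exact hVA t htA
      · have h1 := hA.diff_mem_A hS hz hyS hyA t.2 htA
        have := V.mul_mem hyV (hVA (y'⁻¹ * t) h1)
        simpa using this
    exact htop s
  have hMA : M ≤ U := hMU hA hxM hxZ hxU
  have hMB : M' ≤ U := hMU hB hyM hyZ hyU
  have hyA : y ∉ A := fun hyA => hAB (hA.eq_of_mem hS hz hB hyA (hB.M_le hyM) hyZ)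
  have hK : ∀ g ∈ S, ∀ a ∈ S, a⁻¹ * (g * a * g⁻¹) ∈ U := fun g hg a ha => by
    refine hH₀U (Subgroup.mem_sup_left ?_)
    have h := hz.comm_mem a⁻¹ (S.inv_mem ha) g hg
    simpa [mul_assoc] using h
  have hall := alperin hS hF (CfsgLib.FusionBasics.cosetSystem F U hK) fun P hP => by
    have hPS : P ≤ S := by
      rcases hP with rfl | hP
      exacts [le_rfl, hP.1.1]
    intro α hα
    refine (mem_autGroup_iff _ hPS).mpr ⟨(mem_autGroup_iff F hPS).mp hα, fun a => ?_⟩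
    rcases hP with rfl | hP
    · exact hhU α hα a
    obtain ⟨L, N', hC, hN'U⟩ : ∃ L N', EssData 2 F Z D P L N' ∧ N' ≤ U := by
      by_cases hPA : P = A
      · subst hPA; exact ⟨K, M, hA, hMA⟩
      by_cases hPB : P = B
      · subst hPB; exact ⟨K', M', hB, hMB⟩
      exfalso
      obtain ⟨L, N', hC⟩ := exists_essData hS hF hz hP
      obtain ⟨w, hwM, hwZ, hw2⟩ := hC.exists_invol hz
      have hwP := hC.M_le hwM
      have hwA : w ∉ A := fun h => hPA (hC.eq_of_mem hS hz hA hwP h hwZ)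
      have hd' := hA.diff_mem_A hS hz hyS hyA (hC.A_le hwP) hwA
      have hdz : y⁻¹ * w ∉ Z := fun h => hPB (hC.eq_of_mem hS hz hB hwP
        (by simpa using B.mul_mem (hB.M_le hyM) (hB.Z_le h)) hwZ)
      have h1 := hA.diff_mem_Z hS hz hxA hxZ hd' hdz
      have hcD : (x * y)⁻¹ * (y * x) ∈ Z := by
        have := hz.D_le (hz.comm_mem y⁻¹ (S.inv_mem hyS) x⁻¹ (S.inv_mem hxS))
        simpa [mul_assoc] using this
      refine hA.no_three hS hz hxA hxZ hx2 hyS hyA hy2 (Z.mul_mem hcD h1) ?_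
      have e2 : x * y * ((x * y)⁻¹ * (y * x) * (x⁻¹ * (y⁻¹ * w))) = w := by group
      rw [e2]
      exact hw2
    obtain ⟨h, hh, b, hb, hbm⟩ := hC.factor α hα a
    have h1 : (a : Ω)⁻¹ * (b : Ω) ∈ U := by
      have h2 := hhU h hh ⟨a, hPS a.2⟩
      have h3 := hb (hPS a.2)
      show (a : Ω)⁻¹ * (b : Ω) ∈ U
      rw [← h3]
      exact h2
    have := U.mul_mem h1 (hN'U hbm)
    simpa [mul_assoc] using this
  apply hUS
  refine le_antisymm (Subgroup.map_subtype_le _) fun s hs => ?_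
  have hfoc : F.focalSubgroup ≤ U := by
    refine (Subgroup.closure_le _).mpr ?_
    rintro _ ⟨P, φ, a, hφ, rfl⟩
    exact (hall P hφ).2 a
  exact hfoc (CfsgLib.FusionBasics.hyperfocalSubgroup_le_focalSubgroup F 2 (hhyp.ge hs))

include hz hS hF in
theorem small_center_two (hD : D = ⁅S, S⁆) (hcore : F.core = ⊥) (hhyp : F.hyperfocalSubgroup 2 = S)
    {A K M : Subgroup Ω} (hd : EssData 2 F Z D A K M) : Z = D := by
  have hinv : ∀ h ∈ F.autGroup S, ∀ k : S, (k : Ω) ∈ K → ((h k : S) : Ω) ∈ K := by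
    intro h hh k hk
    obtain ⟨g, hg, hgx⟩ := aut_A_mem hS hF hz hd hh
    have := hd.K_inv g hg ⟨k, hd.Z_le (hd.K_le hk)⟩ hk
    rwa [hgx] at this
  have hKnormal : F.IsNormal K := by
    refine CfsgLib.FusionBasics.isNormal_of_generators hS hF fun P hP => ?_
    rcases hP with rfl | hP
    · exact ⟨hd.K_le.trans hz.Z_le, fun α hα x hx => hinv α hα x hx⟩
    by_cases hPA : P = A
    · subst hPA
      exact ⟨hd.K_le.trans hd.Z_le, fun α hα x hx => hd.K_inv α hα x hx⟩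
    obtain ⟨K', M', hd'⟩ := exists_essData hS hF hz hP
    have he := hd.K_eq hS hF hz hhyp hd' (fun h => hPA h.symm)
    subst he
    exact ⟨hd.K_le.trans hd'.Z_le, fun α hα x hx => hd'.K_inv α hα x hx⟩
  have hKbot : K = ⊥ := le_bot_iff.mp (hcore ▸ CfsgLib.FusionBasics.le_core hKnormal)
  refine le_antisymm (fun z hzZ => ?_) hz.D_le
  obtain ⟨d, hdD, k, hk, rfl⟩ := hd.DK z hzZ
  rw [hKbot, Subgroup.mem_bot] at hk
  rw [hk, mul_one]
  exact hdD

end Two

/-- A reduced system over a group with centre of index at most `p²` lives on an extraspecial group of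
order `p³`, of exponent `p` for odd `p`, dihedral for `p = 2`. -/
theorem extraspecial_of_small_center (hS : IsPGroup p S) {F : FusionSystem S} (hF : F.IsSaturated p)
    (hS1 : S ≠ ⊥) (hcore : F.core = ⊥) (hhyp : F.hyperfocalSubgroup p = S)
    (hZ : (Subgroup.center S).index ≤ p ^ 2) :
    IsExtraspecial p S ∧ Nat.card S = p ^ 3 ∧ (p ≠ 2 → Monoid.exponent S = p) ∧
      (p = 2 → Nonempty (S ≃* DihedralGroup 4)) := by
  have hne : ∃ x : S, ∃ y : S, x * y ≠ y * x := by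
    by_contra h
    push Not at h
    refine hS1 (le_bot_iff.mp (hcore ▸ CfsgLib.FusionBasics.le_core
      (isNormal_of_abelian hS hF (stronglyClosed_self F) ?_)))
    rw [Subgroup.commutator_eq_bot_iff_le_centralizer]
    exact fun a ha b hb => congrArg Subtype.val (h ⟨b, hb⟩ ⟨a, ha⟩)
  obtain ⟨hz, hidx⟩ := exists_smallCenter hS hne hZ
  obtain ⟨A, hA⟩ := exists_essential hS hF hS1 hcore
  obtain ⟨K, M, hd⟩ := exists_essData hS hF hz hA
  have hZD : (Subgroup.center S).map S.subtype = ⁅S, S⁆ := by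
    by_cases hp : p = 2
    · subst hp
      exact small_center_two hS hF hz rfl hcore hhyp hd
    · exact (small_center_odd hS hF hz rfl hcore hp hd).1
  have hcardC : Nat.card (Subgroup.center S) = p := by
    rw [← Subgroup.card_map_of_injective S.subtype_injective, hZD, hz.card_D]
  have hcard : Nat.card S = p ^ 3 := by
    rw [← (Subgroup.center S).index_mul_card, hidx, hcardC, ← pow_succ]
  have hcomm : commutator S = Subgroup.center S := by
    apply Subgroup.map_injective S.subtype_injective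
    rw [Subgroup.map_subtype_commutator, hZD]
  have hfr : frattini S = Subgroup.center S := by
    refine le_antisymm (CfsgLib.PGroups.frattini_le_of (p := p) hcomm.le fun x => ?_)
      (hcomm ▸ CfsgLib.PGroups.commutator_le_frattini hS)
    obtain ⟨w, hw, he⟩ := hz.pow_mem x x.2
    rw [show x ^ p = w from Subtype.ext he.symm]
    exact hw
  refine ⟨⟨⟨hS, hfr, hcomm⟩, hcardC⟩, hcard, fun hp => ?_, fun hp => ?_⟩
  · have hexp := (small_center_odd hS hF hz rfl hcore hp hd).2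
    have hdvd : Monoid.exponent S ∣ p :=
      Monoid.exponent_dvd_of_forall_pow_eq_one fun s => Subtype.ext (hexp s s.2)
    rcases (Nat.dvd_prime (Fact.out : p.Prime)).mp hdvd with h | h
    · exfalso
      haveI := Monoid.exp_eq_one_iff.mp h
      rw [Nat.card_unique] at hcard
      exact absurd hcard (Nat.one_lt_pow (by norm_num) (Fact.out : p.Prime).one_lt).ne
    · exact h
  · subst hp
    have hAM : ∀ a ∈ A, a ^ 2 = 1 := fun a ha => by
      obtain ⟨m, hm, k, hk, rfl⟩ := hd.MK a ha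
      have hk1 : k ∈ K ⊓ ⁅S, S⁆ := ⟨hk, hZD ▸ hd.K_le hk⟩
      rw [hd.KD, Subgroup.mem_bot] at hk1
      rw [hk1, mul_one]
      exact hd.M_pow m hm
    obtain ⟨x, hxM, hxZ, hx2⟩ := hd.exists_invol hz
    have hxA := hd.M_le hxM
    obtain ⟨r, hr⟩ : ∃ r : S, r ^ 2 ≠ 1 := by
      by_contra h
      push Not at h
      obtain ⟨a, b, hab⟩ := hne
      apply hab
      have ha : a⁻¹ = a := inv_eq_of_mul_eq_one_left (by rw [← pow_two]; exact h a)
      have hb : b⁻¹ = b := inv_eq_of_mul_eq_one_left (by rw [← pow_two]; exact h b)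
      have hab' : (a * b)⁻¹ = a * b := inv_eq_of_mul_eq_one_left (by rw [← pow_two]; exact h _)
      rw [mul_inv_rev, ha, hb] at hab'
      exact hab'.symm
    have hrA : (r : Ω) ∉ A := fun h => hr (Subtype.ext (hAM _ h))
    have hr2 : (r : Ω) ^ 2 ∈ ⁅S, S⁆ := hZD ▸ hz.pow_mem r r.2
    have hrne : (r : Ω) ^ 2 ≠ 1 := fun h => hr (Subtype.ext h)
    have hord : orderOf r = 4 := by
      refine orderOf_eq_prime_pow (p := 2) (n := 1) (by simpa using hr) ?_
      apply Subtype.ext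
      show (r : Ω) ^ (2 ^ (1 + 1)) = 1
      rw [show 2 ^ (1 + 1) = 2 * 2 from rfl, pow_mul]
      exact hz.D_pow hr2
    let x' : S := ⟨x, hd.A_le hxA⟩
    have hxr : (x' * r * x'⁻¹ * r⁻¹ : S) ≠ 1 := by
      intro h
      rw [mul_inv_eq_one, mul_inv_eq_iff_eq_mul] at h
      let B := centralizerIn S (Subgroup.zpowers x)
      have hAB : A ≤ B := fun b hb => ⟨hd.A_le hb, fun c hc =>
        hz.comm_of_card hd.A_le hd.Z_le hd.card_A ((Subgroup.zpowers_le.mpr hxA) hc) hb⟩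
      have hrB : (r : Ω) ∈ B := by
        refine ⟨r.2, fun c hc => ?_⟩
        obtain ⟨i, rfl⟩ := hc
        exact ((show Commute (r : Ω) x from (congrArg Subtype.val h).symm).zpow_right i).eq.symm
      have hlt : A < B := lt_of_le_of_ne hAB fun h => hrA (h ▸ hrB)
      have hBS := hz.eq_top_of_lt hd.card_A hlt (centralizerIn_le S _) hS
      exact hxZ (hz.mem_Z x (hd.A_le hxA) fun s hsS =>
        ((hBS.ge hsS).2 _ (Subgroup.mem_zpowers _)).symm)
    have hcD : ((x' * r * x'⁻¹ * r⁻¹ : S) : Ω) ∈ ⁅S, S⁆ := hz.comm_mem x (hd.A_le hxA) r r.2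
    have hconj : x' * r * x'⁻¹ = r⁻¹ := by
      have hDc : Nat.card (⁅S, S⁆ : Subgroup Ω) = 2 := hz.card_D
      obtain ⟨i, hi⟩ := exists_pow_eq_of_prime_card (p := 2) hDc hrne hr2 hcD
      rcases Nat.even_or_odd' i with ⟨j, rfl | rfl⟩
      · exfalso
        apply hxr
        rw [pow_mul, hz.D_pow hr2, one_pow] at hi
        exact Subtype.ext hi.symm
      · rw [pow_succ, pow_mul, hz.D_pow hr2, one_pow, one_mul] at hi
        have h1 : x' * r * x'⁻¹ * r⁻¹ = r ^ 2 := Subtype.ext hi.symm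
        rw [mul_inv_eq_iff_eq_mul] at h1
        rw [h1, ← pow_succ, eq_inv_iff_mul_eq_one, ← pow_succ]
        exact orderOf_dvd_iff_pow_eq_one.mp (dvd_of_eq hord)
    refine CfsgLib.TwoGroups.nonempty_mulEquiv_dihedral hord (by rw [hcard]; norm_num) (fun h => ?_)
      (Subtype.ext (by rw [Subgroup.coe_pow, pow_two]; exact hx2)) hconj
    obtain ⟨i, hi⟩ := h
    apply hxr
    rw [show x' = r ^ i from hi.symm]
    group

end CfsgLib.FusionModels
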