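import Cfsg.Agent.Lib.FusionModels.NormalTests
import Cfsg.Agent.Lib.PGroups.Omega
import Cfsg.Agent.Lib.PSolvable.FrattiniFacts
import Cfsg.Prelude.Def_OddOrderLocal

/-!
A strongly closed subgroup with `|Ω₁| ≤ p²`, `p` odd, is normal.
-/

set_option autoImplicit false
set_option linter.style.haveILetI false
set_option linter.unusedSectionVars false

namespace CfsgLib.FusionModels

open Cfsg Cfsg.FusionSystem CfsgLib.Alperin CfsgLib.FusionSub

variable {Ω : Type*} [Group Ω] {S : Subgroup Ω} [Finite S] {p : ℕ} [Fact p.Prime]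
  {F : FusionSystem S}

/-- A subgroup of order at most `p` normalized by a `p`-group inside it is centralized by it. -/
theorem commute_of_card_le_prime {T Z : Subgroup Ω} [Finite T] (hT : IsPGroup p T) (hZT : Z ≤ T)
    (hn : T ≤ Subgroup.normalizer (Z : Set Ω)) (hc : Nat.card Z ≤ p) :
    ∀ t ∈ T, ∀ z ∈ Z, t * z = z * t := by
  intro t ht z hz
  haveI : (Z.subgroupOf T).Normal := Subgroup.normal_subgroupOf_iff_le_normalizer hZT |>.mpr hn
  have hcard : Nat.card (Z.subgroupOf T) = Nat.card Z :=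
    Nat.card_congr (Subgroup.subgroupOfEquivOfLe hZT).toEquiv
  obtain ⟨k, hk⟩ := (hT.to_subgroup (Z.subgroupOf T)).exists_card_eq
  rcases k with _ | k
  · have : Z.subgroupOf T = ⊥ := Subgroup.card_eq_one.mp (by simpa using hk)
    have hz1 : (⟨z, hZT hz⟩ : T) ∈ (⊥ : Subgroup T) := this ▸ hz
    rw [show z = 1 from congrArg Subtype.val (Subgroup.mem_bot.mp hz1), mul_one, one_mul]
  · have hkp : Nat.card (Z.subgroupOf T) = p := by
      rcases k with _ | k
      · simpa using hk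
      · have : p < p ^ (k + 1 + 1) := lt_self_pow₀ (Fact.out : p.Prime).one_lt (by omega)
        omega
    have := Subgroup.mem_center_iff.mp
      (CfsgLib.PGroups.le_center_of_card_eq_prime hT hkp (show (⟨z, hZT hz⟩ : T) ∈ Z.subgroupOf T from hz))
      ⟨t, ht⟩
    exact congrArg Subtype.val this

theorem stronglyClosed_omegaOne {T : Subgroup Ω} (hT : F.StronglyClosed T)
    (hW : ∀ x ∈ omegaOne p T, x ^ p = 1) : F.StronglyClosed (omegaOne p T) := by
  refine ⟨(CfsgLib.ThompsonJ.omegaOne_le p T).trans hT.1, fun R hR φ hφ x => ?_⟩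
  refine CfsgLib.ThompsonJ.mem_omegaOne
    (stronglyClosed_apply hT hφ x (CfsgLib.ThompsonJ.omegaOne_le p T (hR x.2))) ?_
  rw [← map_pow, show x ^ p = 1 from Subtype.ext (hW _ (hR x.2)), map_one]

set_option maxHeartbeats 800000 in
/-- A strongly closed subgroup with elementary abelian `Ω₁` of order at most `p²` is normal
(`p` odd). -/
theorem isNormal_of_small_omega (hS : IsPGroup p S) (hF : F.IsSaturated p) (hp : p ≠ 2)
    {T : Subgroup Ω} (hT : F.StronglyClosed T) (hW : ∀ x ∈ omegaOne p T, x ^ p = 1)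
    (hcomm : ∀ x ∈ omegaOne p T, ∀ y ∈ omegaOne p T, x * y = y * x)
    (hcard : Nat.card (omegaOne p T) ≤ p ^ 2) : F.IsNormal T := by
  set W := omegaOne p T
  have hWT : W ≤ T := CfsgLib.ThompsonJ.omegaOne_le p T
  have hTS := hT.1
  haveI := finite_of_le hTS
  haveI := finite_of_le (hWT.trans hTS)
  have hWsc : F.StronglyClosed W := stronglyClosed_omegaOne hT hW
  have hTp := isPGroup_of_le hS hTS
  have hWn := stronglyClosed_le_normalizer hWsc
  by_cases hcent : W ≤ Subgroup.centralizer (T : Set Ω)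
  · refine isNormal_of_omega_series hS hF hp hT ![⊥, W] rfl rfl (fun i => ?_) fun i => ?_
    · fin_cases i
      · exact stronglyClosed_bot F
      · exact hWsc
    · rw [Subsingleton.elim i 0]
      show ⁅W, T⁆ ≤ ⊥
      rw [le_bot_iff, Subgroup.commutator_eq_bot_iff_le_centralizer]
      exact hcent
  set Z := W ⊓ Subgroup.centralizer (T : Set Ω) with hZdef
  have hZW : Z ≤ W := inf_le_left
  have hZlt : Z < W := lt_of_le_of_ne hZW fun h => hcent fun x hx => (h.ge hx).2
  -- `Z` is nontrivial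
  have hZne : Z ≠ ⊥ := by
    haveI : Group.IsNilpotent T := hTp.isNilpotent
    haveI : (W.subgroupOf T).Normal :=
      Subgroup.normal_subgroupOf_iff_le_normalizer hWT |>.mpr (hTS.trans hWn)
    have hWne : W.subgroupOf T ≠ ⊥ := by
      intro h
      refine hcent fun x hx => ?_
      have hx1 : (⟨x, hWT hx⟩ : T) ∈ (⊥ : Subgroup T) := h ▸ hx
      rw [show x = 1 from congrArg Subtype.val (Subgroup.mem_bot.mp hx1)]
      exact one_mem _
    intro hZ
    refine CfsgLib.PSolvable.inf_center_ne_bot hWne ((Subgroup.eq_bot_iff_forall _).mpr ?_)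
    rintro x ⟨hxW, hxC⟩
    have : (x : Ω) ∈ Z := ⟨hxW, fun t ht =>
      congrArg Subtype.val (Subgroup.mem_center_iff.mp hxC ⟨t, ht⟩)⟩
    rw [hZ] at this
    exact Subtype.ext (Subgroup.mem_bot.mp this)
  haveI := finite_of_le (hZW.trans (hWT.trans hTS))
  have hZcard : Nat.card Z = p := by
    obtain ⟨a, ha⟩ := (isPGroup_of_le hS (hWT.trans hTS)).exists_card_eq
    obtain ⟨b, hb⟩ := (isPGroup_of_le hS (hZW.trans (hWT.trans hTS))).exists_card_eq
    have hlt : Nat.card Z < Nat.card W := lt_of_le_of_ne (Subgroup.card_le_of_le hZW)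
      fun h => hZlt.ne (Subgroup.eq_of_le_of_card_ge hZW h.ge)
    have hb0 : b ≠ 0 := fun h => hZne (Subgroup.card_eq_one.mp (by rw [hb, h, pow_zero]))
    have h1 := (Fact.out : p.Prime).one_lt
    rw [ha, hb, Nat.pow_lt_pow_iff_right h1] at hlt
    rw [ha, Nat.pow_le_pow_iff_right h1] at hcard
    rw [hb, show b = 1 by omega, pow_one]
  have hWcard : Nat.card W = p ^ 2 := by
    obtain ⟨a, ha⟩ := (isPGroup_of_le hS (hWT.trans hTS)).exists_card_eq
    have hlt : Nat.card Z < Nat.card W := lt_of_le_of_ne (Subgroup.card_le_of_le hZW)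
      fun h => hZlt.ne (Subgroup.eq_of_le_of_card_ge hZW h.ge)
    have h1 := (Fact.out : p.Prime).one_lt
    rw [hZcard, ha] at hlt
    nth_rw 1 [← pow_one p] at hlt
    rw [Nat.pow_lt_pow_iff_right h1] at hlt
    rw [ha, Nat.pow_le_pow_iff_right h1] at hcard
    rw [ha, show a = 2 by omega]
  have hZn : S ≤ Subgroup.normalizer (Z : Set Ω) := by
    intro g hg
    have key : ∀ g ∈ S, ∀ z ∈ Z, g * z * g⁻¹ ∈ Z := fun g hg z hz =>
      ⟨stronglyClosed_conj hWsc hg hz.1, fun t ht => by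
        have h1 := hz.2 (g⁻¹ * t * g⁻¹⁻¹) (stronglyClosed_conj hT (S.inv_mem hg) ht)
        rw [inv_inv] at h1
        calc t * (g * z * g⁻¹) = g * ((g⁻¹ * t * g) * z) * g⁻¹ := by group
          _ = g * (z * (g⁻¹ * t * g)) * g⁻¹ := by rw [h1]
          _ = g * z * g⁻¹ * t := by group⟩
    refine Subgroup.mem_normalizer_iff.mpr fun z => ⟨key g hg z, fun hz => ?_⟩
    have := key g⁻¹ (S.inv_mem hg) _ hz
    simpa [mul_assoc] using this
  have hZS : ∀ s ∈ S, ∀ z ∈ Z, s * z = z * s :=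
    commute_of_card_le_prime hS (hZW.trans (hWT.trans hTS)) hZn hZcard.le
  -- commutators of `W` with `T` lie in `Z`
  have hWTZ : ∀ w ∈ W, ∀ t ∈ T, w⁻¹ * (t * w * t⁻¹) ∈ Z := by
    let M : Subgroup ↥(Subgroup.normalizer (Z : Set Ω)) := Z.subgroupOf _
    haveI : M.Normal := Subgroup.normal_in_normalizer
    let q := QuotientGroup.mk' M
    let T₁ := (T.subgroupOf (Subgroup.normalizer (Z : Set Ω))).map q
    let W₁ := (W.subgroupOf (Subgroup.normalizer (Z : Set Ω))).map q
    have hTN : T ≤ Subgroup.normalizer (Z : Set Ω) := hTS.trans hZn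
    haveI : Finite (T.subgroupOf (Subgroup.normalizer (Z : Set Ω))) :=
      Finite.of_equiv T (Subgroup.subgroupOfEquivOfLe hTN).symm.toEquiv
    haveI : Finite T₁ := Finite.of_surjective _ (q.subgroupMap_surjective _)
    have hT₁ : IsPGroup p T₁ :=
      (hTp.of_equiv (Subgroup.subgroupOfEquivOfLe hTN).symm).map q
    have hW₁T : W₁ ≤ T₁ := Subgroup.map_mono fun x hx => hWT hx
    have hn₁ : T₁ ≤ Subgroup.normalizer (W₁ : Set _) := by
      rintro _ ⟨t, ht, rfl⟩
      refine Subgroup.le_normalizer_map q ⟨t, Subgroup.mem_normalizer_iff.mpr fun w => ?_, rfl⟩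
      exact Subgroup.mem_normalizer_iff.mp (hWn (hTS ht)) (w : Ω)
    have hc₁ : Nat.card W₁ ≤ p := by
      let g : W.subgroupOf (Subgroup.normalizer (Z : Set Ω)) →* W₁ := q.subgroupMap _
      have hk : g.ker = M.subgroupOf (W.subgroupOf (Subgroup.normalizer (Z : Set Ω))) := by
        ext x
        show g x = 1 ↔ (x : ↥(Subgroup.normalizer (Z : Set Ω))) ∈ M
        rw [Subtype.ext_iff]
        exact QuotientGroup.eq_one_iff _
      have h1 := Subgroup.card_eq_card_quotient_mul_card_subgroup g.ker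
      rw [Nat.card_congr (QuotientGroup.quotientKerEquivOfSurjective g
        (q.subgroupMap_surjective _)).toEquiv, hk,
        Nat.card_congr (Subgroup.subgroupOfEquivOfLe (H := M)
          (K := W.subgroupOf _) (fun x hx => hZW hx)).toEquiv,
        Nat.card_congr (Subgroup.subgroupOfEquivOfLe (hZW.trans (hWT.trans hTN))).toEquiv,
        Nat.card_congr (Subgroup.subgroupOfEquivOfLe (hWT.trans hTN)).toEquiv,
        hWcard, hZcard, pow_two] at h1
      exact (Nat.eq_of_mul_eq_mul_right (Fact.out : p.Prime).pos h1).ge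
    intro w hw t ht
    have h := commute_of_card_le_prime hT₁ hW₁T hn₁ hc₁ _ ⟨⟨t, hTN ht⟩, ht, rfl⟩ _
      ⟨⟨w, hTN (hWT hw)⟩, hw, rfl⟩
    rw [← map_mul, ← map_mul] at h
    have h' : ((⟨t, hTN ht⟩ * ⟨w, hTN (hWT hw)⟩ : ↥(Subgroup.normalizer (Z : Set Ω)))⁻¹ *
      (⟨w, hTN (hWT hw)⟩ * ⟨t, hTN ht⟩) : ↥(Subgroup.normalizer (Z : Set Ω))) ∈ M :=
      QuotientGroup.eq.mp h
    have h'' : (t * w)⁻¹ * (w * t) ∈ Z := h'
    have h3 : w⁻¹ * (t * w * t⁻¹) = t * (((t * w)⁻¹ * (w * t)))⁻¹ * t⁻¹ := by group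
    rw [h3, hZS t (hTS ht) _ (Z.inv_mem h''), mul_inv_cancel_right]
    exact Z.inv_mem h''
  by_cases hZsc : F.StronglyClosed Z
  · refine isNormal_of_omega_series hS hF hp hT ![⊥, Z, W] rfl rfl (fun i => ?_) fun i => ?_
    · fin_cases i
      · exact stronglyClosed_bot F
      · exact hZsc
      · exact hWsc
    · fin_cases i
      · show ⁅Z, T⁆ ≤ ⊥
        rw [le_bot_iff, Subgroup.commutator_eq_bot_iff_le_centralizer]
        exact inf_le_right
      · show ⁅W, T⁆ ≤ Z
        rw [Subgroup.commutator_comm, Subgroup.commutator_le]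
        intro t ht w hw
        have h1 := hWTZ w hw t ht
        rw [commutatorElement_def]
        have h2 : t * w * t⁻¹ * w⁻¹ = w * (w⁻¹ * (t * w * t⁻¹)) * w⁻¹ := by group
        rw [h2, hZS w (hTS (hWT hw)) _ h1, mul_inv_cancel_right]
        exact h1
  exfalso
  -- a map moving `Z`
  obtain ⟨R, hR, φ, hφ, x, hx⟩ : ∃ R, R ≤ Z ∧ ∃ φ ∈ F.Hom R, ∃ x : R, φ x ∉ Z := by
    by_contra hno
    push Not at hno
    exact hZsc ⟨hZW.trans (hWT.trans hTS), hno⟩
  have hRZ : R = Z := by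
    haveI := finite_of_le (hR.trans (hZW.trans (hWT.trans hTS)))
    rcases (Subgroup.eq_bot_or_eq_top_of_prime_card (G := Z) (H := R.subgroupOf Z)
      (hp := ⟨hZcard ▸ Fact.out⟩)) with h | h
    · exfalso
      have hx1 : (⟨x, hR x.2⟩ : Z) ∈ (⊥ : Subgroup Z) := h ▸ x.2
      rw [show x = 1 from Subtype.ext (congrArg (fun z : Z => (z : Ω)) (Subgroup.mem_bot.mp hx1)),
        map_one] at hx
      exact hx Z.one_mem
    · exact le_antisymm hR (Subgroup.subgroupOf_eq_top.mp h)
  subst hRZ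
  have hZfn : F.IsFullyNormalized (W ⊓ Subgroup.centralizer (T : Set Ω)) :=
    ⟨hZW.trans (hWT.trans hTS), fun Q _ => by
      rw [show normalizerIn S (W ⊓ Subgroup.centralizer (T : Set Ω)) = S from
        le_antisymm (normalizerIn_le _ _) fun g hg => ⟨hg, hZn hg⟩]
      exact Subgroup.card_le_of_le (normalizerIn_le S Q)⟩
  obtain ⟨ξ, hξ, hξv, hξm⟩ := exists_hom_normalizerIn_of_fullyNormalized hS hF hZfn
    (CfsgLib.Alperin.IsConj.symm (isConj_of_hom hφ))
  have hxW : ∀ z : Z, φ z ∈ W := fun z => stronglyClosed_apply hWsc hφ z z.2.1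
  have hWN : W ≤ normalizerIn S φ.range := fun a ha => by
    refine ⟨hTS (hWT ha), Subgroup.mem_normalizer_iff.mpr fun y => ?_⟩
    have : ∀ y ∈ W, a * y * a⁻¹ = y := fun y hy => by rw [hcomm a ha y hy, mul_inv_cancel_right]
    constructor
    · intro hy
      obtain ⟨z, rfl⟩ := hy
      rw [this _ (hxW z)]
      exact ⟨z, rfl⟩
    · intro hy
      have hyW : y ∈ W := by
        obtain ⟨z, hz⟩ := hy
        have h1 := W.mul_mem (W.mul_mem (W.inv_mem ha) (hz ▸ hxW z)) ha
        simpa [mul_assoc] using h1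
      rwa [this y hyW] at hy
  let αh : W →* Ω := ξ.comp (Subgroup.inclusion hWN)
  have hαh : αh ∈ F.Hom W := restrict_mem hξ hWN
  let α : MulAut W := MulEquiv.ofBijective
    (αh.codRestrict W fun a => stronglyClosed_apply hWsc hαh a a.2)
    (Finite.injective_iff_bijective.mp fun a b h =>
      F.injective_of_mem hαh (congrArg Subtype.val h))
  have hWS : W ≤ S := hWT.trans hTS
  have hα : α ∈ F.autGroup W := (mem_autGroup_iff F hWS).mpr (mem_of_apply_eq hαh fun _ => rfl)
  let w : W := ⟨φ x, hxW x⟩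
  have hwZ : (w : Ω) ∉ Z := hx
  have hαw : ((α w : W) : Ω) ∈ Z := hξm.le ⟨_, (⟨x, rfl⟩ : φ x ∈ φ.range), rfl⟩
  -- a transvection fixing `Z`
  obtain ⟨t, ht, htw⟩ : ∃ t ∈ T, t * (w : Ω) * t⁻¹ ≠ w := by
    by_contra hno
    push Not at hno
    exact hwZ ⟨w.2, fun t ht => mul_inv_eq_iff_eq_mul.mp (hno t ht)⟩
  have htN : t ∈ Subgroup.normalizer (W : Set Ω) := hWn (hTS ht)
  let τ : MulAut W := conjAut W t htN
  have hτ : τ ∈ F.autGroup W := autInducedBy_le_autGroup F hWS (conjAut_mem (hTS ht) htN)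
  have hτZ : ∀ z : W, (z : Ω) ∈ Z → τ z = z := fun z hz => Subtype.ext (by
    show t * (z : Ω) * t⁻¹ = z
    rw [hZS t (hTS ht) z hz, mul_inv_cancel_right])
  have hτd : ∀ a : W, ((a⁻¹ * τ a : W) : Ω) ∈ Z := fun a => hWTZ a a.2 t ht
  let z₀ : W := w⁻¹ * τ w
  have hz₀ : (z₀ : Ω) ∈ Z := hτd w
  have hz₀ne : z₀ ≠ 1 := fun h => htw (congrArg Subtype.val (inv_mul_eq_one.mp h)).symm
  have hτw : τ w = w * z₀ := by simp [z₀]
  -- the transvection fixing `w`
  let σ : MulAut W := α⁻¹ * τ * α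
  have hσ : σ ∈ F.autGroup W := mul_mem (mul_mem (inv_mem hα) hτ) hα
  have hσw : σ w = w := by
    show α⁻¹ (τ (α w)) = w
    rw [hτZ _ hαw, MulAut.inv_apply_self]
  haveI hpW : Fact p.Prime := inferInstance
  have hzpow : ∀ (c a : W), c ≠ 1 → (∃ U : Subgroup W, Nat.card U = p ∧ c ∈ U ∧ a ∈ U) →
      ∃ k : ℕ, c ^ k = a := by
    rintro c a hc ⟨U, hU, hcU, haU⟩
    obtain ⟨k, hk⟩ := Submonoid.mem_powers_iff _ _ |>.mp <|
      mem_powers_of_prime_card (G := U) hU (g := ⟨c, hcU⟩) (g' := ⟨a, haU⟩)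
        fun h => hc (congrArg Subtype.val h)
    exact ⟨k, congrArg Subtype.val hk⟩
  let Zw : Subgroup W := (Z.subgroupOf W).comap α.toMonoidHom
  have hZwc : Nat.card Zw = p := by
    rw [show Zw = (Z.subgroupOf W).map α.symm.toMonoidHom from
      Subgroup.comap_equiv_eq_map_symm α (Z.subgroupOf W),
      Subgroup.card_map_of_injective α.symm.injective,
      Nat.card_congr (Subgroup.subgroupOfEquivOfLe hZW).toEquiv, hZcard]
  have hcmem : ∀ a : W, a⁻¹ * σ a ∈ Zw := fun a => by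
    show ((α (a⁻¹ * α⁻¹ (τ (α a))) : W) : Ω) ∈ Z
    rw [map_mul, map_inv, MulAut.apply_inv_self]
    exact hτd (α a)
  have hwne : w ≠ 1 := fun h => hwZ (by rw [h]; exact Z.one_mem)
  have hgen : ∀ a : W, a ∈ Subgroup.closure {z₀, w} := by
    intro a
    have hd : Subgroup.closure {z₀, w} = ⊤ := by
      refine Subgroup.eq_top_of_le_card _ ?_
      have hlt : Subgroup.zpowers z₀ < Subgroup.closure {z₀, w} := by
        refine lt_of_le_of_ne (Subgroup.zpowers_le.mpr (Subgroup.subset_closure (Or.inl rfl)))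
          fun h => ?_
        have hw' : w ∈ Subgroup.zpowers z₀ := h ▸ Subgroup.subset_closure (Or.inr rfl)
        obtain ⟨j, hj⟩ := hw'
        exact hwZ (hj ▸ by simpa using zpow_mem hz₀ j)
      obtain ⟨e, he⟩ := ((isPGroup_of_le hS hWS).to_subgroup (Subgroup.closure {z₀, w})).exists_card_eq
      obtain ⟨d, hd⟩ := ((isPGroup_of_le hS hWS).to_subgroup (Subgroup.zpowers z₀)).exists_card_eq
      have hd1 : d ≠ 0 := fun h => hz₀ne (Subgroup.zpowers_eq_bot.mp
        (Subgroup.card_eq_one.mp (by rw [hd, h, pow_zero])))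
      have hlt' : Nat.card (Subgroup.zpowers z₀) < Nat.card (Subgroup.closure {z₀, w}) :=
        lt_of_le_of_ne (Subgroup.card_le_of_le hlt.le)
          fun h => hlt.ne (Subgroup.eq_of_le_of_card_ge hlt.le h.ge)
      have h1 := (Fact.out : p.Prime).one_lt
      rw [hd, he, Nat.pow_lt_pow_iff_right h1] at hlt'
      rw [hWcard, he]
      exact Nat.pow_le_pow_right h1.le (by omega)
    rw [hd]
    exact Subgroup.mem_top a
  have hz₀σ : σ z₀ ≠ z₀ := by
    intro h
    have hall : ∀ a, σ a = a := fun a => by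
      induction hgen a using Subgroup.closure_induction with
      | mem b hb => rcases hb with rfl | rfl <;> assumption
      | one => exact map_one σ
      | mul b c _ _ hb hc => rw [map_mul, hb, hc]
      | inv b _ hb => rw [map_inv, hb]
    have h2 := hall (α⁻¹ w)
    have h3 : α⁻¹ (τ w) = α⁻¹ w := by
      have : σ (α⁻¹ w) = α⁻¹ (τ (α (α⁻¹ w))) := rfl
      rwa [this, MulAut.apply_inv_self] at h2
    have h4 : τ w = w := α⁻¹.injective h3
    exact htw (congrArg Subtype.val h4)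
  obtain ⟨k, hk⟩ := hzpow (z₀⁻¹ * σ z₀) w⁻¹ (fun h => hz₀σ (inv_mul_eq_one.mp h).symm)
    ⟨Zw, hZwc, hcmem z₀, Zw.inv_mem hαw⟩
  have hσk : ∀ j : ℕ, (σ ^ j) z₀ = z₀ * (z₀⁻¹ * σ z₀) ^ j ∧ (σ ^ j) w = w := by
    intro j
    induction j with
    | zero => simp
    | succ j ih =>
      refine ⟨?_, by rw [pow_succ', MulAut.mul_apply, ih.2, hσw]⟩
      obtain ⟨i, hi⟩ : ∃ i : ℕ, w ^ i = z₀⁻¹ * σ z₀ :=
        hzpow w _ hwne ⟨Zw, hZwc, hαw, hcmem z₀⟩
      rw [pow_succ', MulAut.mul_apply, ih.1, map_mul, map_pow]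
      rw [show σ (z₀⁻¹ * σ z₀) = z₀⁻¹ * σ z₀ by rw [← hi, map_pow, hσw]]
      rw [pow_succ', ← mul_assoc, mul_inv_cancel_left]
  let l : MulAut W := σ ^ k
  have hlz : l z₀ = z₀ * w⁻¹ := by rw [(hσk k).1, hk]
  have hlw : l w = w := (hσk k).2
  let ν : MulAut W := (τ * l * τ) * (τ * l * τ)
  have hν : ν ∈ F.autGroup W :=
    mul_mem (mul_mem (mul_mem hτ (pow_mem hσ k)) hτ) (mul_mem (mul_mem hτ (pow_mem hσ k)) hτ)
  have hc : ∀ a b : W, a * b = b * a := fun a b => Subtype.ext (hcomm a a.2 b b.2)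
  have hτz : τ z₀ = z₀ := hτZ _ hz₀
  have e1 : (τ * l * τ) z₀ = w⁻¹ := by
    simp only [MulAut.mul_apply, hτz, hlz, map_mul, map_inv, hτw]
    rw [mul_inv_rev, hc z₀⁻¹ w⁻¹, ← mul_assoc, hc z₀ w⁻¹, mul_assoc, mul_inv_cancel, mul_one]
  have e2 : (τ * l * τ) w = z₀ := by
    simp only [MulAut.mul_apply, hτw, map_mul, hlz, hlw, map_inv, hτz]
    rw [mul_inv_rev, hc z₀⁻¹ w⁻¹, ← mul_assoc z₀ w⁻¹, hc z₀ w⁻¹, mul_assoc w⁻¹,
      mul_inv_cancel, mul_one, hc w z₀, mul_assoc, mul_inv_cancel, mul_one]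
  have hνinv : ∀ a : W, ν a = a⁻¹ := by
    intro a
    induction hgen a using Subgroup.closure_induction with
    | mem b hb =>
      rcases hb with rfl | rfl
      · show (τ * l * τ) ((τ * l * τ) z₀) = _
        rw [e1, map_inv, e2]
      · show (τ * l * τ) ((τ * l * τ) w) = _
        rw [e2, e1]
    | one => simp
    | mul b c _ _ hb hc' => rw [map_mul, hb, hc', mul_inv_rev, hc]
    | inv b _ hb => rw [map_inv, hb]
  -- extend to `S`
  have hWfn : F.IsFullyNormalized W := ⟨hWS, fun Q _ => by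
    rw [show normalizerIn S W = S from le_antisymm (normalizerIn_le _ _) fun g hg => ⟨hg, hWn hg⟩]
    exact Subgroup.card_le_of_le (normalizerIn_le S Q)⟩
  let φν : W →* Ω := W.subtype.comp ν.toMonoidHom
  have hφν : φν ∈ F.Hom W := (mem_autGroup_iff F hWS).mp hν
  have hrν : φν.range = W := by
    ext y
    exact ⟨fun ⟨a, ha⟩ => ha ▸ (ν a).2, fun hy => ⟨ν.symm ⟨y, hy⟩, by simp [φν]⟩⟩
  obtain ⟨ψ, hψ, hext⟩ := (receptive_of_fullyNormalized hS hF hWfn).2 W φν hφν hrν
  have hTe : T ≤ extender S W φν := fun s hs => Subgroup.subset_closure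
    ⟨hTS hs, hWn (hTS hs), s, hTS hs, fun a ha => by
      show ((ν ⟨s * (a : Ω) * s⁻¹, ha⟩ : W) : Ω) = s * ((ν a : W) : Ω) * s⁻¹
      rw [hνinv, hνinv]
      simp [mul_assoc]⟩
  have hψT : ∀ s : T, ψ ⟨s, hTe s.2⟩ ∈ T := fun s => stronglyClosed_apply hT hψ ⟨s, hTe s.2⟩ s.2
  let γh : T →* T := (ψ.comp (Subgroup.inclusion hTe)).codRestrict T hψT
  let γ : MulAut T := MulEquiv.ofBijective γh (Finite.injective_iff_bijective.mp fun a b h =>
    Subgroup.inclusion_injective _ (F.injective_of_mem hψ (congrArg Subtype.val h)))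
  have hγW : ∀ a : T, (a : Ω) ∈ W → γ a = a⁻¹ := fun a ha => Subtype.ext (by
    show ψ ⟨a, hTe a.2⟩ = _
    rw [hext _ ha]
    show ((ν ⟨a, ha⟩ : W) : Ω) = _
    rw [hνinv]
    rfl)
  haveI : Finite (MulAut T) := finite_mulAut
  set e := (orderOf γ).factorization p
  let δ := γ ^ p ^ e
  have hδcop : (orderOf δ).Coprime p := by
    rw [orderOf_pow_of_dvd (pow_ne_zero _ (Fact.out : p.Prime).ne_zero) (Nat.ordProj_dvd _ p)]
    exact (Nat.coprime_ordCompl (Fact.out : p.Prime) (orderOf_pos γ).ne').symm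
  have hodd : ∀ a : T, (a : Ω) ∈ W → δ a = a⁻¹ := by
    intro a ha
    have : ∀ j : ℕ, (γ ^ (2 * j + 1)) a = a⁻¹ := by
      intro j
      induction j with
      | zero => simpa using hγW a ha
      | succ j ih =>
        rw [show 2 * (j + 1) + 1 = (2 * j + 1) + 1 + 1 by ring, pow_succ, pow_succ,
          MulAut.mul_apply, MulAut.mul_apply, hγW a ha, map_inv, hγW a ha, inv_inv, ih]
    obtain ⟨j, hj⟩ := (((Fact.out : p.Prime).odd_of_ne_two hp).pow : Odd (p ^ e))
    show (γ ^ p ^ e) a = _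
    rw [hj]
    exact this j
  have hδ2 : δ ^ 2 = 1 := by
    refine CfsgLib.PGroups.eq_one_of_fixed_omega hp hTp _
      (Nat.Coprime.of_dvd_left (orderOf_pow_dvd (x := δ) 2) hδcop) fun a ha => ?_
    have haW : (a : Ω) ∈ W := CfsgLib.ThompsonJ.mem_omegaOne a.2 (congrArg Subtype.val ha)
    rw [pow_two, MulAut.mul_apply, hodd a haW, map_inv, hodd a haW, inv_inv]
  have hfpf : MonoidHom.FixedPointFree δ.toMonoidHom := by
    intro a ha
    by_contra hne
    obtain ⟨n, hn⟩ := IsPGroup.iff_orderOf.mp hTp a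
    rcases n with _ | n
    · exact hne (orderOf_eq_one_iff.mp (by simpa using hn))
    let b := a ^ p ^ n
    have hb : orderOf b = p := by
      rw [orderOf_pow_of_dvd (pow_ne_zero _ (Fact.out : p.Prime).ne_zero) (hn ▸ pow_dvd_pow p (Nat.le_succ n)),
        hn, pow_succ, Nat.mul_div_cancel_left _ (pow_pos (Fact.out : p.Prime).pos n)]
    have hbW : (b : Ω) ∈ W := CfsgLib.ThompsonJ.mem_omegaOne b.2 (by
      rw [← Subgroup.coe_pow, show b ^ p = 1 from hb ▸ pow_orderOf_eq_one b]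
      rfl)
    have h1 : δ b = b := by
      show δ (a ^ p ^ n) = _
      rw [map_pow]
      exact congrArg (· ^ p ^ n) ha
    rw [hodd b hbW, inv_eq_iff_mul_eq_one, ← pow_two] at h1
    have h2 := orderOf_dvd_of_pow_eq_one h1
    rw [hb] at h2
    exact hp ((Nat.prime_dvd_prime_iff_eq Fact.out Nat.prime_two).mp h2)
  have hinv : Function.Involutive δ.toMonoidHom := fun a => by
    have h := congrArg (fun f : MulAut T => f a) hδ2
    simp only [pow_two, MulAut.mul_apply, MulAut.one_apply] at h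
    exact h
  exact hcent fun a ha s hs =>
    congrArg Subtype.val (MonoidHom.FixedPointFree.commute_all_of_involutive hfpf hinv ⟨s, hs⟩ ⟨a, hWT ha⟩).eq

/-- In a metacyclic `p`-group, `p` odd, `Ω₁` is elementary abelian of order at most `p²`. -/
theorem exists_omega_of_metacyclic {G : Type*} [Group G] [Finite G] (hG : IsPGroup p G) (hp : p ≠ 2)
    (hm : IsMetacyclic G) : ∃ E : Subgroup G, Nat.card E ≤ p ^ 2 ∧ (∀ x ∈ E, x ^ p = 1) ∧
      (∀ x ∈ E, ∀ y ∈ E, x * y = y * x) ∧ ∀ x : G, x ^ p = 1 → x ∈ E := by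
  obtain ⟨N, hN, hNc, hQc⟩ := hm
  haveI := hN
  let K : Subgroup (G ⧸ N) := Subgroup.closure {y | y ^ p = 1}
  have hK : ∀ y ∈ K, y ^ p = 1 := fun y hy => by
    induction hy using Subgroup.closure_induction with
    | mem _ h => exact h
    | one => exact one_pow p
    | mul a b _ _ ha hb => rw [(show Commute a b from (IsCyclic.isMulCommutative (α := G ⧸ N)).is_comm.comm a b).mul_pow, ha, hb, one_mul]
    | inv a _ ha => rw [inv_pow, ha, inv_one]
  have hKc : Nat.card K ≤ p := by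
    haveI : IsCyclic K := inferInstance
    obtain ⟨g, hg⟩ := IsCyclic.exists_generator (α := K)
    rw [← orderOf_eq_card_of_forall_mem_zpowers hg]
    exact Nat.le_of_dvd (Fact.out : p.Prime).pos
      (orderOf_dvd_of_pow_eq_one (Subtype.ext (hK g g.2)))
  let M : Subgroup G := K.comap (QuotientGroup.mk' N)
  have hM : ∀ x : G, x ^ p = 1 → x ∈ M := fun x hx => Subgroup.subset_closure (by
    show (QuotientGroup.mk' N x) ^ p = 1
    rw [← map_pow, hx, map_one])
  by_cases hMc : IsCyclic M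
  · let E : Subgroup G := Subgroup.closure {x | x ^ p = 1}
    have hEM : E ≤ M := (Subgroup.closure_le M).mpr hM
    have hEc : ∀ x ∈ E, ∀ y ∈ E, x * y = y * x := fun x hx y hy => congrArg Subtype.val
      ((IsCyclic.isMulCommutative (α := M)).is_comm.comm ⟨x, hEM hx⟩ ⟨y, hEM hy⟩)
    have hEp : ∀ x ∈ E, x ^ p = 1 := fun x hx => by
      induction hx using Subgroup.closure_induction with
      | mem _ h => exact h
      | one => exact one_pow p
      | mul a b ha' hb' ha hb => rw [(show Commute a b from hEc a ha' b hb').mul_pow, ha, hb, one_mul]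
      | inv a _ ha => rw [inv_pow, ha, inv_one]
    refine ⟨E, ?_, hEp, hEc, fun x hx => Subgroup.subset_closure hx⟩
    haveI : IsCyclic E := isCyclic_of_injective (Subgroup.inclusion hEM) (Subgroup.inclusion_injective _)
    obtain ⟨g, hg⟩ := IsCyclic.exists_generator (α := E)
    rw [← orderOf_eq_card_of_forall_mem_zpowers hg]
    exact (Nat.le_of_dvd (Fact.out : p.Prime).pos (orderOf_dvd_of_pow_eq_one
      (Subtype.ext (hEp g g.2)))).trans (Nat.le_self_pow two_ne_zero p)
  · have hNM : N ≤ M := fun x hx => by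
      show QuotientGroup.mk' N x ∈ K
      rw [show QuotientGroup.mk' N x = 1 from (QuotientGroup.eq_one_iff x).mpr hx]
      exact K.one_mem
    have hidx : (N.subgroupOf M).index = p := by
      have h1 : (N.subgroupOf M).index * Nat.card N = Nat.card N * Nat.card K := by
        rw [← Nat.card_congr (Subgroup.subgroupOfEquivOfLe hNM).toEquiv, Subgroup.index_mul_card,
          Nat.card_congr (Subgroup.subgroupOfEquivOfLe hNM).toEquiv]
        exact CfsgLib.Cores.card_comap_mk' N K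
      rw [mul_comm (Nat.card N)] at h1
      rw [Nat.eq_of_mul_eq_mul_right Nat.card_pos h1]
      obtain ⟨k, hk⟩ := ((hG.to_quotient N).to_subgroup K).exists_card_eq
      rcases k with _ | _ | k
      · exfalso
        have hKb : K = ⊥ := Subgroup.card_eq_one.mp (by simpa using hk)
        have hMN : M = N := by simp [M, hKb, MonoidHom.comap_bot]
        exact hMc (hMN ▸ hNc)
      · simpa using hk
      · have : p < p ^ (k + 1 + 1) := lt_self_pow₀ (Fact.out : p.Prime).one_lt (by omega)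
        omega
    obtain ⟨E, -, hEe, hEc, hEmem⟩ := CfsgLib.PGroups.omega_of_cyclic_maximal hp (hG.to_subgroup M)
      hMc (N.subgroupOf M) ((Subgroup.subgroupOfEquivOfLe hNM).isCyclic.mpr hNc) hidx
    refine ⟨E.map M.subtype, by rw [Subgroup.card_map_of_injective M.subtype_injective, hEc],
      ?_, ?_, fun x hx => ⟨⟨x, hM x hx⟩, hEmem _ (Subtype.ext hx), rfl⟩⟩
    · rintro _ ⟨x, hx, rfl⟩
      rw [← map_pow, hEe.2 x hx, map_one]
    · rintro _ ⟨x, hx, rfl⟩ _ ⟨y, hy, rfl⟩
      rw [← map_mul, ← map_mul]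
      exact congrArg M.subtype (congrArg Subtype.val (hEe.1.is_comm.comm ⟨x, hx⟩ ⟨y, hy⟩))

/-- A strongly closed metacyclic subgroup is normal (`p` odd). -/
theorem isNormal_of_metacyclic (hS : IsPGroup p S) (hF : F.IsSaturated p) (hp : p ≠ 2)
    {T : Subgroup Ω} (hT : F.StronglyClosed T) (hm : IsMetacyclic T) : F.IsNormal T := by
  haveI := finite_of_le hT.1
  obtain ⟨E, hEc, hEp, hEcomm, hEmem⟩ := exists_omega_of_metacyclic (isPGroup_of_le hS hT.1) hp hm
  have hle : omegaOne p T ≤ E.map T.subtype := (Subgroup.closure_le _).mpr fun x hx =>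
    ⟨⟨x, hx.1⟩, hEmem _ (Subtype.ext hx.2), rfl⟩
  refine isNormal_of_small_omega hS hF hp hT (fun x hx => ?_) (fun x hx y hy => ?_) ?_
  · obtain ⟨a, ha, rfl⟩ := hle hx
    rw [← map_pow, hEp a ha, map_one]
  · obtain ⟨a, ha, rfl⟩ := hle hx
    obtain ⟨b, hb, rfl⟩ := hle hy
    rw [← map_mul, ← map_mul, hEcomm a ha b hb]
  · haveI : Finite (E.map T.subtype) := finite_of_le ((Subgroup.map_subtype_le E).trans hT.1)
    refine le_trans (Subgroup.card_le_of_le hle) ?_
    rw [Subgroup.card_map_of_injective T.subtype_injective]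
    exact hEc

end CfsgLib.FusionModels
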