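import Mathlib.GroupTheory.PGroup
import Mathlib.GroupTheory.Index
import Cfsg.Agent.Lib.PGroups.Aut
import Cfsg.Agent.Lib.BGAppendix.Basic

/-!
Groups of automorphisms of an abelian `p`-group with a Sylow subgroup of order `p` consisting of
transvections.
-/

set_option autoImplicit false
set_option linter.style.haveILetI false
set_option linter.unusedSectionVars false

namespace CfsgLib.FusionModels

variable {A : Type*} [Group A]

/-- The stabilizer of `1 ≤ X ≤ W ≤ A`. -/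
def twoStepStab (X W : Subgroup A) (hXW : X ≤ W) : Subgroup (MulAut A) where
  carrier := {h | (∀ a, a⁻¹ * h a ∈ W) ∧ (∀ w ∈ W, w⁻¹ * h w ∈ X) ∧ ∀ x ∈ X, h x = x}
  one_mem' := ⟨fun a => by simp, fun w _ => by simp, fun x _ => rfl⟩
  mul_mem' := fun {h k} hh hk => by
    refine ⟨fun a => ?_, fun w hw => ?_, fun x hx => ?_⟩
    · have := W.mul_mem (hk.1 a) (hh.1 (k a))
      simpa [mul_assoc] using this
    · have hkw : k w ∈ W := by
        have := W.mul_mem hw (hXW (hk.2.1 w hw))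
        simpa using this
      have := X.mul_mem (hk.2.1 w hw) (hh.2.1 _ hkw)
      simpa [mul_assoc] using this
    · rw [MulAut.mul_apply, hk.2.2 x hx, hh.2.2 x hx]
  inv_mem' := fun {h} hh => by
    refine ⟨fun a => ?_, fun w hw => ?_, fun x hx => ?_⟩
    · simpa using W.inv_mem (hh.1 (h⁻¹ a))
    · have hw' : h⁻¹ w ∈ W := by
        have := W.mul_mem hw (W.inv_mem (hh.1 (h⁻¹ w)))
        simpa using this
      simpa using X.inv_mem (hh.2.1 _ hw')
    · conv_lhs => rw [← hh.2.2 x hx]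
      simp

theorem isPGroup_twoStepStab [Finite A] {p : ℕ} [Fact p.Prime] (hA : IsPGroup p A)
    (X W : Subgroup A) (hXW : X ≤ W) : IsPGroup p (twoStepStab X W hXW) := by
  haveI : Finite (MulAut A) :=
    Finite.of_injective (fun f : MulAut A => (f : A → A)) fun _ _ h => MulEquiv.ext (congrFun h)
  have key : ∀ h ∈ twoStepStab X W hXW, (orderOf h).Coprime p → h = 1 := by
    intro h hh hcop
    have h1 : ∀ w ∈ W, h w = w := fun w hw =>
      CfsgLib.PGroups.fixed_of_fixed_diff hA h hcop (hh.2.2 _ (hh.2.1 w hw))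
    exact MulEquiv.ext fun a => CfsgLib.PGroups.fixed_of_fixed_diff hA h hcop (h1 _ (hh.1 a))
  rintro ⟨g, hg⟩
  refine ⟨(orderOf g).factorization p, Subtype.ext ?_⟩
  show g ^ p ^ (orderOf g).factorization p = 1
  refine key _ (pow_mem hg _) ?_
  rw [orderOf_pow_of_dvd (pow_ne_zero _ (Fact.out : p.Prime).ne_zero) (Nat.ordProj_dvd _ p)]
  exact (Nat.coprime_ordCompl (Fact.out : p.Prime) (orderOf_pos g).ne').symm

/-- Two subgroups of the same prime order with a common nontrivial element are equal. -/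
theorem eq_of_prime_card_of_mem {p : ℕ} [Fact p.Prime] [Finite A] {U V : Subgroup A}
    (hU : Nat.card U = p) (hV : Nat.card V = p) {a : A} (ha : a ≠ 1) (haU : a ∈ U) (haV : a ∈ V) :
    U = V := by
  have key : ∀ W : Subgroup A, Nat.card W = p → a ∈ W → Subgroup.zpowers a = W := fun W hW haW => by
    refine Subgroup.eq_of_le_of_card_ge (Subgroup.zpowers_le.mpr haW) ?_
    rw [Nat.card_zpowers, hW]
    have h1 : orderOf a ∣ p := by
      have := orderOf_dvd_natCard (⟨a, haW⟩ : W)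
      rwa [Subgroup.orderOf_mk, hW] at this
    rcases (Nat.dvd_prime (Fact.out : p.Prime)).mp h1 with h | h
    · exact absurd (orderOf_eq_one_iff.mp h) ha
    · rw [h]
  rw [← key U hU haU, key V hV haV]

theorem exists_pow_eq_of_prime_card {p : ℕ} [Fact p.Prime] {U : Subgroup A}
    (hU : Nat.card U = p) {c a : A} (hc : c ≠ 1) (hcU : c ∈ U) (haU : a ∈ U) :
    ∃ k : ℕ, c ^ k = a := by
  obtain ⟨k, hk⟩ := Submonoid.mem_powers_iff _ _ |>.mp <|
    mem_powers_of_prime_card (G := U) hU (g := ⟨c, hcU⟩) (g' := ⟨a, haU⟩)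
      fun h => hc (congrArg Subtype.val h)
  exact ⟨k, congrArg Subtype.val hk⟩

/-- `G` acts on the abelian group `A` with transvection group `T` with axis `Zc` and centre `Dc`. -/
structure IsTransvectionSetting (p : ℕ) (G T : Subgroup (MulAut A)) (Zc Dc : Subgroup A) : Prop where
  comm : ∀ a b : A, a * b = b * a
  small : ∀ H : Subgroup (MulAut A), H ≤ G → IsPGroup p H → Nat.card H ≤ p
  le : T ≤ G
  card_T : Nat.card T = p
  not_normal : ∃ g ∈ G, ∃ u ∈ T, g * u * g⁻¹ ∉ T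
  D_le : Dc ≤ Zc
  card_D : Nat.card Dc = p
  index_Z : Zc.index = p
  fix : ∀ u ∈ T, ∀ z ∈ Zc, u z = z
  diff : ∀ u ∈ T, ∀ a, a⁻¹ * u a ∈ Dc
  exact : ∀ u ∈ T, u ≠ 1 → ∀ a, u a = a → a ∈ Zc

variable [Finite A] {p : ℕ} [Fact p.Prime] {G T : Subgroup (MulAut A)} {Zc Dc : Subgroup A}

theorem mem_map_aut {H : Subgroup A} {g : MulAut A} {a : A} :
    a ∈ H.map g.toMonoidHom ↔ g⁻¹ a ∈ H :=
  ⟨by rintro ⟨b, hb, rfl⟩; simpa using hb, fun h => ⟨g⁻¹ a, h, by simp⟩⟩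

theorem card_map_aut (H : Subgroup A) (g : MulAut A) :
    Nat.card (H.map g.toMonoidHom) = Nat.card H :=
  Subgroup.card_map_of_injective g.injective

theorem exists_mem_ne_one {H : Subgroup A} (h : H ≠ ⊥) : ∃ a ∈ H, a ≠ 1 :=
  H.bot_or_exists_ne_one.resolve_left h

namespace IsTransvectionSetting

variable (hA : IsPGroup p A) (hs : IsTransvectionSetting p G T Zc Dc)

include hs in
theorem conj_fix {g u : MulAut A} (hu : u ∈ T) {a : A} (ha : a ∈ Zc.map g.toMonoidHom) :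
    (g * u * g⁻¹) a = a := by
  show g (u (g⁻¹ a)) = a
  rw [hs.fix u hu _ (mem_map_aut.mp ha)]
  simp

include hs in
theorem conj_diff {g u : MulAut A} (hu : u ∈ T) (a : A) :
    a⁻¹ * (g * u * g⁻¹) a ∈ Dc.map g.toMonoidHom := by
  rw [mem_map_aut]
  have h := hs.diff u hu (g⁻¹ a)
  simpa using h

include hs in
theorem conj_exact {g u : MulAut A} (hu : u ∈ T) (hu1 : u ≠ 1) {a : A}
    (ha : (g * u * g⁻¹) a = a) : a ∈ Zc.map g.toMonoidHom := by
  rw [mem_map_aut]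
  refine hs.exact u hu hu1 _ ?_
  apply g.injective
  simpa using ha

include hA hs in
theorem mem_of_le {g : MulAut A} (hg : g ∈ G) (h : Dc.map g.toMonoidHom ≤ Zc) :
    ∀ u ∈ T, g * u * g⁻¹ ∈ T := by
  intro u hu
  set X := Dc.map g.toMonoidHom
  set W := Dc ⊔ X
  set H := twoStepStab X W le_sup_right ⊓ G
  have hTH : T ≤ H := fun t ht => ⟨⟨fun a => Subgroup.mem_sup_left (hs.diff t ht a), fun w hw => by
      have hwZ : w ∈ Zc := sup_le hs.D_le h hw
      rw [hs.fix t ht w hwZ, inv_mul_cancel]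
      exact X.one_mem, fun x hx => hs.fix t ht x (h hx)⟩, hs.le ht⟩
  have hvH : g * u * g⁻¹ ∈ H := ⟨⟨fun a => Subgroup.mem_sup_right (hs.conj_diff hu a),
    fun w _ => hs.conj_diff hu w, fun x hx => hs.conj_fix hu (Subgroup.map_mono hs.D_le hx)⟩,
    G.mul_mem (G.mul_mem hg (hs.le hu)) (G.inv_mem hg)⟩
  haveI : Finite (MulAut A) :=
    Finite.of_injective (fun f : MulAut A => (f : A → A)) fun _ _ h => MulEquiv.ext (congrFun h)
  have heq : T = H := Subgroup.eq_of_le_of_card_ge hTH (by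
    rw [hs.card_T]
    exact hs.small H inf_le_right ((isPGroup_twoStepStab hA X W le_sup_right).to_le inf_le_left))
  exact heq.ge hvH

include hA hs in
theorem conj_mem_of_le {g g' : MulAut A} (hg : g ∈ G) (hg' : g' ∈ G)
    (h : Dc.map g'.toMonoidHom ≤ Zc.map g.toMonoidHom) :
    ∀ u ∈ T, ∃ u' ∈ T, g' * u * g'⁻¹ = g * u' * g⁻¹ := by
  intro u hu
  have h' : Dc.map (g⁻¹ * g').toMonoidHom ≤ Zc := by
    rintro _ ⟨d, hd, rfl⟩
    exact mem_map_aut.mp (h ⟨d, hd, rfl⟩)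
  exact ⟨_, hs.mem_of_le hA (G.mul_mem (G.inv_mem hg) hg') h' u hu, by group⟩

include hs in
theorem exists_moved : ∃ a : A, a ∉ Zc := by
  by_contra h
  push Not at h
  have h1 := hs.index_Z
  rw [(Subgroup.eq_top_iff' Zc).mpr h, Subgroup.index_top] at h1
  exact (Fact.out : p.Prime).ne_one h1.symm

include hs in
theorem exists_ne_one : ∃ u ∈ T, u ≠ 1 := by
  by_contra h
  push Not at h
  have h1 := hs.card_T
  rw [(Subgroup.eq_bot_iff_forall T).mpr h, Subgroup.card_bot] at h1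
  exact (Fact.out : p.Prime).ne_one h1.symm

include hA hs in
theorem centre_eq_of_le {g g' : MulAut A} (hg : g ∈ G) (hg' : g' ∈ G)
    (h : Dc.map g'.toMonoidHom ≤ Zc.map g.toMonoidHom) :
    Dc.map g'.toMonoidHom = Dc.map g.toMonoidHom := by
  obtain ⟨u, hu, hu1⟩ := hs.exists_ne_one
  obtain ⟨u', hu', he⟩ := hs.conj_mem_of_le hA hg hg' h u hu
  obtain ⟨a, ha⟩ := hs.exists_moved
  have hne : (g' a)⁻¹ * (g' * u * g'⁻¹) (g' a) ≠ 1 := by
    intro h1
    refine ha ?_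
    have := mem_map_aut.mp (hs.conj_exact hu hu1 (inv_mul_eq_one.mp h1).symm)
    simpa using this
  exact eq_of_prime_card_of_mem ((card_map_aut Dc g').trans hs.card_D)
    ((card_map_aut Dc g).trans hs.card_D) hne (hs.conj_diff hu _) (by rw [he]; exact hs.conj_diff hu' _)

include hs in
theorem le_or_disjoint (g : MulAut A) (H : Subgroup A) :
    Dc.map g.toMonoidHom ≤ H ∨ Dc.map g.toMonoidHom ⊓ H = ⊥ := by
  refine or_iff_not_imp_right.mpr fun hne x hx => ?_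
  obtain ⟨a, ⟨haD, haH⟩, ha⟩ := exists_mem_ne_one hne
  obtain ⟨k, rfl⟩ := exists_pow_eq_of_prime_card ((card_map_aut Dc g).trans hs.card_D) ha haD hx
  exact H.pow_mem haH k

include hA hs in
/-- The structure: `A = M × K`, `K` fixed by all conjugates of `T`. -/
theorem exists_decomposition : ∃ K M : Subgroup A,
    K ≤ Zc ∧ Dc ≤ M ∧ Nat.card M = p ^ 2 ∧ M ⊓ K = ⊥ ∧ M ⊔ K = ⊤ ∧ Dc ⊔ K = Zc ∧ M ⊓ Zc = Dc ∧
    (∀ g ∈ G, ∀ a ∈ K, g a ∈ K) ∧ (∀ g ∈ G, ∀ a ∈ M, g a ∈ M) ∧ (∀ a ∈ M, a ^ p = 1) ∧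
    (∀ g ∈ G, ∃ l ∈ G, (∀ a, a⁻¹ * l a ∈ M) ∧ ∀ u ∈ T, (l⁻¹ * g) * u * (l⁻¹ * g)⁻¹ ∈ T) ∧
    (p ≠ 2 → ∃ ν ∈ G, (∀ a ∈ M, ν a = a⁻¹) ∧ (∀ a ∈ K, ν a = a) ∧
      ∀ u ∈ T, ν * u * ν⁻¹ = u) := by
  obtain ⟨g₁, hg₁, u₁, hu₁T, hu₁⟩ := hs.not_normal
  have hu₁1 : u₁ ≠ 1 := fun h => hu₁ (by rw [h]; simp)
  set D₁ := Dc.map g₁.toMonoidHom with hD₁
  set Z₁ := Zc.map g₁.toMonoidHom with hZ₁
  have hone : (1 : MulAut A) ∈ G := G.one_mem
  have hmap1 : ∀ H : Subgroup A, H.map (1 : MulAut A).toMonoidHom = H := fun H => by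
    ext a; rw [mem_map_aut]; simp
  have hcardD : ∀ g : MulAut A, Nat.card (Dc.map g.toMonoidHom) = p := fun g =>
    (card_map_aut Dc g).trans hs.card_D
  have hD₁Z : D₁ ⊓ Zc = ⊥ := (hs.le_or_disjoint g₁ Zc).resolve_left
    fun h => hu₁ (hs.mem_of_le hA hg₁ h u₁ hu₁T)
  have hDZ₁ : Dc ⊓ Z₁ = ⊥ := by
    have h := hs.le_or_disjoint 1 Z₁
    rw [hmap1] at h
    refine h.resolve_left fun h => ?_
    refine hu₁ ?_
    have h' := hs.centre_eq_of_le hA hg₁ hone (by rwa [hmap1])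
    rw [hmap1] at h'
    exact hs.mem_of_le hA hg₁ (h' ▸ hs.D_le) u₁ hu₁T
  set K := Zc ⊓ Z₁ with hK
  set M := Dc ⊔ D₁ with hM
  have hnormal : ∀ X Y : Subgroup A, X ≤ Subgroup.normalizer (Y : Set A) := fun X Y x _ =>
    Subgroup.mem_normalizer_iff.mpr fun y => by rw [hs.comm x y, mul_inv_cancel_right]
  have hMcard : Nat.card M = p ^ 2 := by
    rw [CfsgLib.BGAppendix.card_sup_eq_mul _ _ (hnormal _ _)
      (le_bot_iff.mp ((inf_le_inf_right D₁ hs.D_le).trans (by rw [inf_comm]; exact hD₁Z.le))),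
      hs.card_D, hcardD, pow_two]
  have hmul : ∀ {X Y : Subgroup A} {a : A}, a ∈ X ⊔ Y → ∃ x ∈ X, ∃ y ∈ Y, x * y = a := by
    intro X Y a ha
    have ha' : a ∈ ((X ⊔ Y : Subgroup A) : Set A) := ha
    rw [Subgroup.coe_mul_of_left_le_normalizer_right X Y (hnormal _ _)] at ha'
    exact Set.mem_mul.mp ha'
  have hMZ : M ⊓ Zc = Dc := by
    refine le_antisymm ?_ (le_inf le_sup_left hs.D_le)
    rintro a ⟨haM, haZ⟩
    obtain ⟨d, hd, e, he, rfl⟩ := hmul haM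
    have : e ∈ D₁ ⊓ Zc := ⟨he, by
      have := Zc.mul_mem (Zc.inv_mem (hs.D_le hd)) haZ
      simpa using this⟩
    rw [hD₁Z, Subgroup.mem_bot] at this
    rw [this, mul_one]
    exact hd
  have hMK : M ⊓ K = ⊥ := by
    rw [hK, ← inf_assoc, hMZ]
    exact hDZ₁
  have hidx₁ : Z₁.index = p := by
    have h1 := Z₁.card_mul_index
    rw [card_map_aut Zc g₁, ← Zc.card_mul_index] at h1
    rw [Nat.eq_of_mul_eq_mul_left Nat.card_pos h1, hs.index_Z]
  have hp0 : 0 < p := (Fact.out : p.Prime).pos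
  have hKle : Nat.card A ≤ p ^ 2 * Nat.card K := by
    rw [← K.card_mul_index, mul_comm (p ^ 2)]
    refine Nat.mul_le_mul_left _ ((Subgroup.index_inf_le (H := Zc) (K := Z₁)).trans ?_)
    rw [hs.index_Z, hidx₁, pow_two]
  have hMKcard : Nat.card (M ⊔ K : Subgroup A) = p ^ 2 * Nat.card K := by
    rw [CfsgLib.BGAppendix.card_sup_eq_mul _ _ (hnormal _ _) hMK, hMcard]
  have hMKtop : M ⊔ K = ⊤ := Subgroup.eq_top_of_le_card _ (by rw [hMKcard]; exact hKle)
  have hKZ : Dc ⊔ K = Zc := by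
    refine le_antisymm (sup_le hs.D_le inf_le_left) fun a ha => ?_
    obtain ⟨m, hm, k, hk, rfl⟩ := hmul (hMKtop ▸ Subgroup.mem_top a : a ∈ M ⊔ K)
    refine Subgroup.mul_mem _ (Subgroup.mem_sup_left (hMZ.le ⟨hm, ?_⟩)) (Subgroup.mem_sup_right hk)
    have := Zc.mul_mem ha (Zc.inv_mem hk.1)
    simpa using this
  obtain ⟨u₀, hu₀, hu₀1⟩ := hs.exists_ne_one
  let v : MulAut A := g₁ * u₀ * g₁⁻¹
  have hv : v ∈ G := G.mul_mem (G.mul_mem hg₁ (hs.le hu₀)) (G.inv_mem hg₁)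
  have hvK : ∀ a ∈ K, v a = a := fun a ha => hs.conj_fix hu₀ ha.2
  have hvZ : ∀ a ∈ Z₁, v a = a := fun a ha => hs.conj_fix hu₀ ha
  have hvD : ∀ a, a⁻¹ * v a ∈ D₁ := fun a => hs.conj_diff hu₀ a
  have hvpow : ∀ (d : A) (j : ℕ), (v ^ j) d = d * (d⁻¹ * v d) ^ j := by
    intro d j
    induction j with
    | zero => simp
    | succ j ih =>
      rw [pow_succ', MulAut.mul_apply, ih, map_mul, map_pow,
        hvZ _ (Subgroup.map_mono hs.D_le (hvD d)), pow_succ', ← mul_assoc, mul_inv_cancel_left]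
  have hvmoves : ∀ d ∈ Dc, d ≠ 1 → d⁻¹ * v d ≠ 1 := by
    intro d hd hd1 h
    have h1 : d ∈ Dc ⊓ Z₁ := ⟨hd, hs.conj_exact hu₀ hu₀1 (inv_mul_eq_one.mp h).symm⟩
    rw [hDZ₁, Subgroup.mem_bot] at h1
    exact hd1 h1
  -- the lines of `M`
  have hline : ∀ m ∈ M, m ≠ 1 → m ∈ D₁ ∨ ∃ j : ℕ, m ∈ Dc.map (v ^ j).toMonoidHom := by
    intro m hm hm1
    obtain ⟨d, hd, e, he, rfl⟩ := hmul hm
    by_cases hd1 : d = 1
    · exact Or.inl (by rw [hd1, one_mul]; exact he)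
    · obtain ⟨j, hj⟩ := exists_pow_eq_of_prime_card (hcardD g₁) (hvmoves d hd hd1) (hvD d) he
      exact Or.inr ⟨j, d, hd, (hvpow d j).trans (by rw [hj])⟩
  have hvjK : ∀ (j : ℕ) (a : A), a ∈ K → (v ^ j) a = a := by
    intro j a ha
    induction j with
    | zero => rfl
    | succ j ih => rw [pow_succ, MulAut.mul_apply, hvK a ha, ih]
  have hconj : ∀ g ∈ G, (∀ u ∈ T, ∀ a ∈ K, (g * u * g⁻¹) a = a) ∧
      Dc.map g.toMonoidHom ≤ M ∧
      (Dc.map g.toMonoidHom = D₁ ∨ ∃ j : ℕ, Dc.map g.toMonoidHom = Dc.map (v ^ j).toMonoidHom) := by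
    intro g hg
    have hne : M ⊓ Zc.map g.toMonoidHom ≠ ⊥ := by
      intro h
      have h1 := CfsgLib.BGAppendix.card_sup_eq_mul _ _ (hnormal M (Zc.map g.toMonoidHom)) h
      have h2 := Subgroup.card_le_card_group (M ⊔ Zc.map g.toMonoidHom)
      rw [h1, hMcard, card_map_aut, ← Zc.card_mul_index, hs.index_Z, mul_comm (Nat.card Zc)] at h2
      have h3 := Nat.le_of_mul_le_mul_right h2 Nat.card_pos
      exact absurd h3 (not_le.mpr (lt_self_pow₀ (Fact.out : p.Prime).one_lt one_lt_two))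
    obtain ⟨m, ⟨hmM, hmZ⟩, hm1⟩ := exists_mem_ne_one hne
    obtain ⟨g', hg', hg'm, hg'K, hg'c⟩ : ∃ g' ∈ G, m ∈ Dc.map g'.toMonoidHom ∧
        (∀ u ∈ T, ∀ a ∈ K, (g' * u * g'⁻¹) a = a) ∧
        (Dc.map g'.toMonoidHom = D₁ ∨ ∃ j : ℕ, Dc.map g'.toMonoidHom = Dc.map (v ^ j).toMonoidHom) := by
      rcases hline m hmM hm1 with h | ⟨j, h⟩
      · exact ⟨g₁, hg₁, h, fun u hu a ha => hs.conj_fix hu ha.2, Or.inl rfl⟩
      · refine ⟨v ^ j, G.pow_mem hv j, h, fun u hu a ha => ?_, Or.inr ⟨j, rfl⟩⟩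
        show (v ^ j) (u ((v ^ j)⁻¹ a)) = a
        have h' : (v ^ j)⁻¹ a = a := by
          conv_lhs => rw [← hvjK j a ha]
          simp
        rw [h', hs.fix u hu a ha.1, hvjK j a ha]
    have hle : Dc.map g'.toMonoidHom ≤ Zc.map g.toMonoidHom := by
      refine (hs.le_or_disjoint g' _).resolve_right fun h => hm1 ?_
      rw [← Subgroup.mem_bot, ← h]
      exact ⟨hg'm, hmZ⟩
    have heq := hs.centre_eq_of_le hA hg hg' hle
    have hle' : Dc.map g.toMonoidHom ≤ Zc.map g'.toMonoidHom :=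
      heq ▸ Subgroup.map_mono hs.D_le
    refine ⟨fun u hu a ha => ?_, ?_, heq ▸ hg'c⟩
    · obtain ⟨u', hu', he⟩ := hs.conj_mem_of_le hA hg' hg hle' u hu
      rw [he]
      exact hg'K u' hu' a ha
    · rw [← heq]
      refine (hs.le_or_disjoint g' M).resolve_right fun h => hm1 ?_
      rw [← Subgroup.mem_bot, ← h]
      exact ⟨hg'm, hmM⟩
  have hKchar : ∀ a, (∀ g ∈ G, ∀ u ∈ T, (g * u * g⁻¹) a = a) → a ∈ K := fun a ha =>
    ⟨hs.exact u₀ hu₀ hu₀1 a (by simpa using ha 1 hone u₀ hu₀),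
      hs.conj_exact hu₀ hu₀1 (ha g₁ hg₁ u₀ hu₀)⟩
  -- invariance
  have hKinv : ∀ g ∈ G, ∀ a ∈ K, g a ∈ K := by
    intro g hg a ha
    refine hKchar _ fun g' hg' u hu => ?_
    have h := (hconj (g⁻¹ * g') (G.mul_mem (G.inv_mem hg) hg')).1 u hu a ha
    have h' := congrArg g h
    simpa using h'
  have hMinv : ∀ g ∈ G, ∀ a ∈ M, g a ∈ M := by
    intro g hg a ha
    have hle : M ≤ M.comap g.toMonoidHom := by
      refine sup_le (fun d hd => (hconj g hg).2.1 ⟨d, hd, rfl⟩) ?_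
      rintro _ ⟨d, hd, rfl⟩
      exact (hconj (g * g₁) (G.mul_mem hg hg₁)).2.1 ⟨d, hd, rfl⟩
    exact hle ha
  let t : MulAut A := u₀
  have htD : ∀ a, a⁻¹ * t a ∈ Dc := fun a => hs.diff u₀ hu₀ a
  have htZ : ∀ z ∈ Zc, t z = z := hs.fix u₀ hu₀
  have htmoves : ∀ e ∈ D₁, e ≠ 1 → e⁻¹ * t e ≠ 1 := by
    intro e he he1 h
    have h1 : e ∈ D₁ ⊓ Zc := ⟨he, hs.exact u₀ hu₀ hu₀1 e (inv_mul_eq_one.mp h).symm⟩
    rw [hD₁Z, Subgroup.mem_bot] at h1
    exact he1 h1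
  have htpow : ∀ (e : A) (j : ℕ), (t ^ j) e = e * (e⁻¹ * t e) ^ j := by
    intro e j
    induction j with
    | zero => simp
    | succ j ih =>
      rw [pow_succ', MulAut.mul_apply, ih, map_mul, map_pow, htZ _ (hs.D_le (htD e)), pow_succ',
        ← mul_assoc, mul_inv_cancel_left]
  let moves : Subgroup (MulAut A) :=
    { carrier := {l | (∀ a, a⁻¹ * l a ∈ M) ∧ l ∈ G}
      one_mem' := ⟨fun a => by simp, G.one_mem⟩
      mul_mem' := fun {l l'} hl hl' => ⟨fun a => by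
        have := M.mul_mem (hl'.1 a) (hl.1 (l' a))
        simpa [mul_assoc] using this, G.mul_mem hl.2 hl'.2⟩
      inv_mem' := fun {l} hl => ⟨fun a => by simpa using M.inv_mem (hl.1 (l⁻¹ a)), G.inv_mem hl.2⟩ }
  have hvM : v ∈ moves := ⟨fun a => (le_sup_right : D₁ ≤ M) (hvD a), hv⟩
  have htM : t ∈ moves := ⟨fun a => (le_sup_left : Dc ≤ M) (htD a), hs.le hu₀⟩
  refine ⟨K, M, inf_le_left, le_sup_left, hMcard, hMK, hMKtop, hKZ, hMZ, hKinv, hMinv, ?_, ?_, ?_⟩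
  · intro a ha
    have hpow : ∀ U : Subgroup A, Nat.card U = p → ∀ x ∈ U, x ^ p = 1 := fun U hU x hx => by
      have := pow_card_eq_one' (x := (⟨x, hx⟩ : U))
      rw [hU] at this
      exact congrArg Subtype.val this
    obtain ⟨d, hd, e, he, rfl⟩ := hmul ha
    rw [(show Commute d e from hs.comm d e).mul_pow, hpow _ hs.card_D d hd, hpow _ (hcardD g₁) e he,
      mul_one]
  · intro g hg
    obtain ⟨l, hl, hlD⟩ : ∃ l ∈ moves, Dc.map g.toMonoidHom = Dc.map l.toMonoidHom := by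
      rcases (hconj g hg).2.2 with h | ⟨j, h⟩
      · obtain ⟨d, hd, hd1⟩ := exists_mem_ne_one (H := Dc) fun hb => by
          have := hs.card_D
          rw [hb, Subgroup.card_bot] at this
          exact (Fact.out : p.Prime).ne_one this.symm
        set e := d⁻¹ * v d
        have he : e ∈ D₁ := hvD d
        have he1 : e ≠ 1 := hvmoves d hd hd1
        obtain ⟨i, hi⟩ := exists_pow_eq_of_prime_card hs.card_D (htmoves e he he1) (htD e) hd
        have hvd : (t ^ i) e = v d := by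
          rw [htpow, hi, hs.comm e d]
          simp [e]
        refine ⟨(t ^ i)⁻¹ * v, moves.mul_mem (moves.inv_mem (moves.pow_mem htM i)) hvM, ?_⟩
        rw [h]
        refine eq_of_prime_card_of_mem (hcardD g₁) (hcardD _) he1 he ⟨d, hd, ?_⟩
        show (t ^ i)⁻¹ (v d) = e
        rw [← hvd, MulAut.inv_apply_self]
      · exact ⟨v ^ j, moves.pow_mem hvM j, h⟩
    refine ⟨l, hl.2, hl.1, hs.mem_of_le hA (G.mul_mem (G.inv_mem hl.2) hg) ?_⟩
    rintro _ ⟨d, hd, rfl⟩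
    obtain ⟨d', hd', he⟩ := hlD.le (⟨d, hd, rfl⟩ : g d ∈ Dc.map g.toMonoidHom)
    show l⁻¹ (g d) ∈ Zc
    rw [show g d = l d' from he.symm, MulAut.inv_apply_self]
    exact hs.D_le hd'
  · intro hp2
    obtain ⟨w, hw, hw1⟩ := exists_mem_ne_one (H := D₁) fun hb => by
      have := hcardD g₁
      rw [← hD₁, hb, Subgroup.card_bot] at this
      exact (Fact.out : p.Prime).ne_one this.symm
    set z₀ := w⁻¹ * t w
    have hz₀ : z₀ ∈ Dc := htD w
    have hz₀1 : z₀ ≠ 1 := htmoves w hw hw1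
    have htz : t z₀ = z₀ := htZ _ (hs.D_le hz₀)
    have htw : t w = w * z₀ := by simp [z₀]
    obtain ⟨k, hk⟩ := exists_pow_eq_of_prime_card (hcardD g₁) (hvmoves z₀ hz₀ hz₀1) (hvD z₀)
      (D₁.inv_mem hw)
    let l : MulAut A := v ^ k
    have hlz : l z₀ = z₀ * w⁻¹ := by
      show (v ^ k) z₀ = _
      rw [hvpow, hk]
    have hlw : l w = w := by
      show (v ^ k) w = w
      rw [hvpow, hvZ w (Subgroup.map_mono hs.D_le hw), inv_mul_cancel, one_pow, mul_one]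
    let r : MulAut A := t * l * t
    have e1 : r z₀ = w⁻¹ := by
      simp only [r, MulAut.mul_apply, htz, hlz, map_mul, map_inv, htw]
      rw [mul_inv_rev, hs.comm z₀⁻¹ w⁻¹, ← mul_assoc, hs.comm z₀ w⁻¹, mul_assoc, mul_inv_cancel,
        mul_one]
    have e2 : r w = z₀ := by
      simp only [r, MulAut.mul_apply, htw, map_mul, hlz, hlw, map_inv, htz]
      rw [mul_inv_rev, hs.comm z₀⁻¹ w⁻¹, ← mul_assoc z₀ w⁻¹, hs.comm z₀ w⁻¹, mul_assoc w⁻¹,
        mul_inv_cancel, mul_one, hs.comm w z₀, mul_assoc, mul_inv_cancel, mul_one]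
    have hrK : ∀ a ∈ K, r a = a := fun a ha => by
      simp only [r, l, MulAut.mul_apply, htZ a ha.1, hvjK k a ha]
    have hMgen : ∀ a ∈ M, ∃ i j : ℕ, z₀ ^ i * w ^ j = a := by
      intro a ha
      obtain ⟨d, hd, e, he, rfl⟩ := hmul ha
      obtain ⟨i, rfl⟩ := exists_pow_eq_of_prime_card hs.card_D hz₀1 hz₀ hd
      obtain ⟨j, rfl⟩ := exists_pow_eq_of_prime_card (hcardD g₁) hw1 hw he
      exact ⟨i, j, rfl⟩
    have hνM : ∀ a ∈ M, (r * r) a = a⁻¹ := by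
      intro a ha
      obtain ⟨i, j, rfl⟩ := hMgen a ha
      have f1 : (r * r) z₀ = z₀⁻¹ := by show r (r z₀) = _; rw [e1, map_inv, e2]
      have f2 : (r * r) w = w⁻¹ := by show r (r w) = _; rw [e2, e1]
      rw [map_mul, map_pow, map_pow, f1, f2, inv_pow, inv_pow]
      exact (hs.comm _ _).trans (mul_inv_rev _ _).symm
    have hνK : ∀ a ∈ K, (r * r) a = a := fun a ha => by rw [MulAut.mul_apply, hrK a ha, hrK a ha]
    refine ⟨r * r, ?_, hνM, hνK, fun u hu => ?_⟩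
    · have : r ∈ G := G.mul_mem (G.mul_mem (hs.le hu₀) (G.pow_mem hv k)) (hs.le hu₀)
      exact G.mul_mem this this
    · rw [mul_inv_eq_iff_eq_mul]
      refine MulEquiv.ext fun a => ?_
      obtain ⟨m, hm, c, hc, rfl⟩ := hmul (hMKtop ▸ Subgroup.mem_top a : a ∈ M ⊔ K)
      have hum : u m ∈ M := hMinv u (hs.le hu) m hm
      show (r * r) (u (m * c)) = u ((r * r) (m * c))
      rw [map_mul u, map_mul (r * r), map_mul (r * r), hs.fix u hu c hc.1, hνK c hc, hνM m hm,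
        hνM _ hum, map_mul, map_inv, hs.fix u hu c hc.1]

end IsTransvectionSetting

end CfsgLib.FusionModels
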