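import Cfsg.Agent.Lib.PGroups.Aut

/-!
Two opposite transvections of an elementary abelian group generate an element inverting their plane.
-/

set_option autoImplicit false

namespace CfsgLib.FusionModels

variable {W : Type*} [Group W]

/-- Two homomorphisms agreeing on a transvection plane and on the common fixed points are equal. -/
theorem hom_ext_of_pair (hcomm : ∀ a b : W, a * b = b * a) {τ u : MulAut W} {z c : W}
    (hτz : τ z = z) (hτc : τ c = c * z) (huc : u c = c) (huz : u z = z * c⁻¹)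
    (hτd : ∀ a, ∃ k : ℤ, τ a = a * z ^ k) (hud : ∀ a, ∃ k : ℤ, u a = a * c ^ k)
    {f g : MulAut W} (hz : f z = g z) (hc : f c = g c)
    (hfix : ∀ a, τ a = a → u a = a → f a = g a) : f = g := by
  refine MulEquiv.ext fun a => ?_
  obtain ⟨r, hr⟩ := hτd a
  set a' := a * (c ^ r)⁻¹ with ha'
  have h1 : τ a' = a' := by
    rw [ha', map_mul, map_inv, map_zpow, hr, hτc, (show Commute c z from hcomm c z).mul_zpow]
    group
  obtain ⟨s, hs⟩ := hud a'
  set a'' := a' * z ^ s with ha''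
  have h2 : τ a'' = a'' := by rw [ha'', map_mul, map_zpow, h1, hτz]
  have h3 : u a'' = a'' := by
    rw [ha'', map_mul, map_zpow, hs, huz, (show Commute z c⁻¹ from hcomm z c⁻¹).mul_zpow,
      hcomm (z ^ s)]
    group
  have e : f (a'' * (z ^ s)⁻¹ * c ^ r) = g (a'' * (z ^ s)⁻¹ * c ^ r) := by
    simp only [map_mul, map_inv, map_zpow, hz, hc, hfix _ h2 h3]
  rwa [show a'' * (z ^ s)⁻¹ * c ^ r = a by rw [ha'', ha']; group] at e

/-- The square of `τ u τ` inverts the plane and commutes with `τ`. -/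
theorem invert_of_pair (hcomm : ∀ a b : W, a * b = b * a) {τ u : MulAut W} {z c : W}
    (hτz : τ z = z) (hτc : τ c = c * z) (huc : u c = c) (huz : u z = z * c⁻¹)
    (hτd : ∀ a, ∃ k : ℤ, τ a = a * z ^ k) (hud : ∀ a, ∃ k : ℤ, u a = a * c ^ k) :
    ((τ * u * τ) ^ 2) z = z⁻¹ ∧ (τ * u * τ) ^ 2 * τ = τ * (τ * u * τ) ^ 2 := by
  set w := τ * u * τ with hw
  have hwz : w z = c⁻¹ := by
    rw [hw, MulAut.mul_apply, MulAut.mul_apply, hτz, huz, map_mul, map_inv, hτz, hτc,
      mul_inv_rev, mul_inv_cancel_left]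
  have hwc : w c = z := by
    rw [hw, MulAut.mul_apply, MulAut.mul_apply, hτc, map_mul, huc, huz, hcomm z, mul_inv_cancel_left,
      hτz]
  have hw2z : (w ^ 2) z = z⁻¹ := by
    rw [pow_two, MulAut.mul_apply, hwz, map_inv, hwc]
  have hw2c : (w ^ 2) c = c⁻¹ := by
    rw [pow_two, MulAut.mul_apply, hwc, hwz]
  refine ⟨hw2z, hom_ext_of_pair hcomm hτz hτc huc huz hτd hud ?_ ?_ fun a h1 h2 => ?_⟩
  · simp only [MulAut.mul_apply, hτz, hw2z, map_inv]
  · simp only [MulAut.mul_apply, hτc, hw2c, map_inv, map_mul, hw2z]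
    rw [mul_inv_rev]
    exact hcomm _ _
  · have h3 : w a = a := by
      rw [hw, MulAut.mul_apply, MulAut.mul_apply, h1, h2, h1]
    simp only [MulAut.mul_apply, h1, pow_two, h3]

variable [Finite W] {p : ℕ} [Fact p.Prime]

/-- Automorphisms stabilizing `1 ≤ ⟨c⟩ ≤ L ≤ W` in an elementary abelian group have `p`-power
order. -/
theorem isPElement_of_stabilizer (hexp : ∀ a : W, a ^ p = 1) {x : MulAut W} {L : Subgroup W}
    {c : W} (hxc : x c = c) (hL : ∀ a ∈ L, ∃ k : ℤ, x a = a * c ^ k)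
    (hW : ∀ a, a⁻¹ * x a ∈ L) : x ^ (p * p) = 1 := by
  have hy : ∀ a ∈ L, (x ^ p) a = a := by
    intro a ha
    obtain ⟨k, hk⟩ := hL a ha
    rw [CfsgLib.PGroups.mulAut_iterate_eq x hk (by rw [map_zpow, hxc]), hexp, mul_one]
  have hxL : ∀ (n : ℕ) (a : W), a⁻¹ * (x ^ n) a ∈ L := by
    intro n
    induction n with
    | zero => intro a; simp
    | succ n ih =>
      intro a
      rw [pow_succ, MulAut.mul_apply]
      have := L.mul_mem (hW a) (ih (x a))
      rwa [mul_assoc, mul_inv_cancel_left] at this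
  refine MulEquiv.ext fun a => ?_
  rw [pow_mul, CfsgLib.PGroups.mulAut_iterate_eq (x ^ p) (x := a) (d := a⁻¹ * (x ^ p) a)
    (by group) (hy _ (hxL p a)), hexp, mul_one]
  rfl

end CfsgLib.FusionModels
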